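import Mathlib
import Cfsg.Agent.KFacts.RgdBorelTits
import Cfsg.Agent.FixBN.Cox
import Cfsg.Agent.FastGrp
import Cfsg.Agent.Prune
set_option linter.all false
prune_inst 0x7f00000000000000000000000000000000000000000000000000000000000000000000000000000000000000000000000000000000000000000000000000000000000000000000000000000000000000003fffffffffffffffffffffffffffbeffbdffffffff
open scoped Cfsg.Agent.FastGrp

-- part: H339/SymFive
section
/-!
# Overgroups of a Sylow 2-subgroup of the symmetric group of degree 5 (helper339, S3321)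
-/

set_option autoImplicit false
open Subgroup

namespace Cfsg.Agent.H339.SymFive

/-- the symmetric group of degree 5 -/
abbrev S5 := Equiv.Perm (Fin 5)

theorem card_S5 : Nat.card S5 = 120 := by
  rw [Nat.card_eq_fintype_card, Fintype.card_perm, Fintype.card_fin]
  rfl

theorem card_stab (a : Fin 5) : Nat.card (MulAction.stabilizer S5 a) = 24 := by
  classical
  have h1 := MulAction.card_orbit_mul_card_stabilizer_eq_card_group S5 a
  have h2 : MulAction.orbit S5 a = Set.univ := MulAction.orbit_eq_univ S5 a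
  have h3 : Fintype.card (MulAction.orbit S5 a) = 5 := by
    rw [Fintype.card_congr (Equiv.setCongr h2), Fintype.card_congr (Equiv.Set.univ _), Fintype.card_fin]
  rw [h3, Fintype.card_perm, Fintype.card_fin] at h1
  rw [Nat.card_eq_fintype_card]
  have h4 : (5 : ℕ).factorial = 120 := rfl
  omega

/-- the 4-cycle `(0 1 2 3)` -/
def c4 : S5 := ⟨![1, 2, 3, 0, 4], ![3, 0, 1, 2, 4], by decide, by decide⟩

theorem c4_pow : c4 ^ 4 = 1 := by decide

theorem c4_trans : ∀ b c : Fin 5, b ≠ 4 → c ≠ 4 → ∃ k : Fin 4, (c4 ^ (k : ℕ)) b = c := by decide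

/-- A Sylow 2-subgroup contains a conjugate of every 2-element. -/
theorem exists_conj_mem {G : Type*} [Group G] [Finite G] (S : Sylow 2 G) {x : G} {k : ℕ}
    (hx : x ^ 2 ^ k = 1) : ∃ g : G, g * x * g⁻¹ ∈ (S : Subgroup G) := by
  have h1 : IsPGroup 2 (Subgroup.zpowers x) := by
    rw [IsPGroup.iff_card]
    have h2 : Nat.card (Subgroup.zpowers x) ∣ 2 ^ k := by
      rw [Nat.card_zpowers]
      exact orderOf_dvd_of_pow_eq_one hx
    obtain ⟨m, -, hm⟩ := (Nat.dvd_prime_pow Nat.prime_two).mp h2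
    exact ⟨m, hm⟩
  obtain ⟨P, hP⟩ := h1.exists_le_sylow
  obtain ⟨g, hg⟩ := MulAction.exists_smul_eq G P S
  refine ⟨g, ?_⟩
  rw [← hg, Sylow.coe_subgroup_smul]
  exact Subgroup.smul_mem_pointwise_smul _ (MulAut.conj g) _ (hP (Subgroup.mem_zpowers x))

theorem card_sylow (S : Sylow 2 S5) : Nat.card (S : Subgroup S5) = 8 := by
  rw [Sylow.card_eq_multiplicity, card_S5]
  have : Nat.factorization 120 2 = 3 := by
    have h : (120 : ℕ) = 2 ^ 3 * 15 := by norm_num
    rw [h, Nat.factorization_mul (by norm_num) (by norm_num), Nat.Prime.factorization_pow Nat.prime_two]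
    simp only [Finsupp.add_apply, Finsupp.single_eq_same]
    rw [Nat.factorization_eq_zero_of_not_dvd (by norm_num)]
  rw [this]
  norm_num

theorem exists_cyc (S : Sylow 2 S5) : ∃ (a : Fin 5) (c : S5), c ∈ (S : Subgroup S5) ∧ c a = a ∧
    ∀ x y : Fin 5, x ≠ a → y ≠ a → ∃ k : ℕ, (c ^ k) x = y := by
  obtain ⟨g, hg⟩ := exists_conj_mem S (x := c4) (k := 2) c4_pow
  refine ⟨g 4, g * c4 * g⁻¹, hg, ?_, ?_⟩
  · simp only [Equiv.Perm.mul_apply, Equiv.Perm.inv_def, Equiv.symm_apply_apply]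
    rfl
  · intro x y hx hy
    obtain ⟨k, hk⟩ := c4_trans (g⁻¹ x) (g⁻¹ y) (by
      intro h; apply hx; rw [← h, Equiv.Perm.inv_def, Equiv.apply_symm_apply]) (by
      intro h; apply hy; rw [← h, Equiv.Perm.inv_def, Equiv.apply_symm_apply])
    refine ⟨k, ?_⟩
    rw [conj_pow, Equiv.Perm.mul_apply, Equiv.Perm.mul_apply, hk, Equiv.Perm.inv_def,
      Equiv.apply_symm_apply]

theorem exists_swap (S : Sylow 2 S5) : ∃ τ ∈ (S : Subgroup S5), Equiv.Perm.IsSwap τ := by
  obtain ⟨g, hg⟩ := exists_conj_mem S (x := Equiv.swap (0 : Fin 5) 1) (k := 1) (by decide)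
  refine ⟨_, hg, g 0, g 1, ?_, ?_⟩
  · intro h
    have := g.injective h
    exact absurd this (by decide)
  · ext x
    rw [Equiv.Perm.mul_apply, Equiv.Perm.mul_apply, Equiv.swap_apply_apply]
    rfl

/-- a subgroup moving the fixed point contains everything -/
theorem eq_top_of_moves (S : Sylow 2 S5) {a : Fin 5} {c : S5} (hc : c ∈ (S : Subgroup S5))
    (htr : ∀ x y : Fin 5, x ≠ a → y ≠ a → ∃ k : ℕ, (c ^ k) x = y) {Y : Subgroup S5}
    (hY : (S : Subgroup S5) ≤ Y) {g : S5} (hg : g ∈ Y) (hga : g a ≠ a) : Y = ⊤ := by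
  classical
  have h1 : MulAction.orbit Y a = Set.univ := by
    rw [Set.eq_univ_iff_forall]
    intro y
    by_cases hy : y = a
    · rw [hy]; exact MulAction.mem_orbit_self a
    · obtain ⟨k, hk⟩ := htr _ y hga hy
      exact ⟨⟨c ^ k * g, Y.mul_mem (Y.pow_mem (hY hc) k) hg⟩, hk⟩
  have h2 : 5 ∣ Nat.card Y := by
    have h3 := MulAction.card_orbit_mul_card_stabilizer_eq_card_group Y a
    have h4 : Fintype.card (MulAction.orbit Y a) = 5 := by
      rw [Fintype.card_congr (Equiv.setCongr h1), Fintype.card_congr (Equiv.Set.univ _), Fintype.card_fin]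
    rw [h4] at h3
    rw [Nat.card_eq_fintype_card]
    exact ⟨_, h3.symm⟩
  obtain ⟨τ, hτ, hτs⟩ := exists_swap S
  have h5 : (Fintype.card (Fin 5)).Prime := by rw [Fintype.card_fin]; norm_num
  exact Equiv.Perm.subgroup_eq_top_of_swap_mem h5 (by rw [Fintype.card_fin, ← Nat.card_eq_fintype_card]; exact h2)
    (hY hτ) hτs

theorem exists_four (S : Sylow 2 S5) : ∃ H : Subgroup S5, (S : Subgroup S5) ≤ H ∧ (S : Subgroup S5) ≠ H ∧
    H ≠ ⊤ ∧ ∀ Y : Subgroup S5, (S : Subgroup S5) ≤ Y → Y ≠ S → H ≤ Y := by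
  obtain ⟨a, c, hc, hca, htr⟩ := exists_cyc S
  have hSa : (S : Subgroup S5) ≤ MulAction.stabilizer S5 a := by
    intro s hs
    rw [MulAction.mem_stabilizer_iff]
    by_contra hsa
    have h1 := eq_top_of_moves S hc htr le_rfl hs hsa
    have h2 := card_sylow S
    rw [h1, Subgroup.card_top, card_S5] at h2
    omega
  refine ⟨MulAction.stabilizer S5 a, hSa, ?_, ?_, ?_⟩
  · intro h
    have h2 := card_sylow S
    rw [h, card_stab] at h2
    omega
  · intro h
    have h2 := card_stab a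
    rw [h, Subgroup.card_top, card_S5] at h2
    omega
  · intro Y hY hne
    by_cases hmv : ∃ g ∈ Y, g a ≠ a
    · obtain ⟨g, hg, hga⟩ := hmv
      rw [eq_top_of_moves S hc htr hY hg hga]
      exact le_top
    · push Not at hmv
      have hYa : Y ≤ MulAction.stabilizer S5 a := fun g hg => hmv g hg
      have h1 : Nat.card Y ∣ 24 := by rw [← card_stab a]; exact Subgroup.card_dvd_of_le hYa
      have h2 : 8 ∣ Nat.card Y := by rw [← card_sylow S]; exact Subgroup.card_dvd_of_le hY
      have h3 : Nat.card Y ≠ 8 := by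
        intro h
        exact hne (Subgroup.eq_of_le_of_card_ge hY (by rw [h, card_sylow])).symm
      obtain ⟨m, hm⟩ := h2
      have h4 : m ∣ 3 := by
        rw [hm] at h1
        have : (24 : ℕ) = 8 * 3 := by norm_num
        rw [this] at h1
        exact Nat.dvd_of_mul_dvd_mul_left (by norm_num) h1
      have h5 : m = 1 ∨ m = 3 := (Nat.dvd_prime (by norm_num)).mp h4
      rcases h5 with h5 | h5
      · subst h5; omega
      · subst h5
        exact (Subgroup.eq_of_le_of_card_ge hYa (by rw [hm, card_stab])).ge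

/-- The Sylow 2-subgroups are self-normalising. -/
theorem normalizer_le (S : Sylow 2 S5) : Subgroup.normalizer ((S : Subgroup S5) : Set S5) ≤ S := by
  by_contra hcon
  obtain ⟨a, c, hc, hca, htr⟩ := exists_cyc S
  have hSa : (S : Subgroup S5) ≤ MulAction.stabilizer S5 a := by
    intro s hs
    rw [MulAction.mem_stabilizer_iff]
    by_contra hsa
    have h1 := eq_top_of_moves S hc htr le_rfl hs hsa
    have h2 := card_sylow S
    rw [h1, Subgroup.card_top, card_S5] at h2
    omega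
  have hle : MulAction.stabilizer S5 a ≤ Subgroup.normalizer ((S : Subgroup S5) : Set S5) := by
    by_cases hmv : ∃ g ∈ Subgroup.normalizer ((S : Subgroup S5) : Set S5), g a ≠ a
    · obtain ⟨g, hg, hga⟩ := hmv
      rw [eq_top_of_moves S hc htr Subgroup.le_normalizer hg hga]
      exact le_top
    · push Not at hmv
      have hYa : Subgroup.normalizer ((S : Subgroup S5) : Set S5) ≤ MulAction.stabilizer S5 a :=
        fun g hg => hmv g hg
      have h1 : Nat.card (Subgroup.normalizer ((S : Subgroup S5) : Set S5)) ∣ 24 := by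
        rw [← card_stab a]; exact Subgroup.card_dvd_of_le hYa
      have h2 : 8 ∣ Nat.card (Subgroup.normalizer ((S : Subgroup S5) : Set S5)) := by
        rw [← card_sylow S]; exact Subgroup.card_dvd_of_le Subgroup.le_normalizer
      obtain ⟨m, hm⟩ := h2
      have h4 : m ∣ 3 := by
        rw [hm] at h1
        have : (24 : ℕ) = 8 * 3 := by norm_num
        rw [this] at h1
        exact Nat.dvd_of_mul_dvd_mul_left (by norm_num) h1
      have h5 : m = 1 ∨ m = 3 := (Nat.dvd_prime (by norm_num)).mp h4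
      rcases h5 with h5 | h5
      · subst h5
        exact absurd (Subgroup.eq_of_le_of_card_ge Subgroup.le_normalizer (by
          rw [hm, card_sylow])).ge hcon
      · subst h5
        exact (Subgroup.eq_of_le_of_card_ge hYa (by rw [hm, card_stab])).ge
  obtain ⟨τ, hτ, b, b', hbb, rfl⟩ := exists_swap S
  have hab : a ≠ b ∧ a ≠ b' := by
    have h1 : Equiv.swap b b' a = a := hSa hτ
    constructor
    · rintro rfl
      rw [Equiv.swap_apply_left] at h1
      exact hbb h1.symm
    · rintro rfl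
      rw [Equiv.swap_apply_right] at h1
      exact hbb h1
  -- a fourth point
  obtain ⟨d, hd⟩ : ∃ d : Fin 5, d ≠ a ∧ d ≠ b ∧ d ≠ b' := by
    have : ∀ a b b' : Fin 5, ∃ d : Fin 5, d ≠ a ∧ d ≠ b ∧ d ≠ b' := by decide
    exact this a b b'
  have h2 : Equiv.swap b' d ∈ MulAction.stabilizer S5 a := by
    rw [MulAction.mem_stabilizer_iff]
    change Equiv.swap b' d a = a
    exact Equiv.swap_apply_of_ne_of_ne hab.2 hd.1.symm
  have h3 := (Subgroup.mem_normalizer_iff.mp (hle h2) _).mp hτ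
  have h4 : Equiv.swap b' d * Equiv.swap b b' * (Equiv.swap b' d)⁻¹ = Equiv.swap b d := by
    rw [← Equiv.swap_apply_apply, Equiv.swap_apply_of_ne_of_ne hbb hd.2.1.symm,
      Equiv.swap_apply_left]
  rw [h4] at h3
  have h5 : Equiv.swap b b' * Equiv.swap b d ∈ (S : Subgroup S5) := mul_mem hτ h3
  have h6 : ∀ b b' d : Fin 5, b ≠ b' → d ≠ b → d ≠ b' →
      (Equiv.swap b b' * Equiv.swap b d) ^ 3 = 1 ∧ Equiv.swap b b' * Equiv.swap b d ≠ 1 := by
    decide
  obtain ⟨h7, h8⟩ := h6 b b' d hbb hd.2.1 hd.2.2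
  have h9 : orderOf (Equiv.swap b b' * Equiv.swap b d) ∣ 3 := orderOf_dvd_of_pow_eq_one h7
  obtain ⟨k, hk⟩ := S.isPGroup' ⟨_, h5⟩
  have h10 : orderOf (Equiv.swap b b' * Equiv.swap b d) ∣ 2 ^ k :=
    orderOf_dvd_of_pow_eq_one (congrArg Subtype.val hk)
  have h11 : Nat.Coprime 3 (2 ^ k) := Nat.Coprime.pow_right k (by norm_num)
  have h12 := Nat.eq_one_of_dvd_coprimes h11 h9 h10
  exact h8 (orderOf_eq_one_iff.mp h12)

end Cfsg.Agent.H339.SymFive
end

-- part: H339/RgdQuot
section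
/-!
# Parabolic subgroups of groups of Lie type have no quotient `S₅` (helper339, S3321)

The subgroups containing the Borel subgroup form a Boolean lattice (`no_chain`); the overgroups of a Sylow 2-subgroup
of `S₅` form a chain of length three.
-/

set_option autoImplicit false
set_option linter.unusedSectionVars false
set_option linter.style.haveILetI false

namespace Cfsg.Agent.H339.RgdQuot

open CoxeterSystem Cfsg.Agent.ChevalleyStructure.CoxeterGeom Cfsg.Agent.Tits.Roots Cfsg.Agent.Tits.Core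
  Cfsg.Agent.Nodes.Reps Cfsg.Agent.Nodes.BNOf
  Cfsg.Agent.Nodes.Bruhat Cfsg.Agent.Nodes.OppDec Cfsg.Agent.Nodes.LeviDec

variable {I W Y : Type*} [Fintype I] [DecidableEq I] [Group W] [Group Y] {M : CoxeterMatrix I}
  {cs : CoxeterSystem M W} {A : I → I → ℤ} {h : IsCartan M A} {p : ℕ} {T : Subgroup Y} {n : I → Y}
  {X : (I → ℤ) → Subgroup Y}

theorem n_mem_PJ_iff [Finite W] (R : RGD cs h p T n X) {J : Set I} {i : I} :
    n i ∈ PJ cs h T X J ↔ i ∈ J :=
  (cell_mem_PJ_iff R (cell_of_rp (rp_simple cs R.nsys i))).trans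
    ⟨fun h => Cfsg.Agent.FixBN.Cox.mem_of_simple_mem h, fun h => Cfsg.Agent.Tits.Exchange.simple_mem_WJ cs h⟩

/-- The overgroups of `B` contain no interval which is a chain with three elements. -/
theorem no_chain [Finite W] (R : RGD cs h p T n X) (hG : GG cs h T X = ⊤) {X1 X2 X3 : Subgroup Y}
    (h1 : RGD.B cs h T X ≤ X1) (h12 : X1 < X2) (h23 : X2 < X3)
    (hmin : ∀ P : Subgroup Y, X1 < P → P ≤ X3 → X2 ≤ P) : False := by
  have e : ∀ P : Subgroup Y, RGD.B cs h T X ≤ P → P = PJ cs h T X {i | n i ∈ P} := by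
    intro P hP
    have := inf_eq_PJ (R := R) hP
    rwa [hG, inf_top_eq] at this
  have key : ∀ P Q : Subgroup Y, RGD.B cs h T X ≤ P → P < Q → ∃ i, n i ∈ Q ∧ n i ∉ P := by
    intro P Q hP hPQ
    by_contra hcon
    push Not at hcon
    have h2 : {i | n i ∈ P} = {i | n i ∈ Q} := Set.ext fun i => ⟨fun hi => hPQ.le hi, hcon i⟩
    have h3 : P = Q := by rw [e P hP, e Q (hP.trans hPQ.le), h2]
    exact hPQ.ne h3
  obtain ⟨i, hi3, hi2⟩ := key X2 X3 (h1.trans h12.le) h23
  obtain ⟨j, hj2, hj1⟩ := key X1 X2 h1 h12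
  have hi1 : n i ∉ X1 := fun hh => hi2 (h12.le hh)
  have hP1 : X1 < X1 ⊔ Subgroup.zpowers (n i) := by
    refine lt_of_le_of_ne le_sup_left fun hh => hi1 ?_
    rw [hh]
    exact (le_sup_right : Subgroup.zpowers (n i) ≤ _) (Subgroup.mem_zpowers _)
  have hP3 : X1 ⊔ Subgroup.zpowers (n i) ≤ X3 :=
    sup_le (h12.le.trans h23.le) (by rw [Subgroup.zpowers_le]; exact hi3)
  have hP := hmin _ hP1 hP3
  have h4 : X1 ⊔ Subgroup.zpowers (n i) ≤ PJ cs h T X ({k | n k ∈ X1} ∪ {i}) := by
    refine sup_le ?_ ?_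
    · -- the standard parabolic subgroup contains `X1`
      have h5 := e (PJ cs h T X ({k | n k ∈ X1} ∪ {i})) B_le_PJ
      have h6 : ∀ P Q : Subgroup Y, RGD.B cs h T X ≤ P → RGD.B cs h T X ≤ Q →
          (∀ k, n k ∈ P → n k ∈ Q) → P ≤ Q := by
        intro P Q hP hQ hPQ
        have h7 : RGD.B cs h T X ≤ P ⊓ Q := le_inf hP hQ
        have h8 : {k | n k ∈ P ⊓ Q} = {k | n k ∈ P} :=
          Set.ext fun k => ⟨fun hk => hk.1, fun hk => ⟨hk, hPQ k hk⟩⟩
        have h9 : P ⊓ Q = P := by rw [e _ h7, h8, ← e P hP]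
        rw [← h9]; exact inf_le_right
      refine h6 _ _ h1 B_le_PJ fun k hk => ?_
      rw [n_mem_PJ_iff R]
      exact Or.inl hk
    · rw [Subgroup.zpowers_le, n_mem_PJ_iff R]
      exact Or.inr rfl
  have h5 := h4 (hP hj2)
  rw [n_mem_PJ_iff R] at h5
  rcases h5 with h5 | h5
  · exact hj1 h5
  · rw [Set.mem_singleton_iff] at h5
    subst h5
    exact hi2 hj2

/-- `S₅` is not a quotient of a parabolic subgroup, in characteristic two. -/
theorem no_S5 [Finite W] [Finite Y] (R : RGD cs h 2 T n X) (hG : GG cs h T X = ⊤) {P : Subgroup Y}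
    (hP : RGD.B cs h T X ≤ P) (ψ : ↥P →* SymFive.S5) (hψ : Function.Surjective ψ) : False := by
  have : Fact (Nat.Prime 2) := ⟨Nat.prime_two⟩
  set U := RGD.Sup X (RGD.Pos cs h) with hU
  have hUP : U ≤ P := le_trans RGD.U_le_B hP
  have hUp : IsPGroup 2 ↥U := R.isPGroup_Upos
  let Us : Sylow 2 ↥P :=
    { U.subgroupOf P with
      isPGroup' := hUp.comap_of_injective P.subtype P.subtype_injective
      is_maximal' := by
        intro Q hQ hle
        have h1 : IsPGroup 2 ↥(Q.map P.subtype) := hQ.map _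
        have h2 : U ≤ Q.map P.subtype := by
          intro u hu
          exact ⟨⟨u, hUP hu⟩, hle hu, rfl⟩
        have h3 := Nodes.NormalForm.eq_U_of_isPGroup R h1 h2 (by rw [hG]; exact le_top)
        apply le_antisymm _ hle
        intro x hx
        have h4 : (x : Y) ∈ Q.map P.subtype := ⟨x, hx, rfl⟩
        rw [h3] at h4
        exact h4 }
  let S : Sylow 2 SymFive.S5 := Us.mapSurjective hψ
  have hS : ∀ x : ↥P, (x : Y) ∈ U → ψ x ∈ (S : Subgroup SymFive.S5) := fun x hx => ⟨x, hx, rfl⟩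
  have hB : ∀ x : ↥P, (x : Y) ∈ RGD.B cs h T X → ψ x ∈ (S : Subgroup SymFive.S5) := by
    intro x hx
    apply SymFive.normalizer_le S
    have h1 := R.B_le_normalizer_U hx
    rw [Subgroup.mem_normalizer_iff] at h1 ⊢
    intro s
    constructor
    · rintro ⟨u, hu, rfl⟩
      refine ⟨x * u * x⁻¹, ?_, by simp⟩
      exact (h1 u).mp hu
    · rintro ⟨u, hu, e⟩
      refine ⟨x⁻¹ * u * x, ?_, ?_⟩
      · have h2 : (x : Y) * ((x⁻¹ * u * x : ↥P) : Y) * (x : Y)⁻¹ = u := by
          push_cast; group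
        have h3 : (x : Y) * ((x⁻¹ * u * x : ↥P) : Y) * (x : Y)⁻¹ ∈ U := by rw [h2]; exact hu
        exact (h1 _).mpr h3
      · change ψ (x⁻¹ * u * x) = s
        have h2 : ψ u = ψ x * s * (ψ x)⁻¹ := e
        rw [map_mul, map_mul, h2, map_inv]; group
  obtain ⟨H, hSH, hSne, hHt, hmin⟩ := SymFive.exists_four S
  have hinj := P.subtype_injective
  have hlt1 : ((S : Subgroup SymFive.S5).comap ψ).map P.subtype < (H.comap ψ).map P.subtype := by
    refine lt_of_le_of_ne (Subgroup.map_mono (Subgroup.comap_mono hSH)) fun hh => hSne ?_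
    exact Subgroup.comap_injective hψ (Subgroup.map_injective hinj hh)
  have hlt2 : (H.comap ψ).map P.subtype < P := by
    refine lt_of_le_of_ne ?_ fun hh => hHt ?_
    · rintro _ ⟨x, -, rfl⟩
      exact x.2
    · apply Subgroup.comap_injective hψ
      apply Subgroup.map_injective hinj
      rw [hh, Subgroup.comap_top, ← MonoidHom.range_eq_map, Subgroup.range_subtype]
  refine no_chain R hG (X1 := ((S : Subgroup SymFive.S5).comap ψ).map P.subtype)
    (X2 := (H.comap ψ).map P.subtype) (X3 := P) ?_ hlt1 hlt2 ?_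
  · intro b hb
    exact ⟨⟨b, hP hb⟩, hB ⟨b, hP hb⟩ hb, rfl⟩
  · intro Q hQ1 hQP
    have hle : (S : Subgroup SymFive.S5) ≤ (Q.subgroupOf P).map ψ := by
      intro s hs
      obtain ⟨x, rfl⟩ := hψ s
      exact ⟨x, hQ1.le ⟨x, hs, rfl⟩, rfl⟩
    have hne : (Q.subgroupOf P).map ψ ≠ S := by
      intro hh
      apply hQ1.not_ge
      intro q hq
      have : ψ ⟨q, hQP hq⟩ ∈ (Q.subgroupOf P).map ψ := ⟨⟨q, hQP hq⟩, hq, rfl⟩
      rw [hh] at this
      exact ⟨⟨q, hQP hq⟩, this, rfl⟩
    have h1 := hmin _ hle hne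
    rintro _ ⟨x, hx, rfl⟩
    obtain ⟨q, hq, e⟩ := h1 hx
    have h2 : (x * q⁻¹ : ↥P) ∈ (S : Subgroup SymFive.S5).comap ψ := by
      change ψ (x * q⁻¹) ∈ (S : Subgroup SymFive.S5)
      rw [map_mul, map_inv, e, mul_inv_cancel]
      exact one_mem _
    have h3 : ((x * q⁻¹ : ↥P) : Y) ∈ Q := hQ1.le ⟨_, h2, rfl⟩
    have h4 : (x : Y) = ((x * q⁻¹ : ↥P) : Y) * (q : Y) := by push_cast; group
    change (x : Y) ∈ Q
    rw [h4]
    exact Q.mul_mem h3 hq

end Cfsg.Agent.H339.RgdQuot
end
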