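import Cfsg.Agent.H339.SpIso
import Cfsg.Agent.Lib.Zsigmondy
import Mathlib
import Cfsg.Agent.S0730
import Cfsg.Agent.S0051
set_option linter.all false

-- part: H339/CoMap
section
/-!
# Transport of coordinates (helper339, S3324)
-/

set_option autoImplicit false
set_option linter.unusedSectionVars false
open Subgroup

namespace Cfsg.Agent.H339.Co

variable {G H F : Type*} [Group G] [Group H] [Field F] (K : Co G F)

/-- Transport along an injective homomorphism. -/
def map (f : G →* H) (hf : Function.Injective f) : Co H F where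
  a := fun s => f (K.a s)
  b := fun s => f (K.b s)
  c := fun s => f (K.c s)
  d := fun s => f (K.d s)
  h := fun s => f (K.h s)
  a_add := by intro s t; rw [K.a_add, map_mul]
  b_add := by intro s t; rw [K.b_add, map_mul]
  c_add := by intro s t; rw [K.c_add, map_mul]
  d_add := by intro s t; rw [K.d_add, map_mul]
  h_mul := by intro s t; rw [K.h_mul, map_mul]
  cb := by intro s t; rw [← map_mul, ← map_mul, K.cb]
  db := by intro s t; rw [← map_mul, ← map_mul, K.db]
  dc := by intro s t; rw [← map_mul, ← map_mul, K.dc]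
  ad := by intro s t; rw [← map_mul, ← map_mul, K.ad]
  ab := by intro s t; simp only [← map_mul]; rw [K.ab]
  ac := by intro s t; simp only [← map_mul]; rw [K.ac]
  ha := by intro s t; simp only [← map_mul]; rw [K.ha]
  hb := by intro s t; simp only [← map_mul]; rw [K.hb]
  hc := by intro s t; simp only [← map_mul]; rw [K.hc]
  hd := by intro s t; simp only [← map_mul]; rw [K.hd]
  inj := by
    intro t u v e
    simp only [← map_mul] at e
    apply K.inj
    apply hf
    rw [e, map_one]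

theorem map_m (f : G →* H) (hf : Function.Injective f) (t u v : F) :
    (K.map f hf).m t u v = f (K.m t u v) := by
  unfold m
  simp only [map_mul]
  rfl

theorem map_P (f : G →* H) (hf : Function.Injective f) : (K.map f hf).P = K.P.map f := by
  ext x
  constructor
  · rintro ⟨t, u, v, s, rfl⟩
    exact ⟨_, ⟨t, u, v, s, rfl⟩, by rw [map_m, map_mul]; rfl⟩
  · rintro ⟨_, ⟨t, u, v, s, rfl⟩, rfl⟩
    exact ⟨t, u, v, s, by rw [map_m, map_mul]; rfl⟩

/-- Restriction to a subgroup. -/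
def res (S : Subgroup G) (ha : ∀ s, K.a s ∈ S) (hb : ∀ s, K.b s ∈ S) (hc : ∀ s, K.c s ∈ S)
    (hd : ∀ s, K.d s ∈ S) (hh : ∀ s, K.h s ∈ S) : Co S F where
  a := fun s => ⟨K.a s, ha s⟩
  b := fun s => ⟨K.b s, hb s⟩
  c := fun s => ⟨K.c s, hc s⟩
  d := fun s => ⟨K.d s, hd s⟩
  h := fun s => ⟨K.h s, hh s⟩
  a_add := fun s t => Subtype.ext (K.a_add s t)
  b_add := fun s t => Subtype.ext (K.b_add s t)
  c_add := fun s t => Subtype.ext (K.c_add s t)
  d_add := fun s t => Subtype.ext (K.d_add s t)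
  h_mul := fun s t => Subtype.ext (K.h_mul s t)
  cb := fun s t => Subtype.ext (K.cb s t)
  db := fun s t => Subtype.ext (K.db s t)
  dc := fun s t => Subtype.ext (K.dc s t)
  ad := fun s t => Subtype.ext (K.ad s t)
  ab := fun s t => Subtype.ext (K.ab s t)
  ac := fun s t => Subtype.ext (K.ac s t)
  ha := fun s t => Subtype.ext (K.ha s t)
  hb := fun s t => Subtype.ext (K.hb s t)
  hc := fun s t => Subtype.ext (K.hc s t)
  hd := fun s t => Subtype.ext (K.hd s t)
  inj := fun t u v e => K.inj t u v (congrArg Subtype.val e)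

section res

variable {K} {S : Subgroup G} {ha : ∀ s, K.a s ∈ S} {hb : ∀ s, K.b s ∈ S} {hc : ∀ s, K.c s ∈ S}
    {hd : ∀ s, K.d s ∈ S} {hh : ∀ s, K.h s ∈ S}

theorem coe_res_m (t u v : F) : (((K.res S ha hb hc hd hh).m t u v : S) : G) = K.m t u v := rfl

theorem mem_res_M {x : S} : x ∈ (K.res S ha hb hc hd hh).M ↔ (x : G) ∈ K.M := by
  constructor
  · rintro ⟨t, u, v, rfl⟩
    exact ⟨t, u, v, rfl⟩
  · rintro ⟨t, u, v, e⟩
    exact ⟨t, u, v, Subtype.ext e⟩

theorem mem_res_Z {x : S} : x ∈ (K.res S ha hb hc hd hh).Z ↔ (x : G) ∈ K.Z := by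
  constructor
  · rintro ⟨v, rfl⟩
    exact ⟨v, rfl⟩
  · rintro ⟨v, e⟩
    exact ⟨v, Subtype.ext e⟩

theorem mem_res_P {x : S} : x ∈ (K.res S ha hb hc hd hh).P ↔ (x : G) ∈ K.P := by
  constructor
  · rintro ⟨t, u, v, s, rfl⟩
    exact ⟨t, u, v, s, rfl⟩
  · rintro ⟨t, u, v, s, e⟩
    exact ⟨t, u, v, s, Subtype.ext e⟩

end res

/-- The subgroup `a(F)`. -/
def A : Subgroup G where
  carrier := {x | ∃ s, x = K.a s}
  mul_mem' := by
    rintro _ _ ⟨t, rfl⟩ ⟨t', rfl⟩
    exact ⟨_, by rw [← K.a_add]⟩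
  one_mem' := ⟨0, K.a_zero.symm⟩
  inv_mem' := by
    rintro _ ⟨t, rfl⟩
    exact ⟨_, by rw [← K.a_neg]⟩

theorem M_le_P : K.M ≤ K.P := by
  rintro _ ⟨t, u, v, rfl⟩
  exact ⟨t, u, v, 0, by rw [K.a_zero, mul_one]⟩

theorem Z_le_M : K.Z ≤ K.M := by
  rintro _ ⟨v, rfl⟩
  exact ⟨0, 0, v, K.d_eq v⟩

theorem A_le_P : K.A ≤ K.P := by
  rintro _ ⟨s, rfl⟩
  exact ⟨0, 0, 0, s, by rw [K.m_zero, one_mul]⟩

theorem a_mem_M' (h2 : (2 : F) ≠ 0) {s : F} (h : K.a s ∈ K.M) : s = 0 := by
  obtain ⟨t, u, v, e⟩ := h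
  have e1 : K.m 0 0 0 * K.a s * K.h 1 = K.m t u v := by
    rw [K.m_zero, K.h_one, one_mul, mul_one, e]
  exact (K.e_eq_m h2 e1).1

theorem A_inf_M (h2 : (2 : F) ≠ 0) : K.A ⊓ K.M = ⊥ := by
  rw [eq_bot_iff]
  rintro x ⟨⟨s, rfl⟩, hx⟩
  rw [K.a_mem_M' h2 hx, K.a_zero]
  exact Subgroup.one_mem _

theorem M_sup_A : K.M ⊔ K.A = K.P := by
  apply le_antisymm
  · exact sup_le K.M_le_P K.A_le_P
  · rintro _ ⟨t, u, v, s, rfl⟩
    exact Subgroup.mul_mem_sup ⟨t, u, v, rfl⟩ ⟨s, rfl⟩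

theorem M_normal_P : ∀ x ∈ K.P, ∀ y ∈ K.M, x * y * x⁻¹ ∈ K.M := by
  rintro _ ⟨t, u, v, s, rfl⟩ _ ⟨t', u', v', rfl⟩
  have hr : K.m t u v * K.a s = K.m t u v * K.a s * K.h 1 := by rw [K.h_one, mul_one]
  rw [hr, K.e_m, mul_inv_cancel_right]
  exact K.m_mem _ _ _

/-- The index of `M` in `P`. -/
theorem relIndex_M_P [Finite F] (h2 : (2 : F) ≠ 0) [Finite G] :
    K.M.relIndex K.P = Nat.card F := by
  have h1 : Nat.card K.P = Nat.card F ^ 4 := by
    have e : (F × F × F × F) ≃ K.P := Equiv.ofBijective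
      (fun x => ⟨K.m x.1 x.2.1 x.2.2.1 * K.a x.2.2.2, ⟨_, _, _, _, rfl⟩⟩) ⟨by
        rintro ⟨t, u, v, s⟩ ⟨t', u', v', s'⟩ e
        have e1 : K.m t u v * K.a s = K.m t' u' v' * K.a s' := congrArg Subtype.val e
        have e2 : K.a (s + -s') = (K.m t u v)⁻¹ * K.m t' u' v' := by
          rw [K.a_add, K.a_neg, eq_inv_mul_iff_mul_eq, ← mul_assoc, e1, mul_inv_cancel_right]
        have e3 : K.a (s + -s') ∈ K.M := by
          rw [e2]
          exact K.M.mul_mem (K.M.inv_mem ⟨t, u, v, rfl⟩) ⟨t', u', v', rfl⟩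
        have e4 := K.a_mem_M' h2 e3
        have e5 : s = s' := by linear_combination e4
        subst e5
        obtain ⟨rfl, rfl, rfl⟩ := K.m_inj (mul_right_cancel e1)
        rfl, by
        rintro ⟨_, t, u, v, s, rfl⟩
        exact ⟨(t, u, v, s), rfl⟩⟩
    rw [← Nat.card_congr e, Nat.card_prod, Nat.card_prod, Nat.card_prod]
    ring
  have h3 := Subgroup.relIndex_mul_relIndex ⊥ K.M K.P bot_le K.M_le_P
  rw [Subgroup.relIndex_bot_left, Subgroup.relIndex_bot_left, h1, K.card_M, pow_succ] at h3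
  exact Nat.eq_of_mul_eq_mul_left (by have := Nat.card_pos (α := F); positivity) h3

/-- The uniqueness of `M` in `P`. -/
theorem eq_M [Finite F] [Finite G] (h2 : (2 : F) ≠ 0) {M : Subgroup G} (hMP : M ≤ K.P)
    (hMc : ∀ x ∈ M, ∀ y ∈ M, x * y = y * x) (hcard : Nat.card M = Nat.card F ^ 3) : M = K.M := by
  have hF : 1 < Nat.card F := Finite.one_lt_card
  suffices h : M ≤ K.M by
    apply Subgroup.eq_of_le_of_card_ge h
    rw [hcard, K.card_M]
  intro y hy
  by_contra hyM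
  obtain ⟨t, u, v, s, rfl⟩ := hMP hy
  have hs : s ≠ 0 := by
    rintro rfl
    apply hyM
    rw [K.a_zero, mul_one]
    exact K.m_mem _ _ _
  have h1 : K.M ⊓ M ≤ K.Z := by
    rintro _ ⟨⟨t', u', v', rfl⟩, hx⟩
    have h3 := hMc _ hy _ hx
    have hr : K.m t u v * K.a s = K.m t u v * K.a s * K.h 1 := by rw [K.h_one, mul_one]
    rw [hr, K.e_m] at h3
    obtain ⟨-, h4, h5⟩ := K.m_inj (mul_right_cancel h3)
    simp only [Units.val_one, one_mul] at h4 h5
    have ht : t' = 0 := by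
      have : s * t' = 0 := by linear_combination h4
      rcases mul_eq_zero.mp this with h | h
      · exact absurd h hs
      · exact h
    subst ht
    have hu : u' = 0 := by
      have : 2 * s * u' = 0 := by linear_combination h5
      rcases mul_eq_zero.mp this with h | h
      · rcases mul_eq_zero.mp h with h | h
        · exact absurd h h2
        · exact absurd h hs
      · exact h
    subst hu
    exact ⟨v', (K.d_eq v').symm⟩
  have h2' : Nat.card ↥(K.M ⊓ M) ≤ Nat.card F := by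
    rw [← K.card_Z]
    exact Subgroup.card_le_of_le h1
  have h3 : K.M.relIndex M ≤ Nat.card F := by
    rw [← K.relIndex_M_P h2]
    apply Subgroup.relIndex_le_of_le_right hMP
    rw [K.relIndex_M_P h2]
    omega
  have h4 := Subgroup.relIndex_mul_relIndex ⊥ (K.M ⊓ M) M bot_le inf_le_right
  rw [Subgroup.relIndex_bot_left, Subgroup.relIndex_bot_left, Subgroup.inf_relIndex_right,
    hcard] at h4
  have h5 : Nat.card ↥(K.M ⊓ M) * K.M.relIndex M ≤ Nat.card F * Nat.card F :=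
    Nat.mul_le_mul h2' h3
  rw [h4] at h5
  have h6 : Nat.card F ^ 3 = Nat.card F * Nat.card F * Nat.card F := by ring
  rw [h6] at h5
  have h7 : Nat.card F * Nat.card F * 1 < Nat.card F * Nat.card F * Nat.card F :=
    Nat.mul_lt_mul_of_pos_left hF (by positivity)
  omega

/-- Conjugates of elements centralising `Z` centralise `Z`. -/
theorem conj_comm' {k y : G} (hZ : cj k K.Z = K.Z) (hy : ∀ v, y * K.d v = K.d v * y) (v : F) :
    (k * y * k⁻¹) * K.d v = K.d v * (k * y * k⁻¹) := by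
  have h1 : K.d v ∈ cj k K.Z := by rw [hZ]; exact ⟨v, rfl⟩
  rw [mem_cj] at h1
  obtain ⟨v', hv'⟩ := h1
  have e : K.d v = k * K.d v' * k⁻¹ := by rw [← hv']; group
  rw [e]
  calc k * y * k⁻¹ * (k * K.d v' * k⁻¹) = k * (y * K.d v') * k⁻¹ := by group
    _ = k * (K.d v' * y) * k⁻¹ := by rw [hy]
    _ = _ := by group

/-- Elements fixing `Z` normalise `P = a(F) M`. -/
theorem conj_a' [Finite F] (cent : ∀ v, v ≠ 0 → ∀ g, g * K.d v = K.d v * g →
      ∃ t u v' s r, g = K.m t u v' * K.a s * K.h r) {k : G} (hZ : cj k K.Z = K.Z) (s : F) :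
    ∃ t u v s', k * K.a s * k⁻¹ = K.m t u v * K.a s' := by
  have hc := K.conj_comm' hZ (y := K.a s) (K.ad s) 1
  obtain ⟨t, u, v, s', r, e⟩ := cent 1 one_ne_zero _ hc
  refine ⟨t, u, v, s', ?_⟩
  suffices hr : r = 1 by rw [e, hr, K.h_one, mul_one]
  set y := k * K.a s * k⁻¹ with hy
  -- the action of powers of `y`
  have key : ∀ N : ℕ, ∀ u v : F, ∃ v', y ^ N * K.m 0 u v = K.m 0 ((r : F) ^ N * u) v' * y ^ N := by
    intro N
    induction N with
    | zero => intro u v; exact ⟨v, by simp⟩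
    | succ N ih =>
      intro u1 v1
      have h1 : ∃ v', y * K.m 0 u1 v1 = K.m 0 ((r : F) * u1) v' * y := by
        have h2 := K.e_m t u v s' r 0 u1 v1
        rw [← e] at h2
        simp only [mul_zero, add_zero] at h2
        exact ⟨_, h2⟩
      obtain ⟨v2, hv2⟩ := h1
      obtain ⟨v3, hv3⟩ := ih ((r : F) * u1) v2
      refine ⟨v3, ?_⟩
      rw [pow_succ, mul_assoc, hv2, ← mul_assoc, hv3, mul_assoc]
      congr 2
      ring
  have hpow : y ^ Nat.card F = 1 := by
    have h1 : ∀ N : ℕ, K.a s ^ N = K.a (N • s) := by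
      intro N
      induction N with
      | zero => simp [K.a_zero]
      | succ N ih => rw [pow_succ, ih, ← K.a_add, succ_nsmul]
    have h2 : K.a s ^ Nat.card F = 1 := by
      rw [h1, card_nsmul_eq_zero', K.a_zero]
    rw [hy, conj_pow, h2]
    group
  obtain ⟨v', hv'⟩ := key (Nat.card F) 1 0
  rw [hpow, one_mul, mul_one, mul_one] at hv'
  have h3 := (K.m_inj hv').2.1
  have h4 : r ^ Nat.card F = r := by
    have h5 : r ^ Nat.card Fˣ = 1 := pow_card_eq_one'
    rw [Nat.card_units] at h5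
    have h6 : Nat.card F = (Nat.card F - 1) + 1 := by
      have := Finite.one_lt_card (α := F)
      omega
    rw [h6, pow_succ, h5, one_mul]
  rw [← h4]
  apply Units.ext
  rw [Units.val_pow_eq_pow_val, ← h3, Units.val_one]

end Cfsg.Agent.H339.Co
end

-- part: H339/Pts
section
/-!
# The conjugates of the root group `Z` (helper339, S3324)
-/

set_option autoImplicit false
set_option linter.unusedSectionVars false
open Subgroup

namespace Cfsg.Agent.H339.Co

variable {G F : Type*} [Group G] [Field F] (K : Co G F)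

/-- The hypotheses. -/
structure Hyp : Prop where
  cent : ∀ v, v ≠ 0 → ∀ g, g * K.d v = K.d v * g → ∃ t u v' s r, g = K.m t u v' * K.a s * K.h r
  nrm : ∀ g, ∀ x ∈ K.M, g * x * g⁻¹ ∈ K.M
  nc : ∃ v, v ≠ 0 ∧ ∀ g, g * K.d 1 * g⁻¹ ≠ K.d v
  two : (2 : F) ≠ 0
  np : ∃ g, cj g K.Z ≠ K.Z

/-- The conjugates of `Z`. -/
def IsPt (S : Subgroup G) : Prop := ∃ g, S = cj g K.Z

variable {K}

theorem isPt_Z : K.IsPt K.Z := ⟨1, (cj_one _).symm⟩

theorem IsPt.cj {S : Subgroup G} (hS : K.IsPt S) (g : G) : K.IsPt (cj g S) := by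
  obtain ⟨g', rfl⟩ := hS
  exact ⟨g * g', (cj_mul _ _ _).symm⟩

theorem isPt_cj_iff {S : Subgroup G} (g : G) : K.IsPt (H339.cj g S) ↔ K.IsPt S := by
  constructor
  · intro h
    have := h.cj g⁻¹
    rwa [cj_inv_cj] at this
  · intro h
    exact h.cj g

theorem IsPt.card {S : Subgroup G} (hS : K.IsPt S) : Nat.card S = Nat.card F := by
  obtain ⟨g', rfl⟩ := hS
  rw [card_cj, K.card_Z]

namespace Hyp

variable (H : K.Hyp)

include H

/-- An element centralising a nontrivial element of a point centralises the point. -/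
theorem comm_pt {S : Subgroup G} (hS : K.IsPt S) {x : G} (hx : x ∈ S) (hx1 : x ≠ 1) {g : G}
    (hg : g * x = x * g) : ∀ y ∈ S, g * y = y * g := by
  obtain ⟨k, rfl⟩ := hS
  rw [mem_cj] at hx
  obtain ⟨v, hv⟩ := hx
  have hv0 : v ≠ 0 := by
    rintro rfl
    rw [K.d_zero] at hv
    apply hx1
    have : x = k * (k⁻¹ * x * k) * k⁻¹ := by group
    rw [this, hv]; group
  have hg' : (k⁻¹ * g * k) * K.d v = K.d v * (k⁻¹ * g * k) := by
    rw [← hv]
    calc k⁻¹ * g * k * (k⁻¹ * x * k) = k⁻¹ * (g * x) * k := by group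
      _ = _ := by rw [hg]; group
  obtain ⟨t, u, v', s, r, e⟩ := H.cent v hv0 _ hg'
  intro y hy
  rw [mem_cj] at hy
  obtain ⟨w, hw⟩ := hy
  have h3 : (k⁻¹ * g * k) * K.d w = K.d w * (k⁻¹ * g * k) := by
    rw [e, K.d_eq, K.e_m]
    simp
  have h4 : g = k * (k⁻¹ * g * k) * k⁻¹ := by group
  have h5 : y = k * (k⁻¹ * y * k) * k⁻¹ := by group
  rw [h4, h5, hw]
  calc k * (k⁻¹ * g * k) * k⁻¹ * (k * K.d w * k⁻¹) = k * ((k⁻¹ * g * k) * K.d w) * k⁻¹ := by group
    _ = k * (K.d w * (k⁻¹ * g * k)) * k⁻¹ := by rw [h3]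
    _ = _ := by group

/-- An element commuting with everything commuting with `d v` is in `Z`. -/
theorem mem_Z_of {v : F} (hv : v ≠ 0) {y : G}
    (hy : ∀ k, k * K.d v = K.d v * k → k * y = y * k) : y ∈ K.Z := by
  have h1 := hy (K.d v) rfl
  obtain ⟨t, u, v', s, r, e⟩ := H.cent v hv y h1.symm
  have h2 := hy (K.c 1) (K.dc 1 v).symm
  have h3 := hy (K.a 1) (K.ad 1 v)
  -- commutes with `c 1`
  rw [e, K.c_eq, K.e_m] at h2
  have h4 := mul_right_cancel h2
  simp only [mul_zero, mul_one, add_zero, zero_add] at h4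
  obtain ⟨-, h5, h6⟩ := K.m_inj h4
  have hr : r = 1 := Units.ext h5.symm
  subst hr
  have hs : s = 0 := by
    simp only [Units.val_one, mul_one] at h6
    rcases mul_eq_zero.mp h6.symm with h7 | h7
    · exact absurd h7 H.two
    · exact h7
  subst hs
  rw [K.a_zero, K.h_one, mul_one, mul_one] at e
  rw [e, K.a_m] at h3
  have h7 := mul_right_cancel h3
  obtain ⟨-, h8, h9⟩ := K.m_inj h7
  have ht : t = 0 := by linear_combination h8
  subst ht
  have hu : u = 0 := by
    have : 2 * u = 0 := by linear_combination h9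
    rcases mul_eq_zero.mp this with h7 | h7
    · exact absurd h7 H.two
    · exact h7
  subst hu
  exact ⟨v', by rw [e, K.d_eq]⟩

theorem ti_Z [Finite G] {S : Subgroup G} (hS : K.IsPt S) {x : G} (hx : x ∈ S) (hx1 : x ≠ 1)
    (hZ : x ∈ K.Z) : S = K.Z := by
  obtain ⟨v, rfl⟩ := hZ
  have hv : v ≠ 0 := by
    rintro rfl
    exact hx1 K.d_zero
  have h1 : S ≤ K.Z := by
    intro y hy
    apply H.mem_Z_of hv
    intro k hk
    exact H.comm_pt hS hx hx1 hk y hy
  exact Subgroup.eq_of_le_of_card_ge h1 (by rw [hS.card, K.card_Z])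

/-- Points meet trivially. -/
theorem ti [Finite G] {S S' : Subgroup G} (hS : K.IsPt S) (hS' : K.IsPt S') {x : G} (hx : x ∈ S)
    (hx' : x ∈ S') (hx1 : x ≠ 1) : S = S' := by
  obtain ⟨k, rfl⟩ := hS'
  have h1 : cj k⁻¹ S = K.Z := by
    apply H.ti_Z (x := k⁻¹ * x * k) (hS.cj _)
    · rw [mem_cj]
      have : k⁻¹⁻¹ * (k⁻¹ * x * k) * k⁻¹ = x := by group
      rwa [this]
    · intro e
      apply hx1
      have : x = k * (k⁻¹ * x * k) * k⁻¹ := by group
      rw [this, e]; group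
    · exact mem_cj.mp hx'
  rw [← h1, cj_cj_inv]

theorem cj_M (g : G) : cj g K.M = K.M := by
  have key : ∀ g : G, cj g K.M ≤ K.M := by
    intro g x hx
    rw [mem_cj] at hx
    have := H.nrm g _ hx
    have e : g * (g⁻¹ * x * g) * g⁻¹ = x := by group
    rwa [e] at this
  apply le_antisymm (key g)
  have := cj_mono (g := g) (key g⁻¹)
  rwa [cj_cj_inv] at this

theorem Z_le : K.Z ≤ K.M := by
  rintro _ ⟨v, rfl⟩
  exact ⟨0, 0, v, K.d_eq v⟩

theorem pt_le {S : Subgroup G} (hS : K.IsPt S) : S ≤ K.M := by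
  obtain ⟨g, rfl⟩ := hS
  have := cj_mono (g := g) (H.Z_le)
  rwa [H.cj_M] at this

theorem exists_ne_one [Finite G] [Finite F] {S : Subgroup G} (hS : K.IsPt S) : ∃ x ∈ S, x ≠ 1 := by
  by_contra hcon
  push Not at hcon
  have : S = ⊥ := by
    rw [eq_bot_iff]
    intro x hx
    rw [Subgroup.mem_bot]
    exact hcon x hx
  have h1 := hS.card
  rw [this, Subgroup.card_bot] at h1
  have := Finite.one_lt_card (α := F)
  omega

/-- `w ∈ c(F)` is not in a point. -/
theorem c_not_mem [Finite G] [Finite F] {S : Subgroup G} (hS : K.IsPt S) {u : F}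
    (hu : u ≠ 0) : K.c u ∉ S := by
  intro hc
  have hc1 : K.c u ≠ 1 := by
    intro e
    rw [K.c_eq] at e
    exact hu (K.m_eq_one e).2.1
  -- `τ = h (-1)` normalises `S`
  have hτ : cj (K.h (-1)) S = S := by
    apply H.ti (hS.cj _) hS (x := (K.c u)⁻¹)
    · have h1 := conj_mem_cj (g := K.h (-1)) hc
      have h2 : K.h (-1) * K.c u * (K.h (-1))⁻¹ = (K.c u)⁻¹ := by
        rw [K.hc, mul_inv_cancel_right, K.c_eq, K.c_eq, K.m_inv]
        simp
      rwa [h2] at h1
    · exact S.inv_mem hc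
    · simpa using hc1
  -- fixed points of `τ` on `S` are trivial
  have hfix : ∀ y ∈ S, K.h (-1) * y = y * K.h (-1) → y = 1 := by
    intro y hy hcy
    by_contra hy1
    have h1 := H.comm_pt hS hy hy1 hcy _ hc
    rw [K.hc] at h1
    have h2 := mul_right_cancel h1
    rw [K.c_eq, K.c_eq] at h2
    have h3 := (K.m_inj h2).2.1
    simp only [Units.val_neg, Units.val_one, neg_mul, one_mul] at h3
    apply hu
    have : 2 * u = 0 := by linear_combination -h3
    rcases mul_eq_zero.mp this with h7 | h7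
    · exact absurd h7 H.two
    · exact h7
  have hSc : ∀ y ∈ S, ∃ w, y = K.c w := by
    intro y hy
    obtain ⟨t, w, v, rfl⟩ := H.pt_le hS hy
    have h1 : K.h (-1) * K.m t w v * (K.h (-1))⁻¹ ∈ S := by
      have := conj_mem_cj (g := K.h (-1)) hy
      rwa [hτ] at this
    rw [K.h_m, mul_inv_cancel_right] at h1
    simp only [Units.val_neg, Units.val_one, neg_mul, one_mul, neg_neg] at h1
    have h2 := S.mul_mem hy h1
    rw [K.m_mul, add_neg_cancel] at h2
    have h3 := hfix _ h2 (by rw [K.h_m]; simp)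
    obtain ⟨h4, -, h5⟩ := K.m_eq_one h3
    have h6 : t = 0 := by
      have : 2 * t = 0 := by linear_combination h4
      rcases mul_eq_zero.mp this with h7 | h7
      · exact absurd h7 H.two
      · exact h7
    have h8 : v = 0 := by
      have : 2 * v = 0 := by linear_combination h5
      rcases mul_eq_zero.mp this with h7 | h7
      · exact absurd h7 H.two
      · exact h7
    subst h6 h8
    exact ⟨w, by rw [K.c_eq]⟩
  -- all the elements of `Z` are conjugate
  obtain ⟨g, rfl⟩ := hS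
  obtain ⟨v, hv, hnc⟩ := H.nc
  obtain ⟨u₁, h1⟩ := hSc (g * K.d 1 * g⁻¹) (conj_mem_cj ⟨1, rfl⟩)
  obtain ⟨u₂, h2⟩ := hSc (g * K.d v * g⁻¹) (conj_mem_cj ⟨v, rfl⟩)
  have hu1 : u₁ ≠ 0 := by
    rintro rfl
    rw [K.c_zero] at h1
    apply K.d_ne_one (one_ne_zero)
    have : K.d 1 = g⁻¹ * (g * K.d 1 * g⁻¹) * g := by group
    rw [this, h1]; group
  have hu2 : u₂ ≠ 0 := by
    rintro rfl
    rw [K.c_zero] at h2
    apply K.d_ne_one hv
    have : K.d v = g⁻¹ * (g * K.d v * g⁻¹) * g := by group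
    rw [this, h2]; group
  have h3 := K.hc (Units.mk0 (u₂ / u₁) (div_ne_zero hu2 hu1)) u₁
  rw [Units.val_mk0, div_mul_cancel₀ _ hu1, ← h1, ← h2] at h3
  apply hnc (g⁻¹ * K.h (Units.mk0 (u₂ / u₁) (div_ne_zero hu2 hu1)) * g)
  have h4 : K.h (Units.mk0 (u₂ / u₁) (div_ne_zero hu2 hu1)) * (g * K.d 1 * g⁻¹) *
      (K.h (Units.mk0 (u₂ / u₁) (div_ne_zero hu2 hu1)))⁻¹ = g * K.d v * g⁻¹ := by
    rw [h3]; group
  have h5 : K.d v = g⁻¹ * (g * K.d v * g⁻¹) * g := by group
  rw [h5, ← h4]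
  group

/-- Nontrivial elements of the other points have nonzero `b`-coordinate. -/
theorem coord_ne [Finite G] [Finite F] {S : Subgroup G} (hS : K.IsPt S) (hne : S ≠ K.Z)
    {t u v : F} (hx : K.m t u v ∈ S) (hx1 : K.m t u v ≠ 1) : t ≠ 0 := by
  rintro rfl
  by_cases hu : u = 0
  · subst hu
    exact hne (H.ti_Z hS hx hx1 ⟨v, by rw [K.d_eq]⟩)
  · have h1 := conj_mem_cj (g := K.a (-v / (2 * u))) hx
    rw [K.a_m, mul_inv_cancel_right] at h1
    have h2 : v + 2 * (-v / (2 * u)) * u + -v / (2 * u) * (-v / (2 * u)) * 0 = 0 := by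
      have := H.two
      field_simp
      ring
    have h3 : u + -v / (2 * u) * 0 = u := by ring
    rw [h2, h3, ← K.c_eq] at h1
    exact H.c_not_mem (hS.cj _) hu h1

theorem h_neg_comm_D {x : G} (hx : x ∈ K.D) : K.h (-1) * x = x * K.h (-1) := by
  obtain ⟨t, v, rfl⟩ := hx
  rw [K.h_m]
  simp

theorem mem_D_of_comm {x : G} (hx : x ∈ K.M) (h1 : K.h (-1) * x = x * K.h (-1)) : x ∈ K.D := by
  obtain ⟨t, u, v, rfl⟩ := hx
  rw [K.h_m] at h1
  have h2 := mul_right_cancel h1
  obtain ⟨-, h3, -⟩ := K.m_inj h2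
  simp only [Units.val_neg, Units.val_one, neg_mul, one_mul] at h3
  have : 2 * u = 0 := by linear_combination -h3
  rcases mul_eq_zero.mp this with h7 | h7
  · exact absurd h7 H.two
  · exact ⟨t, v, by rw [h7]⟩

theorem le_D_of_mem [Finite G] [Finite F] {S : Subgroup G} (hS : K.IsPt S) {x : G} (hx : x ∈ S)
    (hx1 : x ≠ 1) (hD : x ∈ K.D) : S ≤ K.D := by
  intro y hy
  apply H.mem_D_of_comm (H.pt_le hS hy)
  exact H.comm_pt hS hx hx1 (H.h_neg_comm_D hD) y hy

theorem Z_le_D : K.Z ≤ K.D := by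
  rintro _ ⟨v, rfl⟩
  exact ⟨0, v, K.d_eq v⟩

theorem cj_a_Z (s : F) : cj (K.a s) K.Z = K.Z := by
  apply cj_eq_of_comm
  rintro _ ⟨v, rfl⟩
  exact K.ad s v

theorem cj_h_Z (r : Fˣ) : cj (K.h r) K.Z = K.Z := by
  apply cj_eq_of_comm
  rintro _ ⟨v, rfl⟩
  exact K.hd r v

/-- Every point other than `Z` is conjugate under `a(F)` to a point in `D`. -/
theorem exists_le_D [Finite G] [Finite F] {S : Subgroup G} (hS : K.IsPt S) (hne : S ≠ K.Z) :
    ∃ s, cj (K.a s) S ≤ K.D := by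
  obtain ⟨x, hx, hx1⟩ := H.exists_ne_one hS
  obtain ⟨t, u, v, rfl⟩ := H.pt_le hS hx
  have ht := H.coord_ne hS hne hx hx1
  refine ⟨-u / t, ?_⟩
  have h1 := conj_mem_cj (g := K.a (-u / t)) hx
  rw [K.a_m, mul_inv_cancel_right] at h1
  apply H.le_D_of_mem (hS.cj _) h1
  · intro e
    exact ht (K.m_eq_one e).1
  · refine ⟨t, v + 2 * (-u / t) * u + -u / t * (-u / t) * t, ?_⟩
    have : u + -u / t * t = 0 := by field_simp; ring
    rw [this]

theorem eq_zero_of_le_D [Finite G] [Finite F] {S : Subgroup G} (hS : K.IsPt S) (hne : S ≠ K.Z)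
    (hD : S ≤ K.D) {s : F} (hs : cj (K.a s) S ≤ K.D) : s = 0 := by
  obtain ⟨x, hx, hx1⟩ := H.exists_ne_one hS
  obtain ⟨t, v, rfl⟩ := hD hx
  have ht := H.coord_ne hS hne hx hx1
  have h1 := conj_mem_cj (g := K.a s) hx
  rw [K.a_m, mul_inv_cancel_right] at h1
  obtain ⟨t', v', e⟩ := hs h1
  have := (K.m_inj e).2.1
  rw [zero_add] at this
  rcases mul_eq_zero.mp this with h7 | h7
  · exact h7
  · exact absurd h7 ht

/-- Every value of the `b`-coordinate occurs exactly once. -/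
theorem exists_coord [Finite G] [Finite F] {S : Subgroup G} (hS : K.IsPt S) (hne : S ≠ K.Z)
    (hD : S ≤ K.D) (t : F) : ∃ v, K.m t 0 v ∈ S := by
  classical
  -- the coordinate map is injective
  choose f g hfg using fun x : S => K.mem_D.mp (hD x.2)
  have hinj : Function.Injective f := by
    intro x y e
    have h1 : (x : G) * (y : G)⁻¹ ∈ S := S.mul_mem x.2 (S.inv_mem y.2)
    rw [hfg x, hfg y, K.m_inv, K.m_mul, e, add_neg_cancel] at h1
    by_contra hxy
    apply H.coord_ne hS hne h1 _ rfl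
    intro e2
    apply hxy
    apply Subtype.ext
    rw [hfg x, hfg y, e]
    obtain ⟨-, -, e3⟩ := K.m_eq_one e2
    have : g x = g y := by linear_combination e3
    rw [this]
  have hbij : Function.Bijective f := by
    have := Finite.of_injective _ hinj
    exact (Nat.bijective_iff_injective_and_card f).mpr ⟨hinj, hS.card⟩
  obtain ⟨x, hx⟩ := hbij.2 t
  refine ⟨g x, ?_⟩
  rw [← hx, ← hfg x]
  exact x.2

theorem coord_unique [Finite G] [Finite F] {S : Subgroup G} (hS : K.IsPt S) (hne : S ≠ K.Z)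
    {t u v v' u' : F} (h1 : K.m t u v ∈ S) (h2 : K.m t u' v' ∈ S) : u = u' ∧ v = v' := by
  have h3 := S.mul_mem h1 (S.inv_mem h2)
  rw [K.m_inv, K.m_mul, add_neg_cancel] at h3
  by_cases e : K.m 0 (u + -u') (v + -v') = 1
  · obtain ⟨-, e1, e2⟩ := K.m_eq_one e
    exact ⟨by linear_combination e1, by linear_combination e2⟩
  · exact absurd rfl (H.coord_ne hS hne h3 e)

end Hyp

end Cfsg.Agent.H339.Co
end

-- part: H339/Count
section
/-!
# Counting the conjugates of the root group `Z` (helper339, S3324)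
-/

set_option autoImplicit false
set_option linter.unusedSectionVars false
open Subgroup

namespace Cfsg.Agent.H339

theorem card_dvd_of_free {A X : Type*} [Group A] [Finite A] [Finite X] [MulAction A X]
    (h : ∀ a : A, ∀ x : X, a • x = x → a = 1) : Nat.card A ∣ Nat.card X := by
  classical
  rw [Nat.card_congr (MulAction.selfEquivSigmaOrbitsQuotientStabilizer A X)]
  have := Fintype.ofFinite (Quotient (MulAction.orbitRel A X))
  rw [Nat.card_sigma]
  refine Finset.dvd_sum fun w _ => ?_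
  have h1 : MulAction.stabilizer A (w.out : X) = ⊥ := by
    rw [eq_bot_iff]
    intro a ha
    exact h a _ (MulAction.mem_stabilizer_iff.1 ha)
  rw [h1, ← Subgroup.index, Subgroup.index_bot]

theorem arith {h k : ℕ} (hh : 1 ≤ h) (hodd : h % 2 = 1) (hk1 : 1 ≤ k) (hk : k ≤ 2 * h + 1)
    (hd : k + 1 ∣ (2 * h + 1) * (1 + (2 * h + 1) * k)) (hm : h ∣ k ∨ h ∣ k - 1)
    (hne : k ≠ 2 * h) : k = 1 := by
  rcases hm with ⟨j, hj⟩ | ⟨j, hj⟩
  · -- `k = h j`
    have hj3 : j ≤ 3 := by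
      by_contra hcon
      push Not at hcon
      have : h * 4 ≤ h * j := Nat.mul_le_mul_left h hcon
      omega
    have hj0 : j ≠ 0 := by rintro rfl; omega
    obtain rfl | rfl | rfl : j = 1 ∨ j = 2 ∨ j = 3 := by omega
    · rw [mul_one] at hj
      subst hj
      have h1 : (k : ℕ) + 1 ∣ 2 := by
        have h2 : (2 * k + 1) * (1 + (2 * k + 1) * k) + 2 = (k + 1) * (4 * k * k + 3) := by ring
        have h3 : k + 1 ∣ (2 * k + 1) * (1 + (2 * k + 1) * k) + 2 := by rw [h2]; exact ⟨_, rfl⟩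
        exact (Nat.dvd_add_right hd).mp h3
      have := Nat.le_of_dvd (by norm_num) h1
      omega
    · omega
    · have : h = 1 := by omega
      subst this
      subst hj
      norm_num at hd
  · have hj2 : j ≤ 2 := by
      by_contra hcon
      push Not at hcon
      have : h * 3 ≤ h * j := Nat.mul_le_mul_left h hcon
      omega
    obtain rfl | rfl | rfl : j = 0 ∨ j = 1 ∨ j = 2 := by omega
    · omega
    · have hk' : k = h + 1 := by omega
      subst hk'
      have h1 : h + 2 ∣ 12 := by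
        have h2 : (2 * h + 1) * (1 + (2 * h + 1) * (h + 1)) + 12 = (h + 2) * (4 * h * h + 7) := by
          ring
        have h3 : h + 2 ∣ (2 * h + 1) * (1 + (2 * h + 1) * (h + 1)) + 12 := by
          rw [h2]; exact ⟨_, rfl⟩
        exact (Nat.dvd_add_right hd).mp h3
      have h4 := Nat.le_of_dvd (by norm_num) h1
      have h5 : h ≤ 10 := by omega
      clear hd
      interval_cases h <;> omega
    · have hk' : k = 2 * h + 1 := by omega
      subst hk'
      have h1 : 2 * h + 1 + 1 ∣ 2 := by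
        have h2 : (2 * h + 1) * (1 + (2 * h + 1) * (2 * h + 1)) + 2 =
          (2 * h + 1 + 1) * (4 * h * h + 2 * h + 2) := by ring
        have h3 : 2 * h + 1 + 1 ∣ (2 * h + 1) * (1 + (2 * h + 1) * (2 * h + 1)) + 2 := by
          rw [h2]; exact ⟨_, rfl⟩
        exact (Nat.dvd_add_right hd).mp h3
      have := Nat.le_of_dvd (by norm_num) h1
      omega

namespace Co

variable {G F : Type*} [Group G] [Field F] (K : Co G F)

/-- The set of points. -/
def Pts : Set (Subgroup G) := {S | K.IsPt S}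

/-- The points other than `Z` in `D`. -/
def E : Set (Subgroup G) := {S | K.IsPt S ∧ S ≠ K.Z ∧ S ≤ K.D}

/-- The subgroup `b(F)`. -/
def X : Subgroup G where
  carrier := {x | ∃ t, x = K.b t}
  mul_mem' := by
    rintro _ _ ⟨v, rfl⟩ ⟨v', rfl⟩
    exact ⟨_, (K.b_add _ _).symm⟩
  one_mem' := ⟨0, K.b_zero.symm⟩
  inv_mem' := by
    rintro _ ⟨v, rfl⟩
    refine ⟨-v, ?_⟩
    rw [K.b_eq, K.b_eq, K.m_inv, neg_zero]

theorem mem_X {x : G} : x ∈ K.X ↔ ∃ t, x = K.b t := Iff.rfl

theorem b_inj {v v' : F} (e : K.b v = K.b v') : v = v' := by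
  rw [K.b_eq, K.b_eq] at e
  exact (K.m_inj e).1

theorem card_X : Nat.card K.X = Nat.card F := by
  have e : F ≃ K.X := Equiv.ofBijective
    (fun x => ⟨K.b x, ⟨x, rfl⟩⟩) ⟨by
      intro v v' e
      exact K.b_inj (congrArg Subtype.val e), by
      rintro ⟨_, v, rfl⟩
      exact ⟨v, rfl⟩⟩
  rw [← Nat.card_congr e]

theorem cj_h_X (r : Fˣ) : cj (K.h r) K.X = K.X := by
  have key : ∀ r : Fˣ, cj (K.h r) K.X ≤ K.X := by
    rintro r x hx
    rw [mem_cj] at hx
    obtain ⟨t, ht⟩ := hx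
    refine ⟨(r : F) * r * t, ?_⟩
    have : x = K.h r * ((K.h r)⁻¹ * x * K.h r) * (K.h r)⁻¹ := by group
    rw [this, ht, K.hb]
    group
  apply le_antisymm (key r)
  have := cj_mono (g := K.h r) (key r⁻¹)
  rwa [← cj_mul, ← K.h_mul, mul_inv_cancel, K.h_one, cj_one] at this

theorem cj_h_D (r : Fˣ) : cj (K.h r) K.D = K.D := by
  have key : ∀ r : Fˣ, cj (K.h r) K.D ≤ K.D := by
    rintro r x hx
    rw [mem_cj] at hx
    obtain ⟨t, v, ht⟩ := hx
    refine ⟨(r : F) * r * t, v, ?_⟩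
    have : x = K.h r * ((K.h r)⁻¹ * x * K.h r) * (K.h r)⁻¹ := by group
    rw [this, ht, K.h_m, mul_zero]
    group
  apply le_antisymm (key r)
  have := cj_mono (g := K.h r) (key r⁻¹)
  rwa [← cj_mul, ← K.h_mul, mul_inv_cancel, K.h_one, cj_one] at this

variable {K}

namespace Hyp

variable (H : K.Hyp) [Finite G] [Finite F]

include H

theorem E_cj_h {S : Subgroup G} (hS : S ∈ K.E) (r : Fˣ) : cj (K.h r) S ∈ K.E := by
  obtain ⟨h1, h2, h3⟩ := hS
  refine ⟨h1.cj _, ?_, ?_⟩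
  · intro e
    rw [← H.cj_h_Z r] at e
    exact h2 (cj_inj e)
  · have := cj_mono (g := K.h r) h3
    rwa [K.cj_h_D] at this

omit [Finite G] [Finite F] in
theorem eq_Z_of_cj_a {s : F} {S : Subgroup G} (e : cj (K.a s) S = K.Z) : S = K.Z :=
  cj_inj (e.trans (H.cj_a_Z s).symm)

theorem E_nonempty : K.E.Nonempty := by
  obtain ⟨g, hg⟩ := H.np
  have h1 : K.IsPt (cj g K.Z) := ⟨g, rfl⟩
  obtain ⟨s, hs⟩ := H.exists_le_D h1 hg
  refine ⟨cj (K.a s) (cj g K.Z), h1.cj _, ?_, hs⟩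
  intro e
  exact hg (H.eq_Z_of_cj_a e)

theorem card_Pts : Nat.card K.Pts = 1 + Nat.card F * Nat.card K.E := by
  classical
  have e : Option (F × K.E) ≃ K.Pts := Equiv.ofBijective
    (fun o => o.elim ⟨K.Z, isPt_Z⟩ (fun x => ⟨cj (K.a x.1) x.2.1, x.2.2.1.cj _⟩)) ⟨by
      rintro (_ | ⟨s, S, hS1, hS2, hS3⟩) (_ | ⟨s', S', hS1', hS2', hS3'⟩) e
      · rfl
      · exfalso
        have e1 : K.Z = cj (K.a s') S' := congrArg Subtype.val e
        exact hS2' (H.eq_Z_of_cj_a e1.symm)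
      · exfalso
        have e1 : cj (K.a s) S = K.Z := congrArg Subtype.val e
        exact hS2 (H.eq_Z_of_cj_a e1)
      · have e1 : cj (K.a s) S = cj (K.a s') S' := congrArg Subtype.val e
        have e2 : cj (K.a (-s' + s)) S = S' := by
          rw [K.a_add, cj_mul, e1, K.a_neg, cj_inv_cj]
        have e3 : -s' + s = 0 := by
          apply H.eq_zero_of_le_D hS1 hS2 hS3
          rw [e2]
          exact hS3'
        have e4 : s = s' := by linear_combination e3
        subst e4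
        have e5 := cj_inj e1
        subst e5
        rfl, by
      rintro ⟨S, hS⟩
      by_cases hZ : S = K.Z
      · subst hZ
        exact ⟨none, rfl⟩
      · obtain ⟨s, hs⟩ := H.exists_le_D hS hZ
        refine ⟨some (-s, ⟨cj (K.a s) S, hS.cj _, ?_, hs⟩), ?_⟩
        · intro e
          exact hZ (H.eq_Z_of_cj_a e)
        · apply Subtype.ext
          change cj (K.a (-s)) (cj (K.a s) S) = S
          rw [K.a_neg, cj_inv_cj]⟩
  rw [← Nat.card_congr e, Finite.card_option, Nat.card_prod, add_comm]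

/-- Two points generate: a subgroup of order `q²` containing two points is determined. -/
theorem eq_of_two {S S' T T' : Subgroup G} (hS : K.IsPt S) (hS' : K.IsPt S') (hne : S ≠ S')
    (hT : Nat.card T = Nat.card F ^ 2) (hT' : Nat.card T' = Nat.card F ^ 2)
    (h1 : S ≤ T) (h2 : S' ≤ T) (h3 : S ≤ T') (h4 : S' ≤ T') : T = T' := by
  classical
  let f : S × S' → T := fun x => ⟨x.1 * x.2, T.mul_mem (h1 x.1.2) (h2 x.2.2)⟩
  have hf : Function.Injective f := by
    rintro ⟨x, y⟩ ⟨x', y'⟩ e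
    have e1 : (x : G) * y = x' * y' := congrArg Subtype.val e
    have e2 : (x' : G)⁻¹ * x = y' * (y : G)⁻¹ := by
      rw [inv_mul_eq_iff_eq_mul, ← mul_assoc, ← e1]; group
    have e3 : (x' : G)⁻¹ * x = 1 := by
      by_contra hcon
      apply hne
      apply H.ti hS hS' (S.mul_mem (S.inv_mem x'.2) x.2) _ hcon
      rw [e2]
      exact S'.mul_mem y'.2 (S'.inv_mem y.2)
    have e4 : x = x' := Subtype.ext (by rw [inv_mul_eq_one] at e3; exact e3.symm)
    have e5 : y = y' := Subtype.ext (by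
      rw [e3] at e2
      have := (mul_inv_eq_one.mp e2.symm)
      exact this.symm)
    rw [e4, e5]
  have hb : Function.Bijective f := by
    apply (Nat.bijective_iff_injective_and_card f).mpr
    refine ⟨hf, ?_⟩
    rw [Nat.card_prod, hS.card, hS'.card, hT]
    ring
  have hle : T ≤ T' := by
    intro x hx
    obtain ⟨⟨y, z⟩, e⟩ := hb.2 ⟨x, hx⟩
    have : (y : G) * z = x := congrArg Subtype.val e
    rw [← this]
    exact T'.mul_mem (h3 y.2) (h4 z.2)
  exact Subgroup.eq_of_le_of_card_ge hle (by rw [hT, hT'])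

theorem card_dvd : Nat.card K.E + 1 ∣ Nat.card F * Nat.card K.Pts := by
  classical
  letI := Fintype.ofFinite F
  letI := Fintype.ofFinite (Subgroup G)
  let s : Finset (Subgroup G) := Finset.univ.filter (fun S => K.IsPt S)
  let t : Finset (Subgroup G) := Finset.univ.filter (fun T => ∃ g, T = cj g K.D)
  obtain ⟨S₁, hS1, hS2, hS3⟩ := H.E_nonempty
  -- the conjugates of `D` containing `Z`
  have keyZ : ∀ T, (∃ g, T = cj g K.D) → K.Z ≤ T → ∃ s, T = cj (K.a s) K.D := by
    rintro T ⟨g, rfl⟩ hT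
    -- a point other than `Z`
    obtain ⟨S₂, h1, h2, h3⟩ : ∃ S₂, K.IsPt S₂ ∧ S₂ ≠ K.Z ∧ S₂ ≤ cj g K.D := by
      by_cases e : cj g K.Z = K.Z
      · refine ⟨cj g S₁, hS1.cj _, ?_, cj_mono hS3⟩
        intro e2
        rw [← e] at e2
        exact hS2 (cj_inj e2)
      · exact ⟨cj g K.Z, ⟨g, rfl⟩, e, cj_mono H.Z_le_D⟩
    obtain ⟨s, hs⟩ := H.exists_le_D h1 h2
    refine ⟨-s, ?_⟩
    have e1 : K.D = cj (K.a s) (cj g K.D) := by
      symm
      apply H.eq_of_two (isPt_Z (K := K)) (h1.cj (K.a s))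
      · intro e2
        exact h2 (H.eq_Z_of_cj_a e2.symm)
      · rw [card_cj, card_cj, K.card_D]
      · exact K.card_D
      · have := cj_mono (g := K.a s) hT
        rwa [H.cj_a_Z] at this
      · exact cj_mono h3
      · exact H.Z_le_D
      · exact hs
    conv_rhs => rw [e1, K.a_neg, cj_inv_cj]
  have hDs : ∀ s, cj (K.a s) K.D = K.D → s = 0 := by
    intro s hs
    apply H.eq_zero_of_le_D hS1 hS2 hS3
    have := cj_mono (g := K.a s) hS3
    rwa [hs] at this
  have hm : ∀ S ∈ s, (t.bipartiteAbove (fun S T => S ≤ T) S).card = Nat.card F := by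
    intro S hS
    obtain ⟨g, rfl⟩ : K.IsPt S := by simpa [s] using hS
    have e1 : t.bipartiteAbove (fun S T => S ≤ T) (cj g K.Z) =
        Finset.univ.image (fun x : F => cj g (cj (K.a x) K.D)) := by
      ext T
      simp only [Finset.bipartiteAbove, t, Finset.mem_filter, Finset.mem_univ, true_and,
        Finset.mem_image]
      constructor
      · rintro ⟨⟨g', rfl⟩, h2⟩
        obtain ⟨x, hx⟩ := keyZ (cj (g⁻¹ * g') K.D) ⟨_, rfl⟩ (by
          have := cj_mono (g := g⁻¹) h2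
          rwa [cj_inv_cj, ← cj_mul] at this)
        refine ⟨x, ?_⟩
        rw [← hx, ← cj_mul]
        congr 1
        group
      · rintro ⟨x, rfl⟩
        refine ⟨⟨g * K.a x, (cj_mul g (K.a x) K.D).symm⟩, ?_⟩
        apply cj_mono
        have := cj_mono (g := K.a x) H.Z_le_D
        rwa [H.cj_a_Z] at this
    rw [e1, Finset.card_image_of_injective, Finset.card_univ, Nat.card_eq_fintype_card]
    intro x y e
    have e2 : cj (K.a x) K.D = cj (K.a y) K.D := cj_inj e
    have e3 : cj (K.a (-y + x)) K.D = K.D := by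
      rw [K.a_add, cj_mul, e2, K.a_neg, cj_inv_cj]
    have := hDs _ e3
    linear_combination this
  have hn : ∀ T ∈ t, (s.bipartiteBelow (fun S T => S ≤ T) T).card = Nat.card K.E + 1 := by
    intro T hT
    obtain ⟨g, rfl⟩ : ∃ g, T = cj g K.D := by simpa [t] using hT
    have e1 : s.bipartiteBelow (fun S T => S ≤ T) (cj g K.D) =
        (insert K.Z (K.E.toFinite.toFinset)).image (cj g) := by
      ext S
      simp only [Finset.bipartiteBelow, s, Finset.mem_filter, Finset.mem_univ, true_and,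
        Finset.mem_image, Finset.mem_insert, Set.Finite.mem_toFinset]
      constructor
      · rintro ⟨h1, h2⟩
        refine ⟨cj g⁻¹ S, ?_, cj_cj_inv _ _⟩
        by_cases e : cj g⁻¹ S = K.Z
        · exact Or.inl e
        · right
          refine ⟨h1.cj _, e, ?_⟩
          have := cj_mono (g := g⁻¹) h2
          rwa [cj_inv_cj] at this
      · rintro ⟨S', h1, rfl⟩
        rcases h1 with rfl | ⟨h1, h2, h3⟩
        · exact ⟨⟨g, rfl⟩, cj_mono H.Z_le_D⟩
        · exact ⟨h1.cj _, cj_mono h3⟩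
    rw [e1, Finset.card_image_of_injective _ (fun _ _ e => cj_inj e), Finset.card_insert_of_notMem]
    · congr 1
      rw [← Set.ncard_eq_toFinset_card, Nat.card_coe_set_eq]
    · rw [Set.Finite.mem_toFinset]
      rintro ⟨-, h, -⟩
      exact h rfl
  have := Finset.card_mul_eq_card_mul _ hm hn
  have hs : s.card = Nat.card K.Pts := by
    rw [Nat.card_coe_set_eq, ← Set.ncard_coe_finset]
    congr 1
    ext S
    simp [s, Pts]
  rw [hs] at this
  rw [mul_comm (Nat.card F), this]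
  exact ⟨_, mul_comm _ _⟩

theorem card_E_le : Nat.card K.E ≤ Nat.card F := by
  choose f hf using fun S : K.E => H.exists_coord S.2.1 S.2.2.1 S.2.2.2 1
  apply Nat.card_le_card_of_injective f
  intro S S' e
  apply Subtype.ext
  have h1 := hf S
  rw [e] at h1
  apply H.ti S.2.1 S'.2.1 h1 (hf S')
  intro e2
  exact one_ne_zero (K.m_eq_one e2).1

end Hyp

end Co

/-- The squares. -/
def Sq (F : Type*) [Field F] : Subgroup Fˣ := (powMonoidHom 2 : Fˣ →* Fˣ).range

theorem card_Sq {F : Type*} [Field F] [Finite F] (h2 : (2 : F) ≠ 0) :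
    Nat.card (Sq F) * 2 = Nat.card F - 1 := by
  have h1 := Subgroup.card_mul_index (powMonoidHom 2 : Fˣ →* Fˣ).ker
  rw [Subgroup.index_ker] at h1
  have h3 : Nat.card (powMonoidHom 2 : Fˣ →* Fˣ).ker = 2 := by
    have e : ((powMonoidHom 2 : Fˣ →* Fˣ).ker : Set Fˣ) = {1, -1} := by
      ext x
      simp only [SetLike.mem_coe, MonoidHom.mem_ker, powMonoidHom_apply, Set.mem_insert_iff,
        Set.mem_singleton_iff]
      rw [Units.ext_iff, Units.ext_iff, Units.ext_iff, Units.val_pow_eq_pow_val, Units.val_one,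
        Units.val_neg, Units.val_one, sq, mul_self_eq_one_iff]
    have e2 : Nat.card (powMonoidHom 2 : Fˣ →* Fˣ).ker =
      (((powMonoidHom 2 : Fˣ →* Fˣ).ker : Set Fˣ)).ncard := (Nat.card_coe_set_eq _)
    rw [e2, e, Set.ncard_pair]
    intro e3
    apply h2
    have e4 := congrArg (fun x : Fˣ => (x : F)) e3
    simp only [Units.val_one, Units.val_neg] at e4
    linear_combination e4
  rw [h3, Nat.card_units] at h1
  change 2 * Nat.card (Sq F) = _ at h1
  rw [mul_comm, h1]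

namespace Co
namespace Hyp

variable {G F : Type*} [Group G] [Field F] {K : Co G F} (H : K.Hyp) [Finite G] [Finite F]

include H

/-- Only `±1` fixes a point in `D` other than `Z` and `b(F)`. -/
theorem sq_eq_one_of_fix {S : Subgroup G} (hS : S ∈ K.E) (hX : S ≠ K.X) {r : Fˣ}
    (hr : cj (K.h r) S = S) : (r : F) * r = 1 := by
  by_contra hne
  apply hX
  symm
  apply Subgroup.eq_of_le_of_card_ge _ (by rw [hS.1.card, K.card_X])
  rintro _ ⟨t, rfl⟩
  have hne' : (r : F) * r - 1 ≠ 0 := fun e => hne (by linear_combination e)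
  obtain ⟨v, hv⟩ := H.exists_coord hS.1 hS.2.1 hS.2.2 (t / ((r : F) * r - 1))
  have h1 := conj_mem_cj (g := K.h r) hv
  rw [hr, K.h_m, mul_inv_cancel_right] at h1
  have h2 := S.mul_mem h1 (S.inv_mem hv)
  rw [K.m_inv, K.m_mul, add_neg_cancel, mul_zero, neg_zero, add_zero] at h2
  have h3 : (r : F) * r * (t / ((r : F) * r - 1)) + -(t / ((r : F) * r - 1)) = t := by
    have h4 : (r : F) * r * (t / ((r : F) * r - 1)) + -(t / ((r : F) * r - 1)) =
      ((r : F) * r - 1) * (t / ((r : F) * r - 1)) := by ring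
    rw [h4, mul_div_cancel₀ _ hne']
  rwa [h3, ← K.b_eq] at h2

theorem dvd_card_E (hm1 : ¬ IsSquare (-1 : F)) :
    Nat.card (Sq F) ∣ Nat.card K.E ∨ Nat.card (Sq F) ∣ Nat.card K.E - 1 := by
  classical
  let X1 := {S : Subgroup G // S ∈ K.E ∧ S ≠ K.X}
  letI : MulAction (Sq F) X1 :=
    { smul := fun x S => ⟨cj (K.h x) S.1, H.E_cj_h S.2.1 _, fun e => S.2.2
        (cj_inj (e.trans (K.cj_h_X x).symm))⟩
      one_smul := fun S => Subtype.ext (by
        change cj (K.h ((1 : Sq F) : Fˣ)) S.1 = S.1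
        rw [Subgroup.coe_one, K.h_one, cj_one])
      mul_smul := fun x y S => Subtype.ext (by
        change cj (K.h ((x * y : Sq F) : Fˣ)) S.1 = cj (K.h x) (cj (K.h y) S.1)
        rw [Subgroup.coe_mul, K.h_mul, cj_mul]) }
  have h1 : Nat.card (Sq F) ∣ Nat.card X1 := by
    apply card_dvd_of_free
    intro x S e
    have e1 : cj (K.h x) S.1 = S.1 := congrArg Subtype.val e
    have e2 := H.sq_eq_one_of_fix S.2.1 S.2.2 e1
    obtain ⟨y, hy⟩ := x.2
    apply Subtype.ext
    apply Units.ext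
    rw [Subgroup.coe_one, Units.val_one]
    rcases mul_self_eq_one_iff.mp e2 with h | h
    · exact h
    · exfalso
      apply hm1
      refine ⟨y, ?_⟩
      rw [← h, ← hy, powMonoidHom_apply, Units.val_pow_eq_pow_val, sq]
  by_cases hX : K.X ∈ K.E
  · right
    have h2 : Nat.card K.E = Nat.card X1 + 1 := by
      have e : Nat.card X1 = (K.E \ {K.X}).ncard := by
        rw [← Nat.card_coe_set_eq]
        rfl
      rw [e, Nat.card_coe_set_eq, Set.ncard_sdiff_singleton_add_one hX]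
    rw [h2, Nat.add_sub_cancel]
    exact h1
  · left
    have h2 : Nat.card K.E = Nat.card X1 := by
      refine Nat.card_congr (Equiv.subtypeEquivRight fun S => ?_)
      constructor
      · intro h
        exact ⟨h, fun e => hX (e ▸ h)⟩
      · exact fun h => h.1
    rw [h2]
    exact h1

theorem card_Pts_dvd : Nat.card K.Pts ∣ Nat.card G := by
  classical
  letI : MulAction G (Subgroup G) :=
    { smul := cj
      one_smul := cj_one
      mul_smul := cj_mul }
  have h1 := Subgroup.card_mul_index (MulAction.stabilizer G K.Z)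
  rw [MulAction.index_stabilizer] at h1
  have h2 : (MulAction.orbit G K.Z).ncard = Nat.card K.Pts := by
    rw [Nat.card_coe_set_eq]
    congr 1
    ext S
    constructor
    · rintro ⟨g, rfl⟩
      exact ⟨g, rfl⟩
    · rintro ⟨g, rfl⟩
      exact ⟨g, rfl⟩
  rw [h2] at h1
  exact ⟨_, by rw [mul_comm]; exact h1.symm⟩

/-- A primitive prime divisor of `p ^ (6 n) - 1` does not divide the order of `G`. -/
theorem not_dvd_card {p n r : ℕ} (hp : p.Prime) (hn : 1 ≤ n) (hF : Nat.card F = p ^ n)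
    (hr : r.Prime) (hrd : ∀ m, r ∣ p ^ m - 1 ↔ 6 * n ∣ m) (hrp : ¬ r ∣ p) : ¬ r ∣ Nat.card G := by
  intro hrG
  classical
  haveI := Fact.mk hr
  haveI := Fact.mk hp
  obtain ⟨g, hg⟩ := exists_prime_orderOf_dvd_card' r hrG
  haveI hMn : K.M.Normal := ⟨fun x hx g => H.nrm g x hx⟩
  have hM3 : Nat.card K.M = p ^ (n * 3) := by rw [K.card_M, hF, pow_mul]
  -- `g` centralises `M`
  have hcent : ∀ x ∈ K.M, g * x = x * g := by
    letI : MulAction (Subgroup.zpowers g) K.M :=
      MulAction.compHom K.M ((MulAut.conjNormal (H := K.M)).comp (Subgroup.zpowers g).subtype)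
    have hpg : IsPGroup r (Subgroup.zpowers g) := by
      apply IsPGroup.of_card (n := 1)
      rw [Nat.card_zpowers, hg, pow_one]
    have hmod := hpg.card_modEq_card_fixedPoints (α := K.M)
    -- the fixed points form a subgroup
    let C : Subgroup K.M := (Subgroup.centralizer {g}).subgroupOf K.M
    have hC : Nat.card (MulAction.fixedPoints (Subgroup.zpowers g) K.M) = Nat.card C := by
      refine Nat.card_congr (Equiv.subtypeEquivRight fun x => ?_)
      rw [MulAction.mem_fixedPoints, Subgroup.mem_subgroupOf, Subgroup.mem_centralizer_singleton_iff]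
      constructor
      · intro h
        have h1 := congrArg Subtype.val (h ⟨g, Subgroup.mem_zpowers g⟩)
        have h2 : g * (x : G) * g⁻¹ = x := h1
        rw [mul_inv_eq_iff_eq_mul] at h2
        exact h2.symm
      · rintro h ⟨_, k, rfl⟩
        apply Subtype.ext
        change (g ^ k) * (x : G) * (g ^ k)⁻¹ = x
        have h3 : Commute g (x : G) := h.symm
        have h4 : (g ^ k) * (x : G) = x * g ^ k := (h3.zpow_left k)
        rw [h4, mul_inv_cancel_right]
    rw [hC, hM3] at hmod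
    obtain ⟨j, hj, hj2⟩ := (Nat.dvd_prime_pow hp).mp (hM3 ▸ Subgroup.card_subgroup_dvd_card C)
    rw [hj2] at hmod
    have h5 : r ∣ p ^ (n * 3) - p ^ j := (Nat.modEq_iff_dvd' (Nat.pow_le_pow_right hp.pos hj)).mp
      hmod.symm
    have h6 : p ^ (n * 3) - p ^ j = p ^ j * (p ^ (n * 3 - j) - 1) := by
      rw [Nat.mul_sub, mul_one, ← pow_add]
      congr 2
      omega
    rw [h6] at h5
    have h7 : r ∣ p ^ (n * 3 - j) - 1 := by
      rcases hr.dvd_mul.mp h5 with h | h
      · exact absurd (hr.dvd_of_dvd_pow h) hrp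
      · exact h
    have h8 := (hrd _).mp h7
    have h9 : n * 3 - j = 0 := by
      by_contra hne
      have := Nat.le_of_dvd (Nat.pos_of_ne_zero hne) h8
      omega
    have h10 : j = n * 3 := by omega
    have h11 : C = ⊤ := by
      apply Subgroup.eq_top_of_card_eq
      rw [hj2, h10, hM3]
    intro x hx
    have h12 : (⟨x, hx⟩ : K.M) ∈ C := by rw [h11]; exact Subgroup.mem_top _
    rw [Subgroup.mem_subgroupOf, Subgroup.mem_centralizer_singleton_iff] at h12
    exact h12.symm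
  have h1 : g ∈ K.M := by
    obtain ⟨t, u, v, s, r', e⟩ := H.cent 1 one_ne_zero g (by
      have := hcent (K.d 1) ⟨0, 0, 1, K.d_eq 1⟩
      exact this)
    have h2 := hcent (K.c 1) ⟨0, 1, 0, K.c_eq 1⟩
    rw [e, K.c_eq, K.e_m] at h2
    have h4 := mul_right_cancel h2
    simp only [mul_zero, mul_one, add_zero, zero_add] at h4
    obtain ⟨-, h5, h6⟩ := K.m_inj h4
    have hr' : r' = 1 := Units.ext h5
    subst hr'
    have hs : s = 0 := by
      simp only [Units.val_one, mul_one] at h6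
      rcases mul_eq_zero.mp h6 with h7 | h7
      · exact absurd h7 H.two
      · exact h7
    subst hs
    rw [K.a_zero, K.h_one, mul_one, mul_one] at e
    exact ⟨t, u, v, e⟩
  have h2 : orderOf (⟨g, h1⟩ : K.M) ∣ Nat.card K.M := orderOf_dvd_natCard _
  rw [Subgroup.orderOf_mk, hg, hM3] at h2
  exact hrp (hr.dvd_of_dvd_pow h2)

theorem card_E_ne {p n : ℕ} (hp : p.Prime) (hp2 : p ≠ 2) (hn : 1 ≤ n)
    (hF : Nat.card F = p ^ n) : Nat.card K.E ≠ Nat.card F - 1 := by
  intro hE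
  obtain ⟨r, hr, hrd, -, hrp⟩ := Cfsg.Agent.Lib.Zsigmondy.exists_primitive (a := p) (n := 6 * n)
    hp.two_le (by omega) (fun h => by omega) (fun h => hp2 h.1)
  apply H.not_dvd_card hp hn hF hr hrd hrp
  refine dvd_trans ?_ H.card_Pts_dvd
  rw [H.card_Pts, hE, hF]
  have h1 : r ∣ p ^ (6 * n) - 1 := (hrd _).mpr dvd_rfl
  have h2 : ¬ r ∣ p ^ (3 * n) - 1 := by
    rw [hrd]
    intro h
    have := Nat.le_of_dvd (by omega) h
    omega
  have h3 : ¬ r ∣ p ^ (2 * n) - 1 := by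
    rw [hrd]
    intro h
    have := Nat.le_of_dvd (by omega) h
    omega
  have e3 : p ^ (3 * n) = (p ^ n) ^ 3 := by rw [← pow_mul, mul_comm]
  have e2 : p ^ (2 * n) = (p ^ n) ^ 2 := by rw [← pow_mul, mul_comm]
  have e6 : p ^ (6 * n) = (p ^ n) ^ 6 := by rw [← pow_mul, mul_comm]
  rw [e6] at h1
  rw [e3] at h2
  rw [e2] at h3
  have hq : 1 ≤ p ^ n := Nat.one_le_pow _ _ hp.pos
  generalize p ^ n = q at h1 h2 h3 hq
  obtain ⟨k, rfl⟩ : ∃ k, q = k + 1 := ⟨q - 1, by omega⟩
  have f6 : (k + 1) ^ 6 - 1 = ((k + 1) ^ 3 - 1) * ((k + 1) + 1) * (1 + (k + 1) * (k + 1 - 1)) := by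
    zify [Nat.one_le_pow 6 (k + 1) (by omega), Nat.one_le_pow 3 (k + 1) (by omega)]
    simp only [Nat.add_sub_cancel]
    ring
  have f2 : (k + 1) ^ 2 - 1 = (k + 1 + 1) * k := by
    zify [Nat.one_le_pow 2 (k + 1) (by omega)]
    ring
  rw [f6] at h1
  rcases hr.dvd_mul.mp h1 with h | h
  · exfalso
    rcases hr.dvd_mul.mp h with h | h
    · exact h2 h
    · apply h3
      rw [f2]
      exact Dvd.dvd.mul_right h k
  · exact h

/-- **There is exactly one point other than `Z` in `D`.** -/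
theorem card_E {p n : ℕ} (hp : p.Prime) (hp2 : p ≠ 2) (hn : 1 ≤ n)
    (hF : Nat.card F = p ^ n) (h4 : p ^ n % 4 = 3) (hm1 : ¬ IsSquare (-1 : F)) :
    Nat.card K.E = 1 := by
  have h1 := card_Sq H.two
  have h2 := H.card_dvd
  rw [H.card_Pts] at h2
  have h3 := H.card_E_le
  have h5 := H.card_E_ne hp hp2 hn hF
  have h6 := H.dvd_card_E hm1
  have h7 : 1 ≤ Nat.card K.E := by
    obtain ⟨S, hS⟩ := H.E_nonempty
    haveI : Nonempty K.E := ⟨⟨S, hS⟩⟩
    exact Nat.card_pos
  rw [hF] at h1 h2 h3 h5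
  generalize Nat.card K.E = k at *
  generalize Nat.card (Sq F) = h at *
  generalize p ^ n = q at *
  have hq : q = 2 * h + 1 := by omega
  subst hq
  exact arith (by omega) (by omega) h7 h3 h2 h6 (by omega)

end Hyp

end Co

end Cfsg.Agent.H339
end

-- part: H339/Sharp
section
/-!
# A group acting 2-transitively with central kernel: `PGL₂(q) × C_{(q-1)/2}` (helper339, S3324)
-/

set_option autoImplicit false
open Subgroup

namespace Cfsg.Agent.H339.Sharp

/-- A ring isomorphism induces an isomorphism of the groups `PGL₂`. -/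
theorem nonempty_pgl_congr {K L : Type*} [Field K] [Field L] (e : K ≃+* L) :
    Nonempty (Matrix.ProjGenLinGroup (Fin 2) K ≃* Matrix.ProjGenLinGroup (Fin 2) L) := by
  let E : Matrix.GeneralLinearGroup (Fin 2) K ≃* Matrix.GeneralLinearGroup (Fin 2) L :=
    Units.mapEquiv (RingEquiv.toMulEquiv (RingEquiv.mapMatrix e))
  refine ⟨QuotientGroup.congr _ _ E ?_⟩
  ext x
  constructor
  · rintro ⟨y, hy, rfl⟩
    rw [SetLike.mem_coe, Subgroup.mem_center_iff] at hy
    rw [Subgroup.mem_center_iff]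
    intro g
    obtain ⟨g', rfl⟩ := E.surjective g
    have := congrArg E (hy g')
    simpa using this
  · intro hx
    rw [Subgroup.mem_center_iff] at hx
    refine ⟨E.symm x, ?_, by simp⟩
    rw [SetLike.mem_coe, Subgroup.mem_center_iff]
    intro g
    have := congrArg E.symm (hx (E g))
    simpa using this

theorem inv_app {Ω : Type*} (e : Equiv.Perm Ω) (x : Ω) : e⁻¹ (e x) = x := e.symm_apply_apply x

theorem app_inv {Ω : Type*} (e : Equiv.Perm Ω) (x : Ω) : e (e⁻¹ x) = x := e.apply_symm_apply x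

variable {Q Ω F : Type*} [Group Q] [Field F]

/-- The situation: `Φ` a permutation representation, `i = ∞`, `z = 0`. -/
structure Dat (Φ : Q →* Equiv.Perm Ω) (a : F → Q) (h : Fˣ → Q) (n : Q) (i z : Ω) : Prop where
  ne : i ≠ z
  a_add : ∀ s t, a (s + t) = a s * a t
  h_mul : ∀ r r', h (r * r') = h r * h r'
  a_i : ∀ s, Φ (a s) i = i
  h_i : ∀ r, Φ (h r) i = i
  h_z : ∀ r, Φ (h r) z = z
  ex : ∀ ω, ω ≠ i → ∃ s, Φ (a s) z = ω
  inj : ∀ s, Φ (a s) z = z → s = 0
  ha : ∀ (r : Fˣ) (s : F), h r * a s = a ((↑r⁻¹ : F) * s) * h r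
  nrm : ∀ k, Φ k i = i → ∀ s, ∃ s', k * a s = a s' * k
  com : ∀ k, Φ k i = i → Φ k z = z → ∀ r, k * h r = h r * k
  n_i : Φ n i = z
  n_z : Φ n z = i

namespace Dat

variable {Φ : Q →* Equiv.Perm Ω} {a : F → Q} {h : Fˣ → Q} {n : Q} {i z : Ω}
  (D : Dat Φ a h n i z)

include D

theorem a_zero : a 0 = 1 := by
  have := D.a_add 0 0
  rw [add_zero] at this
  exact (mul_eq_left.mp this.symm)

theorem a_neg (s : F) : a (-s) = (a s)⁻¹ := by
  rw [eq_inv_iff_mul_eq_one, ← D.a_add, neg_add_cancel, D.a_zero]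

theorem h_one : h 1 = 1 := by
  have := D.h_mul 1 1
  rw [mul_one] at this
  exact (mul_eq_left.mp this.symm)

theorem h_inv (r : Fˣ) : h r⁻¹ = (h r)⁻¹ := by
  rw [eq_inv_iff_mul_eq_one, ← D.h_mul, inv_mul_cancel, D.h_one]

theorem a_inj {s t : F} (e : Φ (a s) z = Φ (a t) z) : s = t := by
  have : Φ (a (-t + s)) z = z := by
    rw [D.a_add, map_mul, Equiv.Perm.mul_apply, e, D.a_neg, map_inv, inv_app]
  have := D.inj _ this
  linear_combination this

/-- `K₀` acts linearly. -/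
theorem lin {k : Q} (hi : Φ k i = i) (hz : Φ k z = z) :
    ∃ μ : Fˣ, ∀ s, k * a s = a ((μ : F) * s) * k := by
  obtain ⟨μ, hμ⟩ := D.nrm k hi 1
  have hμ0 : μ ≠ 0 := by
    rintro rfl
    rw [D.a_zero, one_mul] at hμ
    have h1 : a 1 = 1 := (mul_eq_left.mp hμ)
    have := D.inj 1 (by rw [h1, map_one, Equiv.Perm.one_apply])
    exact one_ne_zero this
  refine ⟨Units.mk0 μ hμ0, fun s => ?_⟩
  by_cases hs : s = 0
  · subst hs; simp [D.a_zero]
  · have e1 := D.ha (Units.mk0 s hs)⁻¹ 1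
    rw [inv_inv, Units.val_mk0, mul_one] at e1
    have e2 := D.ha (Units.mk0 s hs)⁻¹ μ
    rw [inv_inv, Units.val_mk0] at e2
    have e3 := D.com k hi hz (Units.mk0 s hs)⁻¹
    set H := h (Units.mk0 s hs)⁻¹ with hH
    have e4 : k * (a s * H) = a (μ * s) * k * H := by
      rw [← e1, ← mul_assoc, e3, mul_assoc, hμ, ← mul_assoc, e2, mul_assoc, mul_assoc, e3, mul_comm s μ]
    rw [← mul_assoc] at e4
    simpa using mul_right_cancel e4

theorem eq_one_of_fix {k : Q} (hi : Φ k i = i) (hz : Φ k z = z)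
    (h1 : Φ k (Φ (a 1) z) = Φ (a 1) z) : Φ k = 1 := by
  obtain ⟨μ, hμ⟩ := D.lin hi hz
  have h2 : Φ k (Φ (a 1) z) = Φ (a μ) z := by
    rw [← Equiv.Perm.mul_apply, ← map_mul, hμ, mul_one, map_mul, Equiv.Perm.mul_apply, hz]
  have h3 : (μ : F) = 1 := D.a_inj (h2.symm.trans h1)
  ext ω
  rw [Equiv.Perm.one_apply]
  by_cases hω : ω = i
  · rw [hω, hi]
  · obtain ⟨s, rfl⟩ := D.ex ω hω
    rw [← Equiv.Perm.mul_apply, ← map_mul, hμ, h3, one_mul, map_mul, Equiv.Perm.mul_apply, hz]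

theorem exists_base (x y w : Ω) (hxy : x ≠ y) (hxw : x ≠ w) (hyw : y ≠ w) :
    ∃ g, Φ g i = x ∧ Φ g z = y ∧ Φ g (Φ (a 1) z) = w := by
  obtain ⟨g0, h0⟩ : ∃ g0, Φ g0 i = x := by
    by_cases hx : x = i
    · exact ⟨1, by simp [hx]⟩
    · obtain ⟨s, rfl⟩ := D.ex x hx
      exact ⟨a s * n, by rw [map_mul, Equiv.Perm.mul_apply, D.n_i]⟩
  have hne : (Φ g0)⁻¹ y ≠ i := by
    intro e
    apply hxy
    rw [← h0, ← e, app_inv]
  obtain ⟨s, hs⟩ := D.ex _ hne
  have h1i : Φ (g0 * a s) i = x := by rw [map_mul, Equiv.Perm.mul_apply, D.a_i, h0]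
  have h1z : Φ (g0 * a s) z = y := by
    rw [map_mul, Equiv.Perm.mul_apply, hs, app_inv]
  set g1 := g0 * a s
  have hne2 : (Φ g1)⁻¹ w ≠ i := by
    intro e
    apply hxw
    rw [← h1i, ← e, app_inv]
  obtain ⟨t, ht⟩ := D.ex _ hne2
  have ht0 : t ≠ 0 := by
    rintro rfl
    apply hyw
    rw [D.a_zero, map_one, Equiv.Perm.one_apply] at ht
    rw [← h1z, ht, app_inv]
  refine ⟨g1 * h (Units.mk0 t ht0)⁻¹, ?_, ?_, ?_⟩
  · rw [map_mul, Equiv.Perm.mul_apply, D.h_i, h1i]
  · rw [map_mul, Equiv.Perm.mul_apply, D.h_z, h1z]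
  · have e1 := D.ha (Units.mk0 t ht0)⁻¹ 1
    rw [inv_inv, Units.val_mk0, mul_one] at e1
    rw [← Equiv.Perm.mul_apply, ← map_mul, mul_assoc, e1, ← mul_assoc, map_mul,
      Equiv.Perm.mul_apply, D.h_z, map_mul, Equiv.Perm.mul_apply, ht, app_inv]

theorem eq_one_of_fix' {k : Q} (x y w : Ω) (hxy : x ≠ y) (hxw : x ≠ w) (hyw : y ≠ w)
    (hx : Φ k x = x) (hy : Φ k y = y) (hw : Φ k w = w) : Φ k = 1 := by
  obtain ⟨g, h1, h2, h3⟩ := D.exists_base x y w hxy hxw hyw
  have key : ∀ u v, Φ g u = v → Φ k v = v → Φ (g⁻¹ * k * g) u = u := by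
    intro u v e1 e2
    rw [map_mul, map_mul, Equiv.Perm.mul_apply, Equiv.Perm.mul_apply, e1, e2, ← e1, map_inv,
      inv_app]
  have := D.eq_one_of_fix (key _ _ h1 hx) (key _ _ h2 hy) (key _ _ h3 hw)
  rw [map_mul, map_mul, map_inv] at this
  have h5 : Φ k = Φ g * ((Φ g)⁻¹ * Φ k * Φ g) * (Φ g)⁻¹ := by group
  rw [h5, this]; group

theorem a_z_ne (s : F) : Φ (a s) z ≠ i := by
  intro e
  exact D.ne ((Φ (a s)).injective (e.trans (D.a_i s).symm)).symm

/-- The number of points. -/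
theorem card_eq [Finite F] : Nat.card Ω = Nat.card F + 1 := by
  classical
  rw [← Finite.card_option]
  refine Nat.card_congr (Equiv.ofBijective
    (fun o : Option F => o.elim i (fun s => Φ (a s) z)) ⟨?_, ?_⟩).symm
  · rintro (_ | s) (_ | t) e
    · rfl
    · exact absurd e.symm (D.a_z_ne t)
    · exact absurd e (D.a_z_ne s)
    · exact congrArg some (D.a_inj e)
  · intro ω
    by_cases hω : ω = i
    · exact ⟨none, hω.symm⟩
    · obtain ⟨s, hs⟩ := D.ex ω hω
      exact ⟨some s, hs⟩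

theorem finite_Ω [Finite F] : Finite Ω := by
  apply Nat.finite_of_card_ne_zero
  rw [D.card_eq]
  omega

theorem range_sharp :
    MulAction.IsMultiplyPretransitive Φ.range Ω 3 ∧
      ∀ x : Fin 3 ↪ Ω, MulAction.stabilizer Φ.range x = ⊥ := by
  constructor
  · constructor
    intro x y
    obtain ⟨g, h1, h2, h3⟩ := D.exists_base (x 0) (x 1) (x 2) (by simp) (by simp) (by simp)
    obtain ⟨g', h1', h2', h3'⟩ := D.exists_base (y 0) (y 1) (y 2) (by simp) (by simp) (by simp)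
    refine ⟨⟨Φ g' * (Φ g)⁻¹, ⟨g' * g⁻¹, by simp⟩⟩, ?_⟩
    ext j
    change Φ g' ((Φ g)⁻¹ (x j)) = y j
    fin_cases j
    · rw [Fin.zero_eta, ← h1, inv_app, h1']
    · rw [Fin.mk_one, ← h2, inv_app, h2']
    · change Φ g' ((Φ g)⁻¹ (x 2)) = y 2
      rw [← h3, inv_app, h3']
  · intro x
    rw [eq_bot_iff]
    rintro ⟨_, ⟨g, rfl⟩⟩ hg
    rw [MulAction.mem_stabilizer_iff] at hg
    have key : ∀ j, Φ g (x j) = x j := fun j => by
      have := congrArg (fun f : Fin 3 ↪ Ω => f j) hg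
      exact this
    rw [Subgroup.mem_bot]
    apply Subtype.ext
    exact D.eq_one_of_fix' (x 0) (x 1) (x 2) (by simp) (by simp) (by simp) (key 0) (key 1) (key 2)

/-- The stabiliser of the two points. -/
def K0 (Φ : Q →* Equiv.Perm Ω) (i z : Ω) : Subgroup Q where
  carrier := {k | Φ k i = i ∧ Φ k z = z}
  mul_mem' := by
    rintro x y ⟨h1, h2⟩ ⟨h3, h4⟩
    simp only [Set.mem_ofPred_eq, map_mul, Equiv.Perm.mul_apply, h1, h2, h3, h4, and_self]
  one_mem' := by simp
  inv_mem' := by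
    rintro x ⟨h1, h2⟩
    constructor
    · conv_lhs => rw [← h1]
      rw [map_inv, inv_app]
    · conv_lhs => rw [← h2]
      rw [map_inv, inv_app]

omit D in
theorem mem_K0 {k : Q} : k ∈ K0 Φ i z ↔ Φ k i = i ∧ Φ k z = z := Iff.rfl

/-- The cyclic complement `T₀`. -/
def T0 : Subgroup Q where
  carrier := {k | ∃ r, k = h r}
  mul_mem' := by
    rintro _ _ ⟨r, rfl⟩ ⟨r', rfl⟩
    exact ⟨r * r', (D.h_mul r r').symm⟩
  one_mem' := ⟨1, D.h_one.symm⟩
  inv_mem' := by
    rintro _ ⟨r, rfl⟩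
    exact ⟨r⁻¹, (D.h_inv r).symm⟩

theorem h_ker {r : Fˣ} (e : Φ (h r) = 1) : r = 1 := by
  have e1 := D.ha r 1
  have e2 : Φ (a ((↑r⁻¹ : F) * 1)) z = Φ (a 1) z := by
    have := congrArg (fun g => Φ g z) e1
    simp only [map_mul, Equiv.Perm.mul_apply, e, Equiv.Perm.one_apply] at this
    exact this.symm
  have := D.a_inj e2
  rw [mul_one] at this
  have h2 : r⁻¹ = 1 := Units.ext this
  exact inv_eq_one.mp h2

/-- `K₀ = A T₀`. -/
theorem exists_h {k : Q} (hi : Φ k i = i) (hz : Φ k z = z) : ∃ r, k * h r ∈ Φ.ker := by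
  obtain ⟨μ, hμ⟩ := D.lin hi hz
  refine ⟨μ, ?_⟩
  rw [MonoidHom.mem_ker]
  apply D.eq_one_of_fix
  · rw [map_mul, Equiv.Perm.mul_apply, D.h_i, hi]
  · rw [map_mul, Equiv.Perm.mul_apply, D.h_z, hz]
  · rw [← Equiv.Perm.mul_apply, ← map_mul, mul_assoc, D.ha, ← mul_assoc, hμ, ← mul_assoc,
      Units.mul_inv, one_mul, mul_assoc, map_mul, Equiv.Perm.mul_apply, map_mul,
      Equiv.Perm.mul_apply, D.h_z, hz]

theorem ker_comm_a {k : Q} (hk : k ∈ Φ.ker) (s : F) : k * a s = a s * k := by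
  rw [MonoidHom.mem_ker] at hk
  obtain ⟨μ, hμ⟩ := D.lin (k := k) (by rw [hk]; rfl) (by rw [hk]; rfl)
  have h2 : Φ (a 1) z = Φ (a μ) z := by
    have : Φ (k * a 1) z = Φ (a μ * k) z := by rw [hμ, mul_one]
    rw [map_mul, map_mul, hk, one_mul, mul_one] at this
    exact this
  have h3 := D.a_inj h2
  rw [hμ, ← h3, one_mul]

theorem ker_central [hc : IsCyclic Φ.ker] {k : Q} (hk : k ∈ Φ.ker) (g : Q) : k * g = g * k := by
  -- the centraliser of the kernel
  let C : Subgroup Q := Subgroup.centralizer (Φ.ker : Set Q)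
  have hCn : C.Normal := inferInstance
  have ha : ∀ s, a s ∈ C := fun s => by
    rw [Subgroup.mem_centralizer_iff]
    intro x hx
    exact D.ker_comm_a hx s
  have hh : ∀ r, h r ∈ C := fun r => by
    rw [Subgroup.mem_centralizer_iff]
    intro x hx
    have hx' : Φ x = 1 := hx
    exact D.com x (by rw [hx']; rfl) (by rw [hx']; rfl) r
  have hA : Φ.ker ≤ C := by
    intro y hy
    rw [Subgroup.mem_centralizer_iff]
    intro x hx
    letI := hc.commGroup
    have := mul_comm (⟨x, hx⟩ : Φ.ker) ⟨y, hy⟩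
    exact congrArg Subtype.val this
  have hK : ∀ g, Φ g i = i → Φ g z = z → g ∈ C := by
    intro g h1 h2
    obtain ⟨r, hr⟩ := D.exists_h h1 h2
    have := C.mul_mem (hA hr) (C.inv_mem (hh r))
    simpa using this
  have hN : ∀ g, Φ g i = i → g ∈ C := by
    intro g h1
    have hne : Φ g z ≠ i := by
      intro e
      exact D.ne ((Φ g).injective (h1.trans e.symm))
    obtain ⟨s, hs⟩ := D.ex _ hne
    have h3 : (a s)⁻¹ * g ∈ C := by
      apply hK
      · rw [map_mul, Equiv.Perm.mul_apply, h1, map_inv]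
        conv_lhs => rw [← D.a_i s]
        rw [inv_app]
      · rw [map_mul, Equiv.Perm.mul_apply, ← hs, map_inv, inv_app]
    have := C.mul_mem (ha s) h3
    simpa using this
  have hT : ∀ g, Φ g i ≠ z → g ∈ C := by
    intro g h1
    have hne : Φ n⁻¹ (Φ g i) ≠ i := by
      intro e
      apply h1
      rw [map_inv] at e
      rw [← app_inv (Φ n) (Φ g i), e, D.n_i]
    obtain ⟨s, hs⟩ := D.ex _ hne
    -- `n a s n⁻¹` takes `∞` to `g ∞`
    have h3 : (n * a s * n⁻¹)⁻¹ * g ∈ C := by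
      apply hN
      rw [map_mul, Equiv.Perm.mul_apply]
      have h4 : Φ (n * a s * n⁻¹) i = Φ g i := by
        have h5 : Φ n⁻¹ i = z := by
          rw [map_inv]
          conv_lhs => rw [← D.n_z]
          rw [inv_app]
        rw [map_mul, map_mul, Equiv.Perm.mul_apply, Equiv.Perm.mul_apply, h5, hs, map_inv, app_inv]
      rw [← h4, map_inv, inv_app]
    have h6 : n * a s * n⁻¹ ∈ C := hCn.conj_mem _ (ha s) n
    have := C.mul_mem h6 h3
    rwa [mul_inv_cancel_left] at this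
  have hall : g ∈ C := by
    by_cases h1 : Φ g i = z
    · have h2 : a 1 * g ∈ C := by
        apply hT
        rw [map_mul, Equiv.Perm.mul_apply, h1]
        intro e
        exact one_ne_zero (D.inj 1 e)
      have := C.mul_mem (C.inv_mem (ha 1)) h2
      simpa using this
    · exact hT g h1
  rw [Subgroup.mem_centralizer_iff] at hall
  exact hall k hk

theorem index_K0 [Finite F] : (K0 Φ i z).index = (Nat.card F + 1) * Nat.card F := by
  classical
  have hΩ := D.finite_Ω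
  letI : MulAction Q Ω := MulAction.compHom Ω Φ
  have e1 : K0 Φ i z = MulAction.stabilizer Q ((i, z) : Ω × Ω) := by
    ext k
    rw [mem_K0, MulAction.mem_stabilizer_iff, Prod.ext_iff]
    rfl
  rw [e1, MulAction.index_stabilizer]
  have e2 : MulAction.orbit Q ((i, z) : Ω × Ω) = {p | p.1 ≠ p.2} := by
    ext ⟨x, y⟩
    constructor
    · rintro ⟨g, hg⟩
      have h1 : Φ g i = x := congrArg Prod.fst hg
      have h2 : Φ g z = y := congrArg Prod.snd hg
      change x ≠ y
      rw [← h1, ← h2]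
      exact fun e => D.ne ((Φ g).injective e)
    · intro hxy
      change x ≠ y at hxy
      -- take any third point
      obtain ⟨g0, h0⟩ : ∃ g0, Φ g0 i = x := by
        by_cases hx : x = i
        · exact ⟨1, by simp [hx]⟩
        · obtain ⟨s, rfl⟩ := D.ex x hx
          exact ⟨a s * n, by rw [map_mul, Equiv.Perm.mul_apply, D.n_i]⟩
      have hne : (Φ g0)⁻¹ y ≠ i := by
        intro e
        apply hxy
        rw [← h0, ← e, app_inv]
      obtain ⟨s, hs⟩ := D.ex _ hne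
      refine ⟨g0 * a s, ?_⟩
      change (Φ (g0 * a s) i, Φ (g0 * a s) z) = (x, y)
      rw [map_mul, Equiv.Perm.mul_apply, Equiv.Perm.mul_apply, D.a_i, h0, hs, app_inv]
  rw [e2]
  letI := Fintype.ofFinite Ω
  have e3 : ({p | p.1 ≠ p.2} : Set (Ω × Ω)) = ((Finset.univ : Finset Ω).offDiag : Set (Ω × Ω)) := by
    ext p
    simp
  rw [e3, Set.ncard_coe_finset, Finset.offDiag_card, Finset.card_univ, ← Nat.card_eq_fintype_card,
    D.card_eq]
  generalize Nat.card F = q
  have : (q + 1) * (q + 1) = (q + 1) * q + (q + 1) := by ring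
  omega

end Dat

/-- **Main result.** -/
theorem Dat.main [Finite Q] [Fintype F] {Φ : Q →* Equiv.Perm Ω} {a : F → Q} {h : Fˣ → Q} {n : Q}
    {i z : Ω} (D : Dat Φ a h n i z) {p f : ℕ} (hp : p.Prime) (hp2 : p ≠ 2) (hf : Odd f)
    (hF : Fintype.card F = p ^ f) (h4 : p ^ f % 4 = 3)
    (hc : IsCyclic Φ.ker) (hcard : Nat.card Φ.ker = (p ^ f - 1) / 2) :
    Nonempty (Q ≃* Matrix.ProjGenLinGroup (Fin 2) F × Multiplicative (ZMod ((p ^ f - 1) / 2))) := by
  classical
  have hΩ := D.finite_Ω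
  letI := Fintype.ofFinite Ω
  have hcardF : Nat.card F = p ^ f := by rw [Nat.card_eq_fintype_card, hF]
  -- the quotient by the kernel
  have hΩc : Fintype.card Ω = p ^ f + 1 := by
    rw [← Nat.card_eq_fintype_card, D.card_eq, hcardF]
  obtain ⟨F', _, _, hF', ⟨e1⟩⟩ := Cfsg.Agent.S0730.result hp hp2 hf hΩc Φ.range
    D.range_sharp.1 D.range_sharp.2
  obtain ⟨e2⟩ := nonempty_pgl_congr (FiniteField.ringEquivOfCardEq (K := F') (K' := F)
    (by rw [hF', hF]))
  -- the complement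
  haveI : IsMulCommutative Φ.ker := ⟨⟨fun x y => by
    letI := hc.commGroup
    exact mul_comm x y⟩⟩
  have hcop : (Nat.card Φ.ker).Coprime (Dat.K0 Φ i z).index := by
    rw [hcard, D.index_K0, hcardF]
    generalize hq : p ^ f = q at h4
    obtain ⟨j, rfl⟩ : ∃ j, q = 4 * j + 3 := ⟨q / 4, by omega⟩
    have e5 : (4 * j + 3 - 1) / 2 = 2 * j + 1 := by omega
    rw [e5]
    apply Nat.Coprime.mul_right
    · have : 4 * j + 3 + 1 = (2 * j + 1) * 2 + 2 := by ring
      rw [this, Nat.coprime_mul_left_add_right]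
      rw [Nat.coprime_two_right]
      exact ⟨j, rfl⟩
    · have : 4 * j + 3 = (2 * j + 1) * 2 + 1 := by ring
      rw [this, Nat.coprime_mul_left_add_right]
      exact Nat.coprime_one_right _
  obtain ⟨H, hH⟩ := Cfsg.Agent.S0051.result Φ.ker (Dat.K0 Φ i z)
    (by
      intro k hk
      have hk' : Φ k = 1 := hk
      exact ⟨by rw [hk']; rfl, by rw [hk']; rfl⟩)
    hcop D.T0
    (by
      rintro _ ⟨r, rfl⟩
      exact ⟨D.h_i r, D.h_z r⟩)
    (by
      rw [eq_bot_iff]
      rintro x ⟨⟨r, rfl⟩, hx⟩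
      have := D.h_ker (r := r) hx
      rw [this, D.h_one]
      exact Subgroup.one_mem _)
    (by
      apply le_antisymm
      · apply sup_le
        · intro k hk
          have hk' : Φ k = 1 := hk
          exact ⟨by rw [hk']; rfl, by rw [hk']; rfl⟩
        · rintro _ ⟨r, rfl⟩
          exact ⟨D.h_i r, D.h_z r⟩
      · rintro k ⟨h1, h2⟩
        obtain ⟨r, hr⟩ := D.exists_h h1 h2
        have h3 : k = (k * h r) * h r⁻¹ := by rw [D.h_inv]; group
        rw [h3]
        exact Subgroup.mul_mem_sup hr ⟨_, rfl⟩)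
  -- the direct product
  have e3 : Q ⧸ Φ.ker ≃* H := hH.symm.QuotientMulEquiv
  have e4 : Q ⧸ Φ.ker ≃* Φ.range := QuotientGroup.quotientKerEquivRange Φ
  have e5 : H ≃* Matrix.ProjGenLinGroup (Fin 2) F := e3.symm.trans (e4.trans (e1.trans e2))
  have e6 : Φ.ker ≃* Multiplicative (ZMod ((p ^ f - 1) / 2)) := by
    rw [← hcard]
    exact (zmodCyclicMulEquiv hc).symm
  let ψ : H × Φ.ker →* Q :=
    { toFun := fun x => (x.1 : Q) * x.2
      map_one' := by simp
      map_mul' := by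
        rintro ⟨x, k⟩ ⟨y, l⟩
        have := D.ker_central k.2 (y : Q)
        simp only [Prod.mk_mul_mk, Subgroup.coe_mul]
        rw [mul_assoc, mul_assoc, ← mul_assoc (k : Q), this, mul_assoc] }
  have hψ : Function.Bijective ψ := by
    have := hH.symm
    exact this
  exact ⟨(MulEquiv.ofBijective ψ hψ).symm.trans (MulEquiv.prodCongr e5 e6)⟩

end Cfsg.Agent.H339.Sharp
end

-- part: H339/Fin
section
/-!
# The quotient `N_G(M)/M` (helper339, S3324)
-/

set_option autoImplicit false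
set_option linter.unusedSectionVars false
open Subgroup

namespace Cfsg.Agent.H339

theorem card_Sq_index {F : Type*} [Field F] [Finite F] (h2 : (2 : F) ≠ 0) : (Sq F).index = 2 := by
  have h1 := Subgroup.card_mul_index (Sq F)
  rw [Nat.card_units, ← card_Sq h2] at h1
  have h3 : 0 < Nat.card (Sq F) := Nat.card_pos
  exact Nat.eq_of_mul_eq_mul_left h3 h1

theorem sq_or_neg {F : Type*} [Field F] [Finite F] (h2 : (2 : F) ≠ 0)
    (hm1 : ¬ IsSquare (-1 : F)) (x : Fˣ) : (∃ r : Fˣ, x = r * r) ∨ (∃ r : Fˣ, -x = r * r) := by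
  have key : ∀ y : Fˣ, y ∈ Sq F ↔ ∃ r : Fˣ, y = r * r := by
    intro y
    constructor
    · rintro ⟨r, hr⟩
      exact ⟨r, by rw [← hr, powMonoidHom_apply, sq]⟩
    · rintro ⟨r, hr⟩
      exact ⟨r, by rw [hr, powMonoidHom_apply, sq]⟩
  by_cases hx : x ∈ Sq F
  · exact Or.inl ((key x).mp hx)
  · right
    rw [← key]
    have h3 : (-1 : Fˣ) ∉ Sq F := by
      rw [key]
      rintro ⟨r, hr⟩
      apply hm1
      refine ⟨r, ?_⟩
      have := congrArg (fun x : Fˣ => (x : F)) hr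
      simpa using this
    have h4 := Subgroup.mul_mem_iff_of_index_two (card_Sq_index h2) (a := -1) (b := x)
    rw [neg_one_mul] at h4
    rw [h4]
    exact ⟨fun h => absurd h h3, fun h => absurd h hx⟩

namespace Co

variable {G F : Type*} [Group G] [Field F]

/-- The hypotheses, after the choice of coordinates. -/
structure Hyp2 (K : Co G F) : Prop extends K.Hyp where
  E_eq : ∀ S ∈ K.E, S = K.X
  X_mem : K.X ∈ K.E
  m1 : ¬ IsSquare (-1 : F)

theorem Hyp.exists_hyp2 {K : Co G F} (H : K.Hyp) [Finite G] [Finite F]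
    (hE : Nat.card K.E = 1) (hm1 : ¬ IsSquare (-1 : F)) :
    ∃ K' : Co G F, K'.M = K.M ∧ K'.Hyp2 := by
  classical
  obtain ⟨S₁, hS₁⟩ := H.E_nonempty
  have huniq : ∀ S ∈ K.E, S = S₁ := by
    intro S hS
    rw [Nat.card_eq_one_iff_unique] at hE
    have := hE.1.elim (⟨S, hS⟩ : K.E) ⟨S₁, hS₁⟩
    exact congrArg Subtype.val this
  choose f hf using fun t => H.exists_coord hS₁.1 hS₁.2.1 hS₁.2.2 t
  have hfu : ∀ {t v}, K.m t 0 v ∈ S₁ → v = f t := fun h =>
    (H.coord_unique hS₁.1 hS₁.2.1 h (hf _)).2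
  let φ : F →+ F := AddMonoidHom.mk' f (by
    intro s t
    symm
    apply hfu
    have := S₁.mul_mem (hf s) (hf t)
    rwa [K.m_mul, add_zero] at this)
  have hφ : ∀ (r : Fˣ) (t : F), φ ((r : F) * r * t) = φ t := by
    intro r t
    change f _ = f t
    symm
    apply hfu
    have h1 := conj_mem_cj (g := K.h r) (hf t)
    rw [huniq _ (H.E_cj_h hS₁ r), K.h_m, mul_inv_cancel_right, mul_zero] at h1
    exact h1
  have hm : ∀ t u v, (K.twist φ hφ).m t u v = K.m t u (v + f t) := K.twist_m φ hφ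
  have hmsymm : ∀ t u v, K.m t u v = (K.twist φ hφ).m t u (v - f t) := by
    intro t u v
    rw [hm, sub_add_cancel]
  have hM : (K.twist φ hφ).M = K.M := by
    ext x
    rw [mem_M, mem_M]
    constructor
    · rintro ⟨t, u, v, rfl⟩
      exact ⟨_, _, _, hm t u v⟩
    · rintro ⟨t, u, v, rfl⟩
      exact ⟨_, _, _, hmsymm t u v⟩
  have hZ : (K.twist φ hφ).Z = K.Z := rfl
  have hD : (K.twist φ hφ).D = K.D := by
    ext x
    rw [mem_D, mem_D]
    constructor
    · rintro ⟨t, v, rfl⟩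
      exact ⟨_, _, hm t 0 v⟩
    · rintro ⟨t, v, rfl⟩
      exact ⟨_, _, hmsymm t 0 v⟩
  have hX : (K.twist φ hφ).X = S₁ := by
    apply Subgroup.eq_of_le_of_card_ge
    · rintro _ ⟨t, rfl⟩
      have h1 : (K.twist φ hφ).b t = K.m t 0 (f t) := by
        rw [Co.b_eq, hm, zero_add]
      rw [h1]
      exact hf t
    · rw [card_X, hS₁.1.card]
  have hE' : (K.twist φ hφ).E = K.E := by
    unfold E IsPt
    rw [hZ, hD]
  refine ⟨K.twist φ hφ, hM, ⟨⟨?_, ?_, ?_, H.two, ?_⟩, ?_, ?_, hm1⟩⟩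
  · intro v hv g hg
    obtain ⟨t, u, v', s, r, e⟩ := H.cent v hv g hg
    exact ⟨t, u, v' - f t, s, r, by rw [← hmsymm]; exact e⟩
  · rw [hM]
    exact H.nrm
  · exact H.nc
  · exact H.np
  · rw [hE', hX]
    exact huniq
  · rw [hE', hX]
    exact hS₁

namespace Hyp2

variable {K : Co G F} (H : K.Hyp2) [Finite G] [Finite F]

include H

theorem pt_cases {S : Subgroup G} (hS : K.IsPt S) : S = K.Z ∨ ∃ s, S = cj (K.a s) K.X := by
  by_cases hZ : S = K.Z
  · exact Or.inl hZ
  · right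
    obtain ⟨s, hs⟩ := H.exists_le_D hS hZ
    have h1 : cj (K.a s) S = K.X := by
      apply H.E_eq
      exact ⟨hS.cj _, fun e => hZ (H.eq_Z_of_cj_a e), hs⟩
    refine ⟨-s, ?_⟩
    rw [← h1, K.a_neg, cj_inv_cj]

theorem isPt_X : K.IsPt K.X := H.X_mem.1

theorem cj_a_X {s : F} (e : cj (K.a s) K.X = K.X) : s = 0 := by
  apply H.eq_zero_of_le_D H.X_mem.1 H.X_mem.2.1 H.X_mem.2.2
  rw [e]
  exact H.X_mem.2.2

omit H [Finite G] [Finite F] in
theorem h_conj_b (r : Fˣ) (t : F) : K.h r * K.b t * (K.h r)⁻¹ = K.b ((r : F) * r * t) := by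
  rw [K.hb, mul_inv_cancel_right]

/-- The fusion in `X`. -/
theorem fusion_X {g : G} (hg : cj g K.X = K.X) :
    ∃ r : Fˣ, ∀ t, g * K.b t * g⁻¹ = K.b ((r : F) * r * t) := by
  have h1 : g * K.b 1 * g⁻¹ ∈ K.X := by
    have := conj_mem_cj (g := g) (S := K.X) ⟨1, rfl⟩
    rwa [hg] at this
  obtain ⟨t0, ht0⟩ := h1
  have ht0' : t0 ≠ 0 := by
    rintro rfl
    rw [K.b_zero] at ht0
    have : K.b 1 = g⁻¹ * (g * K.b 1 * g⁻¹) * g := by group
    rw [ht0] at this
    rw [mul_one, inv_mul_cancel, ← K.b_zero] at this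
    exact one_ne_zero (K.b_inj this)
  rcases sq_or_neg H.two H.m1 (Units.mk0 t0 ht0') with ⟨r, hr⟩ | ⟨r0, hr0⟩
  · have hr' : t0 = (r : F) * r := by
      have := congrArg (fun x : Fˣ => (x : F)) hr
      simpa using this
    refine ⟨r, fun t => ?_⟩
    -- `(h r)⁻¹ g` centralises `b 1`
    have h2 : ((K.h r)⁻¹ * g) * K.b 1 = K.b 1 * ((K.h r)⁻¹ * g) := by
      have e1 : g * K.b 1 = K.b t0 * g := by rw [← ht0]; group
      have e2 : K.h r * K.b 1 = K.b t0 * K.h r := by rw [K.hb, mul_one, hr']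
      rw [mul_assoc, e1, ← mul_assoc, ← mul_assoc]
      congr 1
      rw [inv_mul_eq_iff_eq_mul, ← mul_assoc, e2]
      group
    have h3 := H.comm_pt H.isPt_X (x := K.b 1) ⟨1, rfl⟩ (by
      intro e
      rw [← K.b_zero] at e
      exact one_ne_zero (K.b_inj e)) h2 (K.b t) ⟨t, rfl⟩
    rw [← h_conj_b]
    have e4 : g * K.b t * g⁻¹ = K.h r * (((K.h r)⁻¹ * g) * K.b t) * g⁻¹ := by group
    rw [e4, h3]
    group
  · exfalso
    have hr' : t0 = -((r0 : F) * r0) := by
      have := congrArg (fun x : Fˣ => (x : F)) hr0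
      simp only [Units.val_neg, Units.val_mk0, Units.val_mul] at this
      linear_combination -this
    -- all the elements of `X` are conjugate
    have hall : ∀ t : F, t ≠ 0 → ∃ k, k * K.b 1 * k⁻¹ = K.b t := by
      intro t ht
      rcases sq_or_neg H.two H.m1 (Units.mk0 t ht) with ⟨r, hr⟩ | ⟨r, hr⟩
      · have hr'' : t = (r : F) * r := by
          have := congrArg (fun x : Fˣ => (x : F)) hr
          simpa using this
        exact ⟨K.h r, by rw [h_conj_b, mul_one, hr'']⟩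
      · have hr'' : t = -((r : F) * r) := by
          have := congrArg (fun x : Fˣ => (x : F)) hr
          simp only [Units.val_neg, Units.val_mk0, Units.val_mul] at this
          linear_combination -this
        refine ⟨K.h (r * r0⁻¹) * g, ?_⟩
        have e1 : K.h (r * r0⁻¹) * g * K.b 1 * (K.h (r * r0⁻¹) * g)⁻¹ =
            K.h (r * r0⁻¹) * (g * K.b 1 * g⁻¹) * (K.h (r * r0⁻¹))⁻¹ := by group
        rw [e1, ht0, h_conj_b, hr', hr'']
        congr 1
        have := r0.ne_zero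
        simp only [Units.val_mul, Units.val_inv_eq_inv_val]
        field_simp
    obtain ⟨g0, hg0⟩ := H.isPt_X
    obtain ⟨v, hv, hnc⟩ := H.nc
    have h1 : g0 * K.d 1 * g0⁻¹ ∈ K.X := by rw [hg0]; exact conj_mem_cj ⟨1, rfl⟩
    have h2 : g0 * K.d v * g0⁻¹ ∈ K.X := by rw [hg0]; exact conj_mem_cj ⟨v, rfl⟩
    obtain ⟨t1, ht1⟩ := h1
    obtain ⟨t2, ht2⟩ := h2
    have e1 : K.d 1 = g0⁻¹ * K.b t1 * g0 := by rw [← ht1]; group
    have e2 : K.d v = g0⁻¹ * K.b t2 * g0 := by rw [← ht2]; group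
    have ht1' : t1 ≠ 0 := by
      rintro rfl
      apply K.d_ne_one (one_ne_zero)
      rw [e1, K.b_zero]; group
    have ht2' : t2 ≠ 0 := by
      rintro rfl
      apply K.d_ne_one hv
      rw [e2, K.b_zero]; group
    obtain ⟨k1, hk1⟩ := hall t1 ht1'
    obtain ⟨k2, hk2⟩ := hall t2 ht2'
    apply hnc (g0⁻¹ * k2 * k1⁻¹ * g0)
    rw [e1, e2, ← hk1, ← hk2]
    group

/-- Elements fixing `Z` and `X` and centralising `Z`. -/
theorem eq_of_fix {k : G} (hX : cj k K.X = K.X) (hc : k * K.d 1 = K.d 1 * k) :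
    ∃ t u v r, k = K.m t u v * K.h r := by
  obtain ⟨t, u, v, s, r, e⟩ := H.cent 1 one_ne_zero k hc
  have h1 : k * K.b 1 * k⁻¹ ∈ K.X := by
    have := conj_mem_cj (g := k) (S := K.X) ⟨1, rfl⟩
    rwa [hX] at this
  obtain ⟨t', ht'⟩ := h1
  rw [K.b_eq, K.b_eq, mul_inv_eq_iff_eq_mul] at ht'
  have h2 := K.e_m t u v s r 1 0 0
  rw [← e, ht'] at h2
  have h3 := (K.m_inj (mul_right_cancel h2)).2.1
  simp only [mul_zero, mul_one, zero_add] at h3
  have hs : s = 0 := by
    rcases mul_eq_zero.mp h3.symm with h | h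
    · exact h
    · exact absurd h (mul_ne_zero r.ne_zero r.ne_zero)
  subst hs
  rw [K.a_zero, mul_one] at e
  exact ⟨t, u, v, r, e⟩

omit [Finite G] [Finite F] in
theorem M_normal : K.M.Normal := ⟨fun x hx g => H.nrm g x hx⟩

theorem h_mem_M {r : Fˣ} (h : K.h r ∈ K.M) : r = 1 := by
  obtain ⟨t, u, v, e⟩ := h
  have e1 : K.m 0 0 0 * K.a 0 * K.h r = K.m t u v := by
    rw [K.m_zero, K.a_zero, one_mul, one_mul, e]
  exact (K.e_eq_m H.two e1).2

theorem a_mem_M {s : F} (h : K.a s ∈ K.M) : s = 0 := by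
  obtain ⟨t, u, v, e⟩ := h
  have e1 : K.m 0 0 0 * K.a s * K.h 1 = K.m t u v := by
    rw [K.m_zero, K.h_one, one_mul, mul_one, e]
  exact (K.e_eq_m H.two e1).1

omit [Finite G] [Finite F] in
theorem conj_d_mem {k : G} (hZ : cj k K.Z = K.Z) (v : F) : ∃ v', k⁻¹ * K.d v * k = K.d v' := by
  have h1 : K.d v ∈ cj k K.Z := by rw [hZ]; exact ⟨v, rfl⟩
  rw [mem_cj] at h1
  exact h1

/-- Conjugates of elements centralising `Z` centralise `Z`. -/
theorem conj_comm {k y : G} (hZ : cj k K.Z = K.Z) (hy : ∀ v, y * K.d v = K.d v * y) (v : F) :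
    (k * y * k⁻¹) * K.d v = K.d v * (k * y * k⁻¹) := by
  obtain ⟨v', hv'⟩ := H.conj_d_mem hZ v
  have e : K.d v = k * K.d v' * k⁻¹ := by rw [← hv']; group
  rw [e]
  calc k * y * k⁻¹ * (k * K.d v' * k⁻¹) = k * (y * K.d v') * k⁻¹ := by group
    _ = k * (K.d v' * y) * k⁻¹ := by rw [hy]
    _ = _ := by group

/-- `h r` commutes modulo `M` with the elements fixing `Z` and `X`. -/
theorem comm_h {k : G} (hZ : cj k K.Z = K.Z) (hX : cj k K.X = K.X) (r : Fˣ) :
    (k * K.h r * k⁻¹) * (K.h r)⁻¹ ∈ K.M := by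
  haveI := H.M_normal
  -- first step: up to sign
  have step : ∀ r : Fˣ, ∃ ρ : Fˣ, (ρ = r ∨ ρ = -r) ∧
      (QuotientGroup.mk (k * K.h r * k⁻¹) : G ⧸ K.M) = QuotientGroup.mk (K.h ρ) := by
    intro r
    have hc := H.conj_comm hZ (y := K.h r) (K.hd r) 1
    have hkX : cj (k * K.h r * k⁻¹) K.X = K.X := by
      have e : cj k⁻¹ K.X = K.X := by
        conv_lhs => rw [← hX]
        rw [cj_inv_cj]
      rw [cj_mul, cj_mul, e, K.cj_h_X, hX]
    obtain ⟨t, u, v, ρ, e⟩ := H.eq_of_fix hkX hc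
    obtain ⟨x, hx⟩ := H.fusion_X hX
    refine ⟨ρ, ?_, ?_⟩
    · -- compare the actions on `b 1`
      have h1 : (k * K.h r * k⁻¹) * K.b 1 * (k * K.h r * k⁻¹)⁻¹ = K.b ((r : F) * r) := by
        have hx' := hx ((x : F)⁻¹ * (x : F)⁻¹)
        have e3 : (x : F) * x * ((x : F)⁻¹ * (x : F)⁻¹) = 1 := by
          have := x.ne_zero
          field_simp
        rw [e3] at hx'
        have e4 : k⁻¹ * K.b 1 * k = K.b ((x : F)⁻¹ * (x : F)⁻¹) := by
          rw [← hx']; group
        have e5 : (k * K.h r * k⁻¹) * K.b 1 * (k * K.h r * k⁻¹)⁻¹ =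
            k * (K.h r * (k⁻¹ * K.b 1 * k) * (K.h r)⁻¹) * k⁻¹ := by group
        rw [e5, e4, h_conj_b, hx]
        congr 1
        have := x.ne_zero
        field_simp
      have h2 : (K.m t u v * K.h ρ) * K.b 1 * (K.m t u v * K.h ρ)⁻¹ = K.b ((ρ : F) * ρ) := by
        have e5 : (K.m t u v * K.h ρ) * K.b 1 * (K.m t u v * K.h ρ)⁻¹ =
            K.m t u v * (K.h ρ * K.b 1 * (K.h ρ)⁻¹) * (K.m t u v)⁻¹ := by group
        rw [e5, h_conj_b, mul_one, K.b_eq, K.m_comm, mul_inv_cancel_right]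
      rw [e, h2] at h1
      have h3 := K.b_inj h1
      rcases mul_self_eq_mul_self_iff.mp h3 with h | h
      · left; exact Units.ext h
      · right; apply Units.ext; rw [h, Units.val_neg]
    · rw [e, QuotientGroup.mk_mul, (QuotientGroup.eq_one_iff _).mpr (K.m_mem t u v), one_mul]
  -- the map is multiplicative
  have hmul : ∀ x y : Fˣ, (QuotientGroup.mk (k * K.h (x * y) * k⁻¹) : G ⧸ K.M) =
      QuotientGroup.mk (k * K.h x * k⁻¹) * QuotientGroup.mk (k * K.h y * k⁻¹) := by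
    intro x y
    rw [← QuotientGroup.mk_mul, K.h_mul]
    congr 1
    group
  have hsq : ∀ x : Fˣ, (QuotientGroup.mk (k * K.h (x * x) * k⁻¹) : G ⧸ K.M) =
      QuotientGroup.mk (K.h (x * x)) := by
    intro x
    obtain ⟨ρ, h1, h2⟩ := step x
    rw [hmul, h2, ← QuotientGroup.mk_mul, ← K.h_mul]
    rcases h1 with rfl | rfl
    · rfl
    · rw [neg_mul_neg]
  have hneg : (QuotientGroup.mk (k * K.h (-1) * k⁻¹) : G ⧸ K.M) = QuotientGroup.mk (K.h (-1)) := by
    obtain ⟨ρ, h1, h2⟩ := step (-1)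
    rcases h1 with rfl | rfl
    · exact h2
    · exfalso
      rw [neg_neg, K.h_one, QuotientGroup.mk_one, QuotientGroup.eq_one_iff] at h2
      have h3 := H.nrm k⁻¹ _ h2
      have e : k⁻¹ * (k * K.h (-1) * k⁻¹) * k⁻¹⁻¹ = K.h (-1) := by group
      rw [e] at h3
      have h4 := H.h_mem_M h3
      apply H.two
      have := congrArg (fun x : Fˣ => (x : F)) h4
      simp only [Units.val_neg, Units.val_one] at this
      linear_combination -this
  have hall : (QuotientGroup.mk (k * K.h r * k⁻¹) : G ⧸ K.M) = QuotientGroup.mk (K.h r) := by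
    rcases sq_or_neg H.two H.m1 r with ⟨x, hx⟩ | ⟨x, hx⟩
    · rw [hx]; exact hsq x
    · have hx' : r = (-1) * (x * x) := by rw [← hx]; simp
      rw [hx', hmul, hneg, hsq, ← QuotientGroup.mk_mul, ← K.h_mul]
  rw [← QuotientGroup.eq_one_iff, QuotientGroup.mk_mul, hall, ← QuotientGroup.mk_mul,
    mul_inv_cancel, QuotientGroup.mk_one]

/-- Elements fixing `Z` normalise `P = a(F) M`. -/
theorem conj_a {k : G} (hZ : cj k K.Z = K.Z) (s : F) :
    ∃ t u v s', k * K.a s * k⁻¹ = K.m t u v * K.a s' := by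
  have hc := H.conj_comm hZ (y := K.a s) (K.ad s) 1
  obtain ⟨t, u, v, s', r, e⟩ := H.cent 1 one_ne_zero _ hc
  refine ⟨t, u, v, s', ?_⟩
  suffices hr : r = 1 by rw [e, hr, K.h_one, mul_one]
  set y := k * K.a s * k⁻¹ with hy
  -- the action of powers of `y`
  have key : ∀ N : ℕ, ∀ u v : F, ∃ v', y ^ N * K.m 0 u v = K.m 0 ((r : F) ^ N * u) v' * y ^ N := by
    intro N
    induction N with
    | zero => intro u v; exact ⟨v, by simp⟩
    | succ N ih =>
      intro u1 v1
      have h1 : ∃ v', y * K.m 0 u1 v1 = K.m 0 ((r : F) * u1) v' * y := by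
        have h2 := K.e_m t u v s' r 0 u1 v1
        rw [← e] at h2
        simp only [mul_zero, add_zero] at h2
        exact ⟨_, h2⟩
      obtain ⟨v2, hv2⟩ := h1
      obtain ⟨v3, hv3⟩ := ih ((r : F) * u1) v2
      refine ⟨v3, ?_⟩
      rw [pow_succ, mul_assoc, hv2, ← mul_assoc, hv3, mul_assoc]
      congr 2
      ring
  have hpow : y ^ Nat.card F = 1 := by
    have h1 : ∀ N : ℕ, K.a s ^ N = K.a (N • s) := by
      intro N
      induction N with
      | zero => simp [K.a_zero]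
      | succ N ih => rw [pow_succ, ih, ← K.a_add, succ_nsmul]
    have h2 : K.a s ^ Nat.card F = 1 := by
      rw [h1, card_nsmul_eq_zero', K.a_zero]
    rw [hy, conj_pow, h2]
    group
  obtain ⟨v', hv'⟩ := key (Nat.card F) 1 0
  rw [hpow, one_mul, mul_one, mul_one] at hv'
  have h3 := (K.m_inj hv').2.1
  have h4 : r ^ Nat.card F = r := by
    have h5 : r ^ Nat.card Fˣ = 1 := pow_card_eq_one'
    rw [Nat.card_units] at h5
    have h6 : Nat.card F = (Nat.card F - 1) + 1 := by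
      have := Finite.one_lt_card (α := F)
      omega
    rw [h6, pow_succ, h5, one_mul]
  rw [← h4]
  apply Units.ext
  rw [Units.val_pow_eq_pow_val, ← h3, Units.val_one]

/-- The swap. -/
theorem exists_swap : ∃ n, cj n K.Z = K.X ∧ cj n K.X = K.Z := by
  obtain ⟨g, hg⟩ := H.isPt_X
  have h1 : cj g⁻¹ K.Z ≠ K.Z := by
    intro e
    apply H.X_mem.2.1
    rw [hg]
    conv_lhs => rw [← e]
    rw [cj_cj_inv]
  rcases H.pt_cases (isPt_Z.cj g⁻¹) with h2 | ⟨s, hs⟩
  · exact absurd h2 h1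
  · refine ⟨g * K.a s, ?_, ?_⟩
    · rw [cj_mul, H.cj_a_Z, hg]
    · rw [cj_mul, ← hs, cj_cj_inv]

end Hyp2

/-- The permutation representation on the points. -/
def perm (K : Co G F) : G →* Equiv.Perm K.Pts where
  toFun g :=
    { toFun := fun S => ⟨cj g S, IsPt.cj S.2 g⟩
      invFun := fun S => ⟨cj g⁻¹ S, IsPt.cj S.2 g⁻¹⟩
      left_inv := fun S => Subtype.ext (cj_inv_cj _ _)
      right_inv := fun S => Subtype.ext (cj_cj_inv _ _) }
  map_one' := by
    ext S : 2
    exact cj_one _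
  map_mul' g g' := by
    ext S : 2
    exact cj_mul _ _ _

namespace Hyp2

variable {K : Co G F} (H : K.Hyp2) [Finite G] [Finite F]

include H

omit [Finite G] [Finite F] in
theorem M_le_ker : K.M ≤ K.perm.ker := by
  intro x hx
  rw [MonoidHom.mem_ker]
  ext S : 2
  apply cj_eq_of_comm
  intro y hy
  obtain ⟨t, u, v, rfl⟩ := hx
  obtain ⟨t', u', v', rfl⟩ := H.pt_le S.2 hy
  exact K.m_comm _ _ _ _ _ _

end Hyp2

end Co

end Cfsg.Agent.H339
end

-- part: H339/Quot
section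
/-!
# The quotient `N_G(M)/M`: conclusion (helper339, S3324)
-/

set_option autoImplicit false
set_option linter.unusedSectionVars false
open Subgroup

namespace Cfsg.Agent.H339.Co

variable {G F : Type*} [Group G] [Field F]

namespace Hyp2

variable {K : Co G F} (H : K.Hyp2)

/-- The permutation representation of the quotient. -/
noncomputable def perm' [K.M.Normal] (H : K.Hyp2) : G ⧸ K.M →* Equiv.Perm K.Pts :=
  QuotientGroup.lift K.M K.perm H.M_le_ker

variable [Finite G] [Finite F]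

include H

theorem exists_dat [K.M.Normal] : ∃ n : G,
    Sharp.Dat H.perm' (fun s => (K.a s : G ⧸ K.M)) (fun r => (K.h r : G ⧸ K.M)) (n : G ⧸ K.M)
      (⟨K.Z, isPt_Z⟩ : K.Pts) (⟨K.X, H.isPt_X⟩ : K.Pts) ∧ cj n K.Z = K.X ∧ cj n K.X = K.Z := by
  obtain ⟨n, hn1, hn2⟩ := H.exists_swap
  have hperm : ∀ (g : G) (S : K.Pts), (H.perm' (g : G ⧸ K.M) S).1 = cj g S.1 := fun _ _ => rfl
  refine ⟨n, ?_, hn1, hn2⟩
  exact
  { ne := fun e => H.X_mem.2.1 (congrArg Subtype.val e).symm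
    a_add := fun s t => by rw [K.a_add, QuotientGroup.mk_mul]
    h_mul := fun s t => by rw [K.h_mul, QuotientGroup.mk_mul]
    a_i := fun s => Subtype.ext (H.cj_a_Z s)
    h_i := fun s => Subtype.ext (H.cj_h_Z s)
    h_z := fun s => Subtype.ext (K.cj_h_X s)
    ex := by
      rintro ⟨S, hS⟩ hne
      rcases H.pt_cases hS with h | ⟨s, hs⟩
      · exact absurd (Subtype.ext h) hne
      · exact ⟨s, Subtype.ext hs.symm⟩
    inj := fun s hs => H.cj_a_X (congrArg Subtype.val hs)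
    ha := fun r s => by
      rw [← QuotientGroup.mk_mul, K.ha, QuotientGroup.mk_mul]
    nrm := by
      intro k
      obtain ⟨k, rfl⟩ := QuotientGroup.mk_surjective k
      intro hk s
      have hZ : cj k K.Z = K.Z := congrArg Subtype.val hk
      obtain ⟨t, u, v, s', e⟩ := H.conj_a hZ s
      refine ⟨s', ?_⟩
      have e2 : k * K.a s = K.m t u v * K.a s' * k := by rw [← e]; group
      rw [← QuotientGroup.mk_mul, e2, mul_assoc, QuotientGroup.mk_mul,
        (QuotientGroup.eq_one_iff _).mpr (K.m_mem t u v), one_mul, QuotientGroup.mk_mul]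
    com := by
      intro k
      obtain ⟨k, rfl⟩ := QuotientGroup.mk_surjective k
      intro h1 h2 r
      have hZ : cj k K.Z = K.Z := congrArg Subtype.val h1
      have hX : cj k K.X = K.X := congrArg Subtype.val h2
      have h3 := H.comm_h hZ hX r
      rw [← QuotientGroup.eq_one_iff] at h3
      rw [← QuotientGroup.mk_mul, ← QuotientGroup.mk_mul]
      have e2 : k * K.h r = (k * K.h r * k⁻¹ * (K.h r)⁻¹) * (K.h r * k) := by group
      rw [e2, QuotientGroup.mk_mul, h3, one_mul]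
    n_i := Subtype.ext hn1
    n_z := Subtype.ext hn2 }

/-- The relation `k` acts on `X` as multiplication by `x`. -/
def Rel (K : Co G F) (k : G) (x : Fˣ) : Prop := ∀ t, k * K.b t = K.b ((x : F) * t) * k

omit H [Finite G] [Finite F] in
theorem Rel.unique {k : G} {x y : Fˣ} (hx : Rel K k x) (hy : Rel K k y) : x = y := by
  have h1 := hx 1
  rw [hy 1] at h1
  have h2 := K.b_inj (mul_right_cancel h1)
  rw [mul_one, mul_one] at h2
  exact Units.ext h2.symm

omit H [Finite G] [Finite F] in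
theorem Rel.mul {k l : G} {x y : Fˣ} (hx : Rel K k x) (hy : Rel K l y) : Rel K (k * l) (x * y) := by
  intro t
  rw [mul_assoc, hy, ← mul_assoc, hx, mul_assoc, Units.val_mul, mul_assoc]

omit H [Finite G] [Finite F] in
theorem Rel.of_mem {k : G} (hk : k ∈ K.M) : Rel K k 1 := by
  intro t
  obtain ⟨t', u, v, rfl⟩ := hk
  rw [K.b_eq, Units.val_one, one_mul, K.b_eq, K.m_comm]

omit H [Finite G] [Finite F] in
theorem Rel.h (r : Fˣ) : Rel K (K.h r) (r * r) := by
  intro t
  rw [K.hb, Units.val_mul]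

theorem exists_rel {k : G} (hX : cj k K.X = K.X) : ∃ r : Fˣ, Rel K k (r * r) := by
  obtain ⟨r, hr⟩ := H.fusion_X hX
  refine ⟨r, fun t => ?_⟩
  rw [Units.val_mul, ← hr t]
  group

theorem ker_rel [K.M.Normal] (k : H.perm'.ker) : ∃ x : Fˣ, x ∈ Sq F ∧ ∀ g : G,
    (g : G ⧸ K.M) = k → Rel K g x := by
  obtain ⟨k, hk⟩ := k
  obtain ⟨g, rfl⟩ := QuotientGroup.mk_surjective k
  have hX : cj g K.X = K.X := by
    have h1 := congrArg (fun f => f (⟨K.X, H.isPt_X⟩ : K.Pts)) ((MonoidHom.mem_ker).mp hk)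
    exact congrArg Subtype.val h1
  obtain ⟨r, hr⟩ := H.exists_rel hX
  refine ⟨r * r, ⟨r, by rw [powMonoidHom_apply, sq]⟩, ?_⟩
  intro g' hg'
  have h1 : g⁻¹ * g' ∈ K.M := (QuotientGroup.eq).mp hg'.symm
  have h2 := hr.mul (Rel.of_mem h1)
  rw [mul_one, mul_inv_cancel_left] at h2
  exact h2

/-- The kernel is cyclic of order `(q-1)/2`. -/
theorem ker_cyclic [K.M.Normal] : IsCyclic H.perm'.ker ∧ Nat.card H.perm'.ker = Nat.card (Sq F) := by
  obtain ⟨n, D, hn1, hn2⟩ := H.exists_dat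
  choose f hf1 hf2 using H.ker_rel
  let φ : H.perm'.ker →* Fˣ := MonoidHom.mk' f (by
    intro k l
    obtain ⟨k, hk⟩ := k
    obtain ⟨l, hl⟩ := l
    obtain ⟨k, rfl⟩ := QuotientGroup.mk_surjective k
    obtain ⟨l, rfl⟩ := QuotientGroup.mk_surjective l
    have h1 := hf2 ⟨_, hk⟩ k rfl
    have h2 := hf2 ⟨_, hl⟩ l rfl
    have h3 := hf2 (⟨_, hk⟩ * ⟨_, hl⟩) (k * l) rfl
    exact h3.unique (h1.mul h2))
  have hinj : Function.Injective φ := by
    rw [injective_iff_map_eq_one]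
    rintro ⟨k, hk⟩ e
    obtain ⟨k, rfl⟩ := QuotientGroup.mk_surjective k
    have h1 : Rel K k 1 := by
      have h2 := hf2 ⟨_, hk⟩ k rfl
      have e' : f ⟨(k : G ⧸ K.M), hk⟩ = 1 := e
      rwa [e'] at h2
    -- conjugate by `n`
    have h2 : ((n⁻¹ * k * n : G) : G ⧸ K.M) ∈ H.perm'.ker := by
      have := (MonoidHom.normal_ker H.perm').conj_mem _ hk ((n⁻¹ : G) : G ⧸ K.M)
      rw [← QuotientGroup.mk_inv, ← QuotientGroup.mk_mul, ← QuotientGroup.mk_mul, inv_inv] at this
      exact this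
    have hX : cj (n⁻¹ * k * n) K.X = K.X := by
      have h3 := congrArg (fun f => f (⟨K.X, H.isPt_X⟩ : K.Pts)) ((MonoidHom.mem_ker).mp h2)
      exact congrArg Subtype.val h3
    have hd : (n⁻¹ * k * n) * K.d 1 = K.d 1 * (n⁻¹ * k * n) := by
      have h4 : n * K.d 1 * n⁻¹ ∈ K.X := by
        rw [← hn1]; exact conj_mem_cj ⟨1, rfl⟩
      obtain ⟨t, ht⟩ := h4
      have h5 : K.d 1 = n⁻¹ * K.b t * n := by rw [← ht]; group
      have h6 := h1 t
      rw [Units.val_one, one_mul] at h6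
      rw [h5]
      calc n⁻¹ * k * n * (n⁻¹ * K.b t * n) = n⁻¹ * (k * K.b t) * n := by group
        _ = n⁻¹ * (K.b t * k) * n := by rw [h6]
        _ = _ := by group
    obtain ⟨t, u, v, r, e2⟩ := H.eq_of_fix hX hd
    have h7 : ((K.h r : G) : G ⧸ K.M) ∈ H.perm'.ker := by
      rw [e2, QuotientGroup.mk_mul, (QuotientGroup.eq_one_iff _).mpr (K.m_mem t u v), one_mul] at h2
      exact h2
    have h8 : r = 1 := D.h_ker h7
    rw [h8, K.h_one, mul_one] at e2
    have h9 : n⁻¹ * k * n ∈ K.M := by rw [e2]; exact K.m_mem t u v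
    have h10 := H.nrm n _ h9
    have e3 : n * (n⁻¹ * k * n) * n⁻¹ = k := by group
    rw [e3] at h10
    apply Subtype.ext
    exact (QuotientGroup.eq_one_iff _).mpr h10
  have hrange : φ.range = Sq F := by
    apply le_antisymm
    · rintro _ ⟨k, rfl⟩
      exact hf1 k
    · rintro x ⟨ρ, hρ⟩
      have hx : x = ρ * ρ := by rw [← hρ, powMonoidHom_apply, sq]
      have hn1' : cj n⁻¹ K.X = K.Z := by rw [← hn1, cj_inv_cj]
      have hn2' : cj n⁻¹ K.Z = K.X := by rw [← hn2, cj_inv_cj]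
      obtain ⟨r, hr⟩ := D.exists_h (k := ((n⁻¹ * K.h ρ * n : G) : G ⧸ K.M))
        (Subtype.ext (by
          change cj (n⁻¹ * K.h ρ * n) K.Z = K.Z
          rw [cj_mul, cj_mul, hn1, K.cj_h_X, hn1']))
        (Subtype.ext (by
          change cj (n⁻¹ * K.h ρ * n) K.X = K.X
          rw [cj_mul, cj_mul, hn2, H.cj_h_Z, hn2']))
      have h2 : ((n * (n⁻¹ * K.h ρ * n * K.h r) * n⁻¹ : G) : G ⧸ K.M) ∈ H.perm'.ker := by
        have := (MonoidHom.normal_ker H.perm').conj_mem _ hr ((n : G) : G ⧸ K.M)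
        rw [← QuotientGroup.mk_inv, ← QuotientGroup.mk_mul, ← QuotientGroup.mk_mul,
          ← QuotientGroup.mk_mul] at this
        exact this
      refine ⟨⟨_, h2⟩, ?_⟩
      have h3 := hf2 ⟨_, h2⟩ _ rfl
      have h4 : Rel K (n * K.h r * n⁻¹) 1 := by
        intro t
        have h5 : n⁻¹ * K.b t * n ∈ K.Z := by
          have := conj_mem_cj (g := n⁻¹) (S := K.X) (x := K.b t) ⟨t, rfl⟩
          rwa [hn1', inv_inv] at this
        obtain ⟨v, hv⟩ := h5
        have h6 : K.b t = n * K.d v * n⁻¹ := by rw [← hv]; group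
        rw [Units.val_one, one_mul, h6]
        calc n * K.h r * n⁻¹ * (n * K.d v * n⁻¹) = n * (K.h r * K.d v) * n⁻¹ := by group
          _ = n * (K.d v * K.h r) * n⁻¹ := by rw [K.hd]
          _ = _ := by group
      have h5 : Rel K (n * (n⁻¹ * K.h ρ * n * K.h r) * n⁻¹) (ρ * ρ * 1) := by
        have e : n * (n⁻¹ * K.h ρ * n * K.h r) * n⁻¹ = K.h ρ * (n * K.h r * n⁻¹) := by group
        rw [e]
        exact (Rel.h ρ).mul h4
      rw [mul_one] at h5
      rw [hx]
      exact h3.unique h5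
  constructor
  · exact isCyclic_of_injective φ hinj
  · rw [← hrange]
    exact Nat.card_congr (MonoidHom.ofInjective hinj).toEquiv

end Hyp2

/-- **The structure of `N_G(M)/M`.** -/
theorem Hyp.main {K : Co G F} (H : K.Hyp) [Finite G] [Fintype F] {p n : ℕ} (hp : p.Prime)
    (hp2 : p ≠ 2) (hn : 1 ≤ n) (hF : Fintype.card F = p ^ n) (h4 : p ^ n % 4 = 3) [K.M.Normal] :
    Nonempty (G ⧸ K.M ≃* Matrix.ProjGenLinGroup (Fin 2) F ×
      Multiplicative (ZMod ((p ^ n - 1) / 2))) := by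
  have hF' : Nat.card F = p ^ n := by rw [Nat.card_eq_fintype_card, hF]
  have hm1 : ¬ IsSquare (-1 : F) := by
    rw [FiniteField.isSquare_neg_one_iff, hF]
    exact fun h => h h4
  have hE := H.card_E hp hp2 hn hF' h4 hm1
  obtain ⟨K', hM, H'⟩ := H.exists_hyp2 hE hm1
  haveI : K'.M.Normal := H'.M_normal
  obtain ⟨x, D, -, -⟩ := H'.exists_dat
  have hodd : Odd n := by
    rcases Nat.even_or_odd n with ⟨m, hm⟩ | h
    · exfalso
      have h5 : p ^ n = (p ^ m) ^ 2 := by rw [hm, ← pow_mul]; ring_nf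
      rw [h5] at h4
      have h6 : (p ^ m) % 4 = 0 ∨ (p ^ m) % 4 = 1 ∨ (p ^ m) % 4 = 2 ∨ (p ^ m) % 4 = 3 := by omega
      rcases h6 with h | h | h | h <;> simp [Nat.pow_mod, h] at h4
    · exact h
  have hcard : Nat.card (Sq F) = (p ^ n - 1) / 2 := by
    have := card_Sq H.two
    rw [hF'] at this
    omega
  obtain ⟨e⟩ := D.main hp hp2 hodd hF h4 H'.ker_cyclic.1 (H'.ker_cyclic.2.trans hcard)
  exact ⟨(QuotientGroup.quotientMulEquivOfEq hM.symm).trans e⟩

end Cfsg.Agent.H339.Co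
end

-- part: H339/Asm
section
/-!
# Assembly of S3324 (helper339)
-/

set_option autoImplicit false
set_option linter.unusedSectionVars false
set_option linter.unusedVariables false
open Subgroup

namespace Cfsg.Agent.H339

theorem mem_nrm {G : Type*} [Group G] [Finite G] {M : Subgroup G} {x : G}
    (h : ∀ y ∈ M, x * y * x⁻¹ ∈ M) : x ∈ Subgroup.normalizer (M : Set G) := by
  have h1 : cj x M ≤ M := by
    intro z hz
    rw [mem_cj] at hz
    have := h _ hz
    have e : x * (x⁻¹ * z * x) * x⁻¹ = z := by group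
    rwa [e] at this
  have h2 : cj x M = M := Subgroup.eq_of_le_of_card_ge h1 (by rw [card_cj])
  rw [Subgroup.mem_normalizer_iff]
  intro y
  constructor
  · exact h y
  · intro hy
    change x * y * x⁻¹ ∈ M at hy
    rw [← h2, mem_cj] at hy
    have e : x⁻¹ * (x * y * x⁻¹) * x = y := by group
    rwa [e] at hy

/-- Abstract form of the last step: coordinates in `G` with `P = K.P` Sylow, `M = K.M`. -/
theorem final {G F : Type*} [Group G] [Finite G] [Field F] [Fintype F] {p n : ℕ}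
    [Fact p.Prime] (hp2 : p ≠ 2) (hn : 1 ≤ n) (h4 : p ^ n % 4 = 3) (hF : Fintype.card F = p ^ n)
    (h2 : (2 : F) ≠ 0) (K : Co G F)
    (cent : ∀ v, v ≠ 0 → ∀ g, (∀ y ∈ K.M, g * y * g⁻¹ ∈ K.M) → g * K.d v = K.d v * g →
      ∃ t u v' s r, g = K.m t u v' * K.a s * K.h r)
    (hc : ∃ (u v : G) (Pu Pv : Sylow p G), orderOf u = p ∧ orderOf v = p ∧
      u ∈ (Pu : Subgroup G) ∧ (∀ y ∈ (Pu : Subgroup G), y * u = u * y) ∧
      v ∈ (Pv : Subgroup G) ∧ (∀ y ∈ (Pv : Subgroup G), y * v = v * y) ∧ ∀ g : G, g * u * g⁻¹ ≠ v)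
    (P : Sylow p G) (hP : K.P = P)
    (hnc : ∃ Q R : Sylow p ↥(Subgroup.normalizer (K.M : Set G)), Q ≠ R) :
    ∃ J : Subgroup G, J ≤ Subgroup.normalizer (K.M : Set G) ∧
      K.M ⊔ J = Subgroup.normalizer (K.M : Set G) ∧ K.M ⊓ J = ⊥ ∧
      Nonempty (↥J ≃* (Matrix.ProjGenLinGroup (Fin 2) F ×
        Multiplicative (ZMod ((p ^ n - 1) / 2)))) := by
  classical
  have hp : p.Prime := Fact.out
  set N := Subgroup.normalizer (K.M : Set G) with hN
  have hPN : ∀ x ∈ K.P, x ∈ N := fun x hx => mem_nrm (K.M_normal_P x hx)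
  have ha : ∀ s, K.a s ∈ N := fun s => hPN _ (K.A_le_P ⟨s, rfl⟩)
  have hb : ∀ s, K.b s ∈ N := fun s => hPN _ (K.M_le_P ⟨s, 0, 0, K.b_eq s⟩)
  have hc' : ∀ s, K.c s ∈ N := fun s => hPN _ (K.M_le_P ⟨0, s, 0, K.c_eq s⟩)
  have hd : ∀ s, K.d s ∈ N := fun s => hPN _ (K.M_le_P ⟨0, 0, s, K.d_eq s⟩)
  have hh : ∀ r, K.h r ∈ N := by
    intro r
    apply mem_nrm
    rintro _ ⟨t, u, v, rfl⟩
    rw [K.h_m, mul_inv_cancel_right]
    exact K.m_mem _ _ _
  let L : Co N F := K.res N ha hb hc' hd hh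
  have hPleN : (P : Subgroup G) ≤ N := by rw [← hP]; exact hPN
  have hLP : L.P = (P : Subgroup G).subgroupOf N := by
    ext x
    rw [Subgroup.mem_subgroupOf, ← hP]
    exact Co.mem_res_P
  have hNM : ∀ g : N, ∀ y ∈ K.M, (g : G) * y * (g : G)⁻¹ ∈ K.M := by
    intro g y hy
    exact (Subgroup.mem_normalizer_iff.mp g.2 y).mp hy
  have hcentL : ∀ v, v ≠ 0 → ∀ g : N, g * L.d v = L.d v * g →
      ∃ t u v' s r, g = L.m t u v' * L.a s * L.h r := by
    intro v hv g hg
    obtain ⟨t, u, v', s, r, e⟩ := cent v hv g (hNM g) (congrArg Subtype.val hg)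
    exact ⟨t, u, v', s, r, Subtype.ext e⟩
  have hnrm : ∀ g : N, ∀ x ∈ L.M, g * x * g⁻¹ ∈ L.M := by
    intro g x hx
    rw [Co.mem_res_M] at hx ⊢
    exact hNM g _ hx
  -- `p`-central elements
  have hcen : ∀ (u : G) (Q : Sylow p G), orderOf u = p → u ∈ (Q : Subgroup G) →
      (∀ y ∈ (Q : Subgroup G), y * u = u * y) → ∃ g : G, ∃ w, w ≠ 0 ∧ g * u * g⁻¹ = K.d w := by
    intro u Q hu huQ huc
    obtain ⟨g, hg⟩ := MulAction.exists_smul_eq G Q P
    have hg' : ∀ y, y ∈ (P : Subgroup G) → g⁻¹ * y * g ∈ (Q : Subgroup G) := by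
      intro y hy
      rw [← hg] at hy
      have hy' : y ∈ cj g (Q : Subgroup G) := hy
      rwa [mem_cj] at hy'
    have h1 : g * u * g⁻¹ ∈ K.P := by
      rw [hP, ← hg]
      change _ ∈ cj g (Q : Subgroup G)
      exact conj_mem_cj huQ
    have h3 : g * u * g⁻¹ ∈ K.Z := by
      apply K.mem_Z_of_comm_P h2 h1
      intro y hy
      rw [hP] at hy
      have h4 := huc _ (hg' y hy)
      calc y * (g * u * g⁻¹) = g * (g⁻¹ * y * g * u) * g⁻¹ := by group
        _ = g * (u * (g⁻¹ * y * g)) * g⁻¹ := by rw [h4]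
        _ = _ := by group
    obtain ⟨w, hw⟩ := h3
    refine ⟨g, w, ?_, hw⟩
    rintro rfl
    rw [K.d_zero] at hw
    have : u = 1 := by
      have e : u = g⁻¹ * (g * u * g⁻¹) * g := by group
      rw [e, hw]; group
    rw [this, orderOf_one] at hu
    exact hp.one_lt.ne hu
  have H : L.Hyp := by
    refine ⟨hcentL, hnrm, ?_, h2, ?_⟩
    · by_contra hcon
      push Not at hcon
      obtain ⟨u, v, Pu, Pv, hu, hv, huP, huc, hvP, hvc, huv⟩ := hc
      obtain ⟨g1, w1, hw1, e1⟩ := hcen u Pu hu huP huc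
      obtain ⟨g2, w2, hw2, e2⟩ := hcen v Pv hv hvP hvc
      obtain ⟨k1, hk1⟩ := hcon w1 hw1
      obtain ⟨k2, hk2⟩ := hcon w2 hw2
      have f1 : (k1 : G) * K.d 1 * (k1 : G)⁻¹ = K.d w1 := congrArg Subtype.val hk1
      have f2 : (k2 : G) * K.d 1 * (k2 : G)⁻¹ = K.d w2 := congrArg Subtype.val hk2
      apply huv (g2⁻¹ * k2 * (k1 : G)⁻¹ * g1)
      have e3 : g2⁻¹ * k2 * (k1 : G)⁻¹ * g1 * u * (g2⁻¹ * k2 * (k1 : G)⁻¹ * g1)⁻¹ =
          g2⁻¹ * (k2 * ((k1 : G)⁻¹ * (g1 * u * g1⁻¹) * k1) * (k2 : G)⁻¹) * g2 := by group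
      have e4 : (k1 : G)⁻¹ * (g1 * u * g1⁻¹) * k1 = K.d 1 := by
        rw [e1, ← f1]; group
      rw [e3, e4, f2, ← e2]
      group
    · by_contra hcon
      push Not at hcon
      have hnorm : L.P.Normal := by
        constructor
        rintro _ ⟨t, u, v, s, rfl⟩ g
        obtain ⟨t', u', v', s', e⟩ := L.conj_a' hcentL (hcon g) s
        have e1 : g * (L.m t u v * L.a s) * g⁻¹ = (g * L.m t u v * g⁻¹) * (g * L.a s * g⁻¹) := by
          group
        rw [e1, e]
        exact L.P.mul_mem (L.M_le_P (hnrm g _ (L.m_mem _ _ _))) ⟨_, _, _, _, rfl⟩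
      obtain ⟨Q, R, hQR⟩ := hnc
      have hPs : IsPGroup p L.P := by
        rw [hLP]
        exact P.isPGroup'.comap_subtype
      have hLS : ∀ Q : Sylow p N, (Q : Subgroup N) = L.P := by
        -- `L.P` is Sylow
        have hidx : ¬ p ∣ L.P.index := by
          rw [hLP]
          intro h
          have h5 := Subgroup.relIndex_mul_index hPleN
          have h6 : ¬ p ∣ (P : Subgroup G).index := P.not_dvd_index
          apply h6
          rw [← h5]
          exact dvd_mul_of_dvd_left h _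
        let S : Sylow p N := hPs.toSylow hidx
        intro Q
        haveI : (S : Subgroup N).Normal := hnorm
        obtain ⟨g, hg⟩ := MulAction.exists_smul_eq N S Q
        rw [← hg, Sylow.smul_eq_of_normal]
        rfl
      apply hQR
      apply Sylow.ext
      rw [hLS Q, hLS R]
  haveI : L.M.Normal := ⟨fun x hx g => hnrm g x hx⟩
  obtain ⟨e⟩ := H.main hp hp2 hn hF h4
  haveI : IsMulCommutative L.M := by
    constructor
    constructor
    rintro ⟨_, t, u, v, rfl⟩ ⟨_, t', u', v', rfl⟩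
    exact Subtype.ext (L.m_comm _ _ _ _ _ _)
  obtain ⟨J, hJ⟩ := Cfsg.Agent.S0051.result L.M L.P L.M_le_P (by
    rw [L.card_M, Nat.card_eq_fintype_card, hF, ← pow_mul]
    apply Nat.Coprime.pow_left
    rw [Nat.Prime.coprime_iff_not_dvd hp, hLP]
    intro h
    have h5 := Subgroup.relIndex_mul_index hPleN
    have h6 : ¬ p ∣ (P : Subgroup G).index := P.not_dvd_index
    apply h6
    rw [← h5]
    exact dvd_mul_of_dvd_left h _) L.A L.A_le_P (L.A_inf_M h2) L.M_sup_A
  have hMmap : L.M.map N.subtype = K.M := by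
    ext x
    constructor
    · rintro ⟨y, hy, rfl⟩
      exact Co.mem_res_M.mp hy
    · intro hx
      exact ⟨⟨x, hPN x (K.M_le_P hx)⟩, Co.mem_res_M.mpr hx, rfl⟩
  have hJ' := hJ.sup_eq_top
  have hJ'' := hJ.disjoint.eq_bot
  refine ⟨J.map N.subtype, ?_, ?_, ?_, ?_⟩
  · rintro _ ⟨x, -, rfl⟩
    exact x.2
  · rw [← hMmap, ← Subgroup.map_sup, hJ', ← MonoidHom.range_eq_map, Subgroup.range_subtype]
  · rw [← hMmap, ← Subgroup.map_inf _ _ _ N.subtype_injective, hJ'', Subgroup.map_bot]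
  · exact ⟨(J.equivMapOfInjective _ N.subtype_injective).symm.trans
      (hJ.symm.QuotientMulEquiv.symm.trans e)⟩

end Cfsg.Agent.H339
end
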