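import Mathlib
import Cfsg.Prelude.Def_Classical
import Cfsg.Agent.LieClassical.SympCenter
import Cfsg.Agent.S0271
set_option linter.all false

-- part: H339/Co
section
/-!
# Coordinates for the local structure of `PSp₄(q)` in a group (helper339, S3324)

`Co G F` : root elements `a s`, `b t`, `c u`, `d v` (`d` the highest root) and a torus `h r`,
with the relations of the maximal parabolic subgroups of `Sp₄(F)`.
-/

set_option autoImplicit false
open Subgroup

namespace Cfsg.Agent.H339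

/-- Coordinates. -/
structure Co (G F : Type*) [Group G] [Field F] where
  a : F → G
  b : F → G
  c : F → G
  d : F → G
  h : Fˣ → G
  a_add : ∀ s t, a (s + t) = a s * a t
  b_add : ∀ s t, b (s + t) = b s * b t
  c_add : ∀ s t, c (s + t) = c s * c t
  d_add : ∀ s t, d (s + t) = d s * d t
  h_mul : ∀ r r', h (r * r') = h r * h r'
  cb : ∀ t u, c u * b t = b t * c u
  db : ∀ t v, d v * b t = b t * d v
  dc : ∀ u v, d v * c u = c u * d v
  ad : ∀ s v, a s * d v = d v * a s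
  ab : ∀ s t, a s * b t = b t * c (s * t) * d (s * s * t) * a s
  ac : ∀ s u, a s * c u = c u * d (2 * s * u) * a s
  ha : ∀ (r : Fˣ) s, h r * a s = a ((↑r⁻¹ : F) * s) * h r
  hb : ∀ (r : Fˣ) t, h r * b t = b ((r : F) * r * t) * h r
  hc : ∀ (r : Fˣ) u, h r * c u = c ((r : F) * u) * h r
  hd : ∀ (r : Fˣ) v, h r * d v = d v * h r
  inj : ∀ t u v, b t * c u * d v = 1 → t = 0 ∧ u = 0 ∧ v = 0

namespace Co

variable {G F : Type*} [Group G] [Field F] (K : Co G F)

theorem hom_zero {f : F → G} (hf : ∀ s t, f (s + t) = f s * f t) : f 0 = 1 := by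
  have := hf 0 0
  rw [add_zero] at this
  exact (mul_eq_left.mp this.symm)

theorem a_zero : K.a 0 = 1 := hom_zero K.a_add
theorem b_zero : K.b 0 = 1 := hom_zero K.b_add
theorem c_zero : K.c 0 = 1 := hom_zero K.c_add
theorem d_zero : K.d 0 = 1 := hom_zero K.d_add

theorem h_one : K.h 1 = 1 := by
  have := K.h_mul 1 1
  rw [mul_one] at this
  exact (mul_eq_left.mp this.symm)

theorem h_inv (r : Fˣ) : K.h r⁻¹ = (K.h r)⁻¹ := by
  rw [eq_inv_iff_mul_eq_one, ← K.h_mul, inv_mul_cancel, K.h_one]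

theorem a_neg (s : F) : K.a (-s) = (K.a s)⁻¹ := by
  rw [eq_inv_iff_mul_eq_one, ← K.a_add, neg_add_cancel, K.a_zero]

theorem a_comm (s t : F) : K.a s * K.a t = K.a t * K.a s := by
  rw [← K.a_add, ← K.a_add, add_comm]

/-- The elements of `M`. -/
def m (t u v : F) : G := K.b t * K.c u * K.d v

theorem m_mul (t u v t' u' v' : F) :
    K.m t u v * K.m t' u' v' = K.m (t + t') (u + u') (v + v') := by
  unfold m
  rw [K.b_add, K.c_add, K.d_add]
  calc K.b t * K.c u * K.d v * (K.b t' * K.c u' * K.d v')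
      = K.b t * K.c u * (K.d v * K.b t') * (K.c u' * K.d v') := by group
    _ = K.b t * (K.c u * K.b t') * (K.d v * K.c u') * K.d v' := by rw [K.db]; group
    _ = K.b t * K.b t' * (K.c u * K.c u') * (K.d v * K.d v') := by rw [K.cb, K.dc]; group

theorem m_zero : K.m 0 0 0 = 1 := by
  unfold m; rw [K.b_zero, K.c_zero, K.d_zero]; simp

theorem m_inv (t u v : F) : (K.m t u v)⁻¹ = K.m (-t) (-u) (-v) := by
  rw [inv_eq_iff_mul_eq_one, K.m_mul]
  simp [K.m_zero]

theorem m_comm (t u v t' u' v' : F) :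
    K.m t u v * K.m t' u' v' = K.m t' u' v' * K.m t u v := by
  rw [K.m_mul, K.m_mul, add_comm t, add_comm u, add_comm v]

theorem m_eq_one {t u v : F} (e : K.m t u v = 1) : t = 0 ∧ u = 0 ∧ v = 0 := K.inj t u v e

theorem m_inj {t u v t' u' v' : F} (e : K.m t u v = K.m t' u' v') : t = t' ∧ u = u' ∧ v = v' := by
  have h1 : K.m (t + -t') (u + -u') (v + -v') = 1 := by
    rw [← K.m_mul, ← K.m_inv, e, mul_inv_cancel]
  obtain ⟨h2, h3, h4⟩ := K.m_eq_one h1
  exact ⟨by linear_combination h2, by linear_combination h3, by linear_combination h4⟩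

theorem b_eq (t : F) : K.b t = K.m t 0 0 := by unfold m; rw [K.c_zero, K.d_zero]; simp
theorem c_eq (u : F) : K.c u = K.m 0 u 0 := by unfold m; rw [K.b_zero, K.d_zero]; simp
theorem d_eq (v : F) : K.d v = K.m 0 0 v := by unfold m; rw [K.b_zero, K.c_zero]; simp

theorem d_inj {v v' : F} (e : K.d v = K.d v') : v = v' := by
  rw [K.d_eq, K.d_eq] at e
  exact (K.m_inj e).2.2

theorem d_ne_one {v : F} (hv : v ≠ 0) : K.d v ≠ 1 := by
  intro e
  rw [← K.d_zero] at e
  exact hv (K.d_inj e)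

theorem a_m (s t u v : F) :
    K.a s * K.m t u v = K.m t (u + s * t) (v + 2 * s * u + s * s * t) * K.a s := by
  have e1 : K.a s * K.m t u v = K.m t (s * t) (s * s * t) * (K.m 0 u (2 * s * u)) * K.m 0 0 v *
      K.a s := by
    unfold m
    rw [K.b_zero, K.c_zero]
    calc K.a s * (K.b t * K.c u * K.d v) = (K.a s * K.b t) * K.c u * K.d v := by group
      _ = K.b t * K.c (s * t) * K.d (s * s * t) * (K.a s * K.c u) * K.d v := by rw [K.ab]; group
      _ = K.b t * K.c (s * t) * K.d (s * s * t) * (K.c u * K.d (2 * s * u)) *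
          (K.a s * K.d v) := by rw [K.ac]; group
      _ = _ := by rw [K.ad]; group
  rw [e1, K.m_mul, K.m_mul]
  congr 2 <;> ring

theorem h_m (r : Fˣ) (t u v : F) :
    K.h r * K.m t u v = K.m ((r : F) * r * t) ((r : F) * u) v * K.h r := by
  unfold m
  calc K.h r * (K.b t * K.c u * K.d v) = (K.h r * K.b t) * K.c u * K.d v := by group
    _ = K.b ((r : F) * r * t) * (K.h r * K.c u) * K.d v := by rw [K.hb]; group
    _ = K.b ((r : F) * r * t) * K.c ((r : F) * u) * (K.h r * K.d v) := by rw [K.hc]; group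
    _ = _ := by rw [K.hd]; group

/-- The general element of `B = M ⋊ (a(F) ⋊ h(Fˣ))` acts on `M`. -/
theorem e_m (t u v s : F) (r : Fˣ) (t' u' v' : F) :
    K.m t u v * K.a s * K.h r * K.m t' u' v' =
      K.m ((r : F) * r * t') ((r : F) * u' + s * ((r : F) * r * t'))
        (v' + 2 * s * ((r : F) * u') + s * s * ((r : F) * r * t')) * (K.m t u v * K.a s * K.h r) := by
  rw [mul_assoc _ (K.h r), K.h_m, ← mul_assoc, mul_assoc _ (K.a s), K.a_m, ← mul_assoc, K.m_comm]
  group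

/-- The subgroup `M`. -/
def M : Subgroup G where
  carrier := {x | ∃ t u v, x = K.m t u v}
  mul_mem' := by
    rintro _ _ ⟨t, u, v, rfl⟩ ⟨t', u', v', rfl⟩
    exact ⟨_, _, _, K.m_mul _ _ _ _ _ _⟩
  one_mem' := ⟨0, 0, 0, K.m_zero.symm⟩
  inv_mem' := by
    rintro _ ⟨t, u, v, rfl⟩
    exact ⟨_, _, _, K.m_inv _ _ _⟩

theorem mem_M {x : G} : x ∈ K.M ↔ ∃ t u v, x = K.m t u v := Iff.rfl

theorem m_mem (t u v : F) : K.m t u v ∈ K.M := ⟨t, u, v, rfl⟩

/-- The subgroup `Z = d(F)`. -/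
def Z : Subgroup G where
  carrier := {x | ∃ v, x = K.d v}
  mul_mem' := by
    rintro _ _ ⟨v, rfl⟩ ⟨v', rfl⟩
    exact ⟨_, (K.d_add _ _).symm⟩
  one_mem' := ⟨0, K.d_zero.symm⟩
  inv_mem' := by
    rintro _ ⟨v, rfl⟩
    refine ⟨-v, ?_⟩
    rw [K.d_eq, K.d_eq, K.m_inv, neg_zero]

theorem mem_Z {x : G} : x ∈ K.Z ↔ ∃ v, x = K.d v := Iff.rfl

/-- The subgroup `D = b(F) d(F)`. -/
def D : Subgroup G where
  carrier := {x | ∃ t v, x = K.m t 0 v}
  mul_mem' := by
    rintro _ _ ⟨t, v, rfl⟩ ⟨t', v', rfl⟩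
    exact ⟨_, _, by rw [K.m_mul, add_zero]⟩
  one_mem' := ⟨0, 0, K.m_zero.symm⟩
  inv_mem' := by
    rintro _ ⟨t, v, rfl⟩
    exact ⟨_, _, by rw [K.m_inv, neg_zero]⟩

theorem mem_D {x : G} : x ∈ K.D ↔ ∃ t v, x = K.m t 0 v := Iff.rfl

/-- The subgroup `P = a(F) M`. -/
def P : Subgroup G where
  carrier := {x | ∃ t u v s, x = K.m t u v * K.a s}
  mul_mem' := by
    rintro _ _ ⟨t, u, v, s, rfl⟩ ⟨t', u', v', s', rfl⟩
    refine ⟨t + t', u + (u' + s * t'), v + (v' + 2 * s * u' + s * s * t'), s + s', ?_⟩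
    rw [K.a_add, ← K.m_mul]
    calc K.m t u v * K.a s * (K.m t' u' v' * K.a s')
        = K.m t u v * (K.a s * K.m t' u' v') * K.a s' := by group
      _ = _ := by rw [K.a_m]; group
  one_mem' := ⟨0, 0, 0, 0, by rw [K.m_zero, K.a_zero, mul_one]⟩
  inv_mem' := by
    rintro _ ⟨t, u, v, s, rfl⟩
    refine ⟨-t, -u + (-s) * (-t), -v + 2 * (-s) * (-u) + (-s) * (-s) * (-t), -s, ?_⟩
    rw [mul_inv_rev, K.m_inv, ← K.a_neg, K.a_m]

theorem mem_P {x : G} : x ∈ K.P ↔ ∃ t u v s, x = K.m t u v * K.a s := Iff.rfl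

theorem card_M : Nat.card K.M = Nat.card F ^ 3 := by
  have e : (F × F × F) ≃ K.M := Equiv.ofBijective
    (fun x => ⟨K.m x.1 x.2.1 x.2.2, K.m_mem _ _ _⟩) ⟨by
      rintro ⟨t, u, v⟩ ⟨t', u', v'⟩ e
      obtain ⟨h1, h2, h3⟩ := K.m_inj (congrArg Subtype.val e)
      simp_all, by
      rintro ⟨_, t, u, v, rfl⟩
      exact ⟨(t, u, v), rfl⟩⟩
  rw [← Nat.card_congr e, Nat.card_prod, Nat.card_prod]
  ring

theorem card_Z : Nat.card K.Z = Nat.card F := by
  have e : F ≃ K.Z := Equiv.ofBijective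
    (fun x => ⟨K.d x, ⟨x, rfl⟩⟩) ⟨by
      intro v v' e
      exact K.d_inj (congrArg Subtype.val e), by
      rintro ⟨_, v, rfl⟩
      exact ⟨v, rfl⟩⟩
  rw [← Nat.card_congr e]

theorem card_D : Nat.card K.D = Nat.card F ^ 2 := by
  have e : (F × F) ≃ K.D := Equiv.ofBijective
    (fun x => ⟨K.m x.1 0 x.2, ⟨x.1, x.2, rfl⟩⟩) ⟨by
      rintro ⟨t, v⟩ ⟨t', v'⟩ e
      obtain ⟨h1, h2, h3⟩ := K.m_inj (congrArg Subtype.val e)
      simp_all, by
      rintro ⟨_, t, v, rfl⟩
      exact ⟨(t, v), rfl⟩⟩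
  rw [← Nat.card_congr e, Nat.card_prod]
  ring

/-- Uniqueness of the coordinates in `B`. -/
theorem e_eq_m (h2 : (2 : F) ≠ 0) {t u v s : F} {r : Fˣ} {t' u' v' : F}
    (e : K.m t u v * K.a s * K.h r = K.m t' u' v') : s = 0 ∧ r = 1 := by
  have e1 := K.e_m t u v s r 0 1 0
  rw [e, K.m_comm] at e1
  have e3 := mul_right_cancel e1
  simp only [mul_zero, mul_one, add_zero, zero_add] at e3
  obtain ⟨-, h4, h5⟩ := K.m_inj e3
  have hr : r = 1 := Units.ext h4.symm
  subst hr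
  simp only [Units.val_one, mul_one] at h5
  rcases mul_eq_zero.mp h5.symm with h6 | h6
  · exact absurd h6 h2
  · exact ⟨h6, rfl⟩

/-- Twisting the coordinates by an additive map `φ` with `φ (r² t) = φ t`. -/
def twist (φ : F →+ F) (hφ : ∀ (r : Fˣ) (t : F), φ ((r : F) * r * t) = φ t) : Co G F where
  a := K.a
  b := fun t => K.b t * K.d (φ t)
  c := K.c
  d := K.d
  h := K.h
  a_add := K.a_add
  b_add := by
    intro s t
    rw [K.b_add, map_add, K.d_add]
    calc K.b s * K.b t * (K.d (φ s) * K.d (φ t)) = K.b s * (K.b t * K.d (φ s)) * K.d (φ t) := by group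
      _ = _ := by rw [← K.db]; group
  c_add := K.c_add
  d_add := K.d_add
  h_mul := K.h_mul
  cb := by
    intro t u
    rw [← mul_assoc, K.cb, mul_assoc, mul_assoc, ← K.dc]
  db := by
    intro t v
    rw [← mul_assoc, K.db, mul_assoc, mul_assoc, ← K.d_add, ← K.d_add, add_comm]
  dc := K.dc
  ad := K.ad
  ab := by
    intro s t
    calc K.a s * (K.b t * K.d (φ t)) = (K.a s * K.b t) * K.d (φ t) := by group
      _ = K.b t * K.c (s * t) * K.d (s * s * t) * (K.a s * K.d (φ t)) := by rw [K.ab]; group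
      _ = K.b t * (K.c (s * t) * (K.d (s * s * t) * K.d (φ t))) * K.a s := by rw [K.ad]; group
      _ = K.b t * ((K.c (s * t) * K.d (φ t)) * K.d (s * s * t)) * K.a s := by
        rw [← K.d_add, add_comm, K.d_add]; group
      _ = _ := by rw [← K.dc]; group
  ac := K.ac
  ha := K.ha
  hb := by
    intro r t
    rw [hφ]
    calc K.h r * (K.b t * K.d (φ t)) = (K.h r * K.b t) * K.d (φ t) := by group
      _ = K.b ((r : F) * r * t) * (K.h r * K.d (φ t)) := by rw [K.hb]; group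
      _ = _ := by rw [K.hd]; group
  hc := K.hc
  hd := K.hd
  inj := by
    intro t u v e
    have e1 : K.m t u (v + φ t) = 1 := by
      rw [← e]
      unfold m
      calc K.b t * K.c u * K.d (v + φ t) = K.b t * (K.c u * K.d (φ t)) * K.d v := by
            rw [add_comm, K.d_add]; group
        _ = _ := by rw [← K.dc]; group
    obtain ⟨h1, h2, h3⟩ := K.m_eq_one e1
    subst h1
    refine ⟨rfl, h2, ?_⟩
    rwa [map_zero, add_zero] at h3

theorem twist_m (φ : F →+ F) (hφ : ∀ (r : Fˣ) (t : F), φ ((r : F) * r * t) = φ t) (t u v : F) :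
    (K.twist φ hφ).m t u v = K.m t u (v + φ t) := by
  unfold m
  change K.b t * K.d (φ t) * K.c u * K.d v = _
  calc K.b t * K.d (φ t) * K.c u * K.d v = K.b t * (K.d (φ t) * K.c u) * K.d v := by group
    _ = K.b t * K.c u * (K.d (φ t) * K.d v) := by rw [K.dc]; group
    _ = _ := by rw [← K.d_add, add_comm]

end Co

/-- Conjugate of a subgroup. -/
def cj {G : Type*} [Group G] (g : G) (S : Subgroup G) : Subgroup G :=
  S.map (MulAut.conj g).toMonoidHom

section cj

variable {G : Type*} [Group G]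

theorem mem_cj {g x : G} {S : Subgroup G} : x ∈ cj g S ↔ g⁻¹ * x * g ∈ S := by
  unfold cj
  rw [Subgroup.mem_map]
  constructor
  · rintro ⟨y, hy, rfl⟩
    have : g⁻¹ * (MulAut.conj g).toMonoidHom y * g = y := by
      simp [MulAut.conj_apply, mul_assoc]
    rwa [this]
  · intro hx
    refine ⟨_, hx, ?_⟩
    simp [MulAut.conj_apply, mul_assoc]

theorem conj_mem_cj {g x : G} {S : Subgroup G} (hx : x ∈ S) : g * x * g⁻¹ ∈ cj g S := by
  rw [mem_cj]
  have : g⁻¹ * (g * x * g⁻¹) * g = x := by group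
  rwa [this]

theorem cj_mul (g g' : G) (S : Subgroup G) : cj (g * g') S = cj g (cj g' S) := by
  ext x
  rw [mem_cj, mem_cj, mem_cj, mul_inv_rev]
  simp only [mul_assoc]

theorem cj_one (S : Subgroup G) : cj 1 S = S := by
  ext x
  rw [mem_cj]
  simp

theorem cj_inv_cj (g : G) (S : Subgroup G) : cj g⁻¹ (cj g S) = S := by
  rw [← cj_mul, inv_mul_cancel, cj_one]

theorem cj_cj_inv (g : G) (S : Subgroup G) : cj g (cj g⁻¹ S) = S := by
  rw [← cj_mul, mul_inv_cancel, cj_one]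

theorem cj_inj {g : G} {S T : Subgroup G} (e : cj g S = cj g T) : S = T := by
  rw [← cj_inv_cj g S, e, cj_inv_cj]

theorem cj_mono {g : G} {S T : Subgroup G} (e : S ≤ T) : cj g S ≤ cj g T :=
  Subgroup.map_mono e

theorem card_cj (g : G) (S : Subgroup G) : Nat.card (cj g S) = Nat.card S :=
  Nat.card_congr (S.equivMapOfInjective _ (MulAut.conj g).injective).toEquiv.symm

/-- A subgroup of an abelian normal `M` is fixed by conjugation with elements of `M`. -/
theorem cj_eq_of_comm {g : G} {S : Subgroup G} (hg : ∀ x ∈ S, g * x = x * g) : cj g S = S := by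
  ext x
  rw [mem_cj]
  constructor
  · intro hx
    have := hg _ hx
    have e : x = g⁻¹ * x * g := by
      have h1 : g * (g⁻¹ * x * g) = x * g := by group
      rw [h1] at this
      exact mul_right_cancel this
    rw [e]; exact hx
  · intro hx
    have e : g⁻¹ * x * g = x := by rw [mul_assoc, ← hg x hx]; group
    rwa [e]

end cj

end Cfsg.Agent.H339
end

-- part: H339/SpCo
section
/-!
# The coordinates in the stabiliser of a vector in `Sp₄(F)` (helper339, S3324)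
-/

set_option autoImplicit false
set_option linter.unusedSectionVars false
open Subgroup Matrix

namespace Cfsg.Agent.H339.SpCo

variable {F : Type*} [Field F]

/-- `Sp₄(F)`. -/
abbrev Sp (F : Type*) [Field F] := Matrix.symplecticGroup (Fin 2) F

/-- The matrix `(1 X; 0 1)`. -/
def U (X : Matrix (Fin 2) (Fin 2) F) (hX : Xᵀ = X) : Sp F :=
  ⟨fromBlocks 1 X 0 1, by
    rw [SymplecticGroup.mem_iff, J, fromBlocks_multiply, fromBlocks_transpose, fromBlocks_multiply]
    simp [hX]⟩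

/-- The matrix `(A 0; 0 D)`. -/
def L (A D : Matrix (Fin 2) (Fin 2) F) (h : A * Dᵀ = 1) : Sp F :=
  ⟨fromBlocks A 0 0 D, by
    have h' : D * Aᵀ = 1 := by
      have := congrArg Matrix.transpose h
      rwa [transpose_mul, transpose_transpose, transpose_one] at this
    rw [SymplecticGroup.mem_iff, J, fromBlocks_multiply, fromBlocks_transpose, fromBlocks_multiply]
    simp [h, h']⟩

theorem U_mul (X Y : Matrix (Fin 2) (Fin 2) F) (hX : Xᵀ = X) (hY : Yᵀ = Y) :
    U X hX * U Y hY = U (X + Y) (by rw [transpose_add, hX, hY]) := by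
  apply Subtype.ext
  change fromBlocks 1 X 0 1 * fromBlocks 1 Y 0 1 = fromBlocks 1 (X + Y) 0 1
  rw [fromBlocks_multiply]
  simp [add_comm]

theorem L_mul (A D A' D' : Matrix (Fin 2) (Fin 2) F) (h : A * Dᵀ = 1) (h' : A' * D'ᵀ = 1) :
    L A D h * L A' D' h' = L (A * A') (D * D') (by
      rw [transpose_mul, Matrix.mul_assoc, ← Matrix.mul_assoc A', h', Matrix.one_mul, h]) := by
  apply Subtype.ext
  change fromBlocks A 0 0 D * fromBlocks A' 0 0 D' = fromBlocks (A * A') 0 0 (D * D')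
  rw [fromBlocks_multiply]
  simp

theorem L_mul_U (A D X Y : Matrix (Fin 2) (Fin 2) F) (h : A * Dᵀ = 1) (hX : Xᵀ = X)
    (hY : Yᵀ = Y) (e : A * X = Y * D) : L A D h * U X hX = U Y hY * L A D h := by
  apply Subtype.ext
  change fromBlocks A 0 0 D * fromBlocks 1 X 0 1 = fromBlocks 1 Y 0 1 * fromBlocks A 0 0 D
  rw [fromBlocks_multiply, fromBlocks_multiply]
  simp [e]

/-- The symmetric matrix `(v u; u t)`. -/
def sy (t u v : F) : Matrix (Fin 2) (Fin 2) F := !![v, u; u, t]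

theorem sy_symm (t u v : F) : (sy t u v)ᵀ = sy t u v := by
  ext i j
  fin_cases i <;> fin_cases j <;> rfl

theorem sy_add (t u v t' u' v' : F) : sy t u v + sy t' u' v' = sy (t + t') (u + u') (v + v') := by
  ext i j
  fin_cases i <;> fin_cases j <;> rfl

/-- The element `(1 X; 0 1)` with `X = (v u; u t)`. -/
def m (t u v : F) : Sp F := U (sy t u v) (sy_symm t u v)

theorem m_mul (t u v t' u' v' : F) : m t u v * m t' u' v' = m (t + t') (u + u') (v + v') := by
  unfold m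
  rw [U_mul]
  apply Subtype.ext
  change fromBlocks 1 _ 0 1 = fromBlocks 1 _ 0 1
  rw [sy_add]

/-- The element `a s`. -/
def a (s : F) : Sp F := L !![1, s; 0, 1] !![1, 0; -s, 1] (by
  ext i j
  fin_cases i <;> fin_cases j <;> simp [Matrix.mul_apply, Fin.sum_univ_two])

/-- The element `h r`. -/
def h (r : Fˣ) : Sp F := L !![1, 0; 0, (r : F)] !![1, 0; 0, (↑r⁻¹ : F)] (by
  ext i j
  fin_cases i <;> fin_cases j <;> simp [Matrix.mul_apply, Fin.sum_univ_two])

theorem a_add (s t : F) : a (s + t) = a s * a t := by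
  unfold a
  rw [L_mul]
  apply Subtype.ext
  change fromBlocks _ 0 0 _ = fromBlocks _ 0 0 _
  congr 1
  · ext i j
    fin_cases i <;> fin_cases j <;> simp [Matrix.mul_apply, Fin.sum_univ_two, add_comm]
  · ext i j
    fin_cases i <;> fin_cases j <;> simp [Matrix.mul_apply, Fin.sum_univ_two, add_comm]

theorem h_mul (r r' : Fˣ) : h (r * r') = h r * h r' := by
  unfold h
  rw [L_mul]
  apply Subtype.ext
  change fromBlocks _ 0 0 _ = fromBlocks _ 0 0 _
  congr 1
  · ext i j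
    fin_cases i <;> fin_cases j <;> simp [Matrix.mul_apply, Fin.sum_univ_two]
  · ext i j
    fin_cases i <;> fin_cases j <;> simp [Matrix.mul_apply, Fin.sum_univ_two, mul_comm]

theorem a_m (s t u v : F) :
    a s * m t u v = m t (u + s * t) (v + 2 * s * u + s * s * t) * a s := by
  apply L_mul_U
  ext i j
  fin_cases i <;> fin_cases j <;> simp [sy, Matrix.mul_apply, Fin.sum_univ_two] <;> ring

theorem h_m (r : Fˣ) (t u v : F) :
    h r * m t u v = m ((r : F) * r * t) ((r : F) * u) v * h r := by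
  apply L_mul_U
  ext i j
  have := r.ne_zero
  fin_cases i <;> fin_cases j <;> simp [sy, Matrix.mul_apply, Fin.sum_univ_two] <;> field_simp

theorem h_a (r : Fˣ) (s : F) : h r * a s = a ((↑r⁻¹ : F) * s) * h r := by
  unfold a h
  rw [L_mul, L_mul]
  apply Subtype.ext
  change fromBlocks _ 0 0 _ = fromBlocks _ 0 0 _
  have := r.ne_zero
  congr 1
  · ext i j
    fin_cases i <;> fin_cases j <;> simp [Matrix.mul_apply, Fin.sum_univ_two]
    field_simp
  · ext i j
    fin_cases i <;> fin_cases j <;> simp [Matrix.mul_apply, Fin.sum_univ_two]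

theorem m_eq_one {t u v : F} (e : m t u v = 1) : t = 0 ∧ u = 0 ∧ v = 0 := by
  have e1 : fromBlocks 1 (sy t u v) 0 1 = (1 : Matrix (Fin 2 ⊕ Fin 2) (Fin 2 ⊕ Fin 2) F) :=
    congrArg Subtype.val e
  rw [← fromBlocks_one, fromBlocks_inj] at e1
  have e2 := e1.2.1
  refine ⟨?_, ?_, ?_⟩
  · have := congrFun (congrFun e2 1) 1; simpa [sy] using this
  · have := congrFun (congrFun e2 0) 1; simpa [sy] using this
  · have := congrFun (congrFun e2 0) 0; simpa [sy] using this

/-- The stabiliser of the first basis vector. -/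
def S1 (F : Type*) [Field F] : Subgroup (Sp F) where
  carrier := {g | ∀ i, g.1 i (Sum.inl 0) = (1 : Matrix (Fin 2 ⊕ Fin 2) (Fin 2 ⊕ Fin 2) F) i (Sum.inl 0)}
  mul_mem' := by
    intro g g' hg hg' i
    change (g.1 * g'.1) i (Sum.inl 0) = _
    rw [Matrix.mul_apply]
    have : ∀ j, g.1 i j * g'.1 j (Sum.inl 0) = if j = Sum.inl 0 then g.1 i j else 0 := by
      intro j
      rw [hg' j, Matrix.one_apply]
      split_ifs <;> simp
    simp only [this, Finset.sum_ite_eq', Finset.mem_univ, if_true]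
    exact hg i
  one_mem' := fun i => rfl
  inv_mem' := by
    intro g hg i
    have h1 : (g⁻¹).1 * g.1 = 1 := congrArg Subtype.val (inv_mul_cancel g)
    have h2 := congrFun (congrFun h1 i) (Sum.inl 0)
    rw [Matrix.mul_apply] at h2
    have : ∀ j, (g⁻¹).1 i j * g.1 j (Sum.inl 0) = if j = Sum.inl 0 then (g⁻¹).1 i j else 0 := by
      intro j
      rw [hg j, Matrix.one_apply]
      split_ifs <;> simp
    simp only [this, Finset.sum_ite_eq', Finset.mem_univ, if_true] at h2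
    exact h2

theorem U_mem (X : Matrix (Fin 2) (Fin 2) F) (hX : Xᵀ = X) : U X hX ∈ S1 F := by
  rintro (i | i)
  · change (fromBlocks (1 : Matrix (Fin 2) (Fin 2) F) X 0 1) (Sum.inl i) (Sum.inl 0) = _
    rw [fromBlocks_apply₁₁, ← fromBlocks_one, fromBlocks_apply₁₁]
  · change (fromBlocks (1 : Matrix (Fin 2) (Fin 2) F) X 0 1) (Sum.inr i) (Sum.inl 0) = _
    rw [fromBlocks_apply₂₁, ← fromBlocks_one, fromBlocks_apply₂₁]

theorem m_mem (t u v : F) : m t u v ∈ S1 F := U_mem _ _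

theorem a_mem (s : F) : a s ∈ S1 F := by
  rintro (i | i)
  · change (fromBlocks (!![1, s; 0, 1] : Matrix (Fin 2) (Fin 2) F) 0 0 _) (Sum.inl i) (Sum.inl 0) = _
    rw [fromBlocks_apply₁₁, ← fromBlocks_one, fromBlocks_apply₁₁]
    fin_cases i <;> rfl
  · change (fromBlocks (!![1, s; 0, 1] : Matrix (Fin 2) (Fin 2) F) 0 0 _) (Sum.inr i) (Sum.inl 0) = _
    rw [fromBlocks_apply₂₁, ← fromBlocks_one, fromBlocks_apply₂₁]

theorem h_mem (r : Fˣ) : h r ∈ S1 F := by
  rintro (i | i)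
  · change (fromBlocks (!![1, 0; 0, (r : F)] : Matrix (Fin 2) (Fin 2) F) 0 0 _) (Sum.inl i) (Sum.inl 0) = _
    rw [fromBlocks_apply₁₁, ← fromBlocks_one, fromBlocks_apply₁₁]
    fin_cases i <;> rfl
  · change (fromBlocks (!![1, 0; 0, (r : F)] : Matrix (Fin 2) (Fin 2) F) 0 0 _) (Sum.inr i) (Sum.inl 0) = _
    rw [fromBlocks_apply₂₁, ← fromBlocks_one, fromBlocks_apply₂₁]

/-- The coordinates. -/
def co (F : Type*) [Field F] : Co (S1 F) F where
  a := fun s => ⟨a s, a_mem s⟩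
  b := fun t => ⟨m t 0 0, m_mem t 0 0⟩
  c := fun u => ⟨m 0 u 0, m_mem 0 u 0⟩
  d := fun v => ⟨m 0 0 v, m_mem 0 0 v⟩
  h := fun r => ⟨h r, h_mem r⟩
  a_add := fun s t => Subtype.ext (a_add s t)
  b_add := fun s t => Subtype.ext (by
    change m (s + t) 0 0 = m s 0 0 * m t 0 0
    rw [m_mul, add_zero])
  c_add := fun s t => Subtype.ext (by
    change m 0 (s + t) 0 = m 0 s 0 * m 0 t 0
    rw [m_mul, add_zero])
  d_add := fun s t => Subtype.ext (by
    change m 0 0 (s + t) = m 0 0 s * m 0 0 t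
    rw [m_mul, add_zero])
  h_mul := fun s t => Subtype.ext (h_mul s t)
  cb := fun t u => Subtype.ext (by
    change m 0 u 0 * m t 0 0 = m t 0 0 * m 0 u 0
    rw [m_mul, m_mul]; simp)
  db := fun t u => Subtype.ext (by
    change m 0 0 u * m t 0 0 = m t 0 0 * m 0 0 u
    rw [m_mul, m_mul]; simp)
  dc := fun t u => Subtype.ext (by
    change m 0 0 u * m 0 t 0 = m 0 t 0 * m 0 0 u
    rw [m_mul, m_mul]; simp)
  ad := fun s v => Subtype.ext (by
    change a s * m 0 0 v = m 0 0 v * a s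
    rw [a_m]; simp)
  ab := fun s t => Subtype.ext (by
    change a s * m t 0 0 = m t 0 0 * m 0 (s * t) 0 * m 0 0 (s * s * t) * a s
    rw [a_m, m_mul, m_mul]; simp)
  ac := fun s u => Subtype.ext (by
    change a s * m 0 u 0 = m 0 u 0 * m 0 0 (2 * s * u) * a s
    rw [a_m, m_mul]; simp)
  ha := fun r s => Subtype.ext (h_a r s)
  hb := fun r t => Subtype.ext (by
    change h r * m t 0 0 = m ((r : F) * r * t) 0 0 * h r
    rw [h_m]; simp)
  hc := fun r t => Subtype.ext (by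
    change h r * m 0 t 0 = m 0 ((r : F) * t) 0 * h r
    rw [h_m]; simp)
  hd := fun r t => Subtype.ext (by
    change h r * m 0 0 t = m 0 0 t * h r
    rw [h_m]; simp)
  inj := fun t u v e => by
    have e1 : m t 0 0 * m 0 u 0 * m 0 0 v = (1 : Sp F) := congrArg Subtype.val e
    rw [m_mul, m_mul] at e1
    have := m_eq_one e1
    simpa using this

theorem co_m (t u v : F) : ((co F).m t u v : Sp F) = m t u v := by
  change m t 0 0 * m 0 u 0 * m 0 0 v = _
  rw [m_mul, m_mul]; simp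

/-! ### Entries of the elements of `S1` -/

theorem row_f1 {g : Sp F} (hg : g ∈ S1 F) (j : Fin 2 ⊕ Fin 2) :
    g.1 (Sum.inr 0) j = if j = Sum.inr 0 then 1 else 0 := by
  have h1 := SymplecticGroup.mem_iff'.mp g.2
  have h2 := congrFun (congrFun h1 (Sum.inl 0)) j
  rw [Matrix.mul_apply] at h2
  simp only [Matrix.mul_apply, Matrix.transpose_apply, Fintype.sum_sum_type, Fin.sum_univ_two] at h2
  have e1 := hg (Sum.inl 0)
  have e2 := hg (Sum.inl 1)
  have e3 := hg (Sum.inr 0)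
  have e4 := hg (Sum.inr 1)
  simp only [Matrix.one_apply_eq, Matrix.one_apply, reduceCtorEq, if_false, Sum.inl.injEq,
    one_ne_zero] at e1 e2 e3 e4
  simp only [e1, e2, e3, e4, J, fromBlocks_apply₁₁, fromBlocks_apply₁₂, fromBlocks_apply₂₁,
    fromBlocks_apply₂₂, Matrix.neg_apply, Matrix.one_apply, Matrix.zero_apply] at h2
  rcases j with j | j
  · fin_cases j <;> simp [fromBlocks] at h2 ⊢ <;> linear_combination h2
  · fin_cases j <;> simp [fromBlocks] at h2 ⊢ <;> linear_combination h2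

end Cfsg.Agent.H339.SpCo
end

-- part: H339/SpSyl
section
/-!
# The stabiliser of a vector in `Sp₄(F)`: normaliser of `M`, Sylow subgroups (helper339, S3324)
-/

set_option autoImplicit false
set_option linter.unusedSectionVars false
set_option linter.unusedSimpArgs false
set_option linter.unusedVariables false
open Subgroup Matrix

namespace Cfsg.Agent.H339.SpCo

variable {F : Type*} [Field F]

theorem entries {g : Sp F} (hg : g ∈ S1 F) :
    g.1 (Sum.inl 1) (Sum.inl 1) * g.1 (Sum.inr 1) (Sum.inr 1) -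
      g.1 (Sum.inl 1) (Sum.inr 1) * g.1 (Sum.inr 1) (Sum.inl 1) = 1 ∧
    g.1 (Sum.inl 0) (Sum.inl 1) = g.1 (Sum.inr 1) (Sum.inl 1) * g.1 (Sum.inl 1) (Sum.inr 0) -
      g.1 (Sum.inl 1) (Sum.inl 1) * g.1 (Sum.inr 1) (Sum.inr 0) ∧
    g.1 (Sum.inl 0) (Sum.inr 1) = g.1 (Sum.inr 1) (Sum.inr 1) * g.1 (Sum.inl 1) (Sum.inr 0) -
      g.1 (Sum.inl 1) (Sum.inr 1) * g.1 (Sum.inr 1) (Sum.inr 0) := by
  have h1 := SymplecticGroup.mem_iff'.mp g.2
  have r1 := row_f1 hg (Sum.inl 0)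
  have r2 := row_f1 hg (Sum.inl 1)
  have r3 := row_f1 hg (Sum.inr 0)
  have r4 := row_f1 hg (Sum.inr 1)
  have key : ∀ i j, (g.1ᵀ * J (Fin 2) F * g.1) i j = J (Fin 2) F i j := fun i j => by rw [h1]
  have k1 := key (Sum.inl 1) (Sum.inr 1)
  have k2 := key (Sum.inl 1) (Sum.inr 0)
  have k3 := key (Sum.inr 1) (Sum.inr 0)
  simp [Matrix.mul_apply, Fintype.sum_sum_type, Fin.sum_univ_two, J, fromBlocks] at k1 k2 k3 r1 r2 r3 r4
  rw [r2] at k1 k2
  rw [r4] at k1 k3
  rw [r3] at k2 k3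
  refine ⟨?_, ?_, ?_⟩
  · linear_combination -k1
  · linear_combination -k2
  · linear_combination -k3

theorem col_e1 {g : Sp F} (hg : g ∈ S1 F) : g.1 (Sum.inl 0) (Sum.inl 0) = 1 ∧
    g.1 (Sum.inl 1) (Sum.inl 0) = 0 ∧ g.1 (Sum.inr 0) (Sum.inl 0) = 0 ∧
    g.1 (Sum.inr 1) (Sum.inl 0) = 0 := by
  refine ⟨?_, ?_, ?_, ?_⟩
  · rw [hg]; rfl
  · rw [hg]; rfl
  · rw [hg]; rfl
  · rw [hg]; rfl

/-- Matrix of the general element of `B`. -/
theorem e_val (t u v s : F) (r : Fˣ) : (m t u v * a s * h r).1 =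
    fromBlocks !![1, s * r; 0, (r : F)] !![v - u * s, u * ↑r⁻¹; u - t * s, t * ↑r⁻¹] 0
      !![1, 0; -s, (↑r⁻¹ : F)] := by
  change fromBlocks 1 (sy t u v) 0 1 * fromBlocks !![1, s; 0, 1] 0 0 !![1, 0; -s, 1] *
    fromBlocks !![1, 0; 0, (r : F)] 0 0 !![1, 0; 0, (↑r⁻¹ : F)] = _
  rw [fromBlocks_multiply, fromBlocks_multiply]
  congr 1
  · ext i j
    fin_cases i <;> fin_cases j <;> simp [Matrix.mul_apply, Fin.sum_univ_two]
  · ext i j
    fin_cases i <;> fin_cases j <;> simp [sy, Matrix.mul_apply, Fin.sum_univ_two] <;> ring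
  · simp
  · ext i j
    fin_cases i <;> fin_cases j <;> simp [Matrix.mul_apply, Fin.sum_univ_two]

theorem exists_of_entry {g : Sp F} (hg : g ∈ S1 F) (h0 : g.1 (Sum.inr 1) (Sum.inl 1) = 0) :
    ∃ t u v s r, g = m t u v * a s * h r ∧ (r : F) = g.1 (Sum.inl 1) (Sum.inl 1) := by
  obtain ⟨e1, e2, e3⟩ := entries hg
  obtain ⟨c1, c2, c3, c4⟩ := col_e1 hg
  have r2 := row_f1 hg (Sum.inl 1)
  have r3 := row_f1 hg (Sum.inr 0)
  have r4 := row_f1 hg (Sum.inr 1)
  simp at r2 r3 r4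
  rw [h0, mul_zero, sub_zero] at e1
  rw [h0, zero_mul, zero_sub] at e2
  have hne : g.1 (Sum.inl 1) (Sum.inl 1) ≠ 0 := left_ne_zero_of_mul_eq_one e1
  let r : Fˣ := Units.mk0 _ hne
  have hr : (r : F) = g.1 (Sum.inl 1) (Sum.inl 1) := rfl
  have hr' : (↑r⁻¹ : F) = g.1 (Sum.inr 1) (Sum.inr 1) := by
    rw [Units.val_inv_eq_inv_val, hr]
    exact inv_eq_of_mul_eq_one_right e1
  refine ⟨g.1 (Sum.inl 1) (Sum.inr 1) * r, g.1 (Sum.inl 1) (Sum.inr 0) -
    g.1 (Sum.inl 1) (Sum.inr 1) * r * g.1 (Sum.inr 1) (Sum.inr 0),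
    g.1 (Sum.inl 0) (Sum.inr 0) - (g.1 (Sum.inl 1) (Sum.inr 0) -
    g.1 (Sum.inl 1) (Sum.inr 1) * r * g.1 (Sum.inr 1) (Sum.inr 0)) * g.1 (Sum.inr 1) (Sum.inr 0),
    - g.1 (Sum.inr 1) (Sum.inr 0), r, ?_, hr⟩
  apply Subtype.ext
  rw [e_val]
  have hrr : (r : F) * ↑r⁻¹ = 1 := by simp
  ext i j
  rcases i with i | i <;> rcases j with j | j
  · rw [fromBlocks_apply₁₁]
    fin_cases i <;> fin_cases j
    · simpa using c1
    · simp only [Fin.mk_one, Fin.zero_eta, Matrix.of_apply, Matrix.cons_val', Matrix.cons_val_one,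
        Matrix.cons_val_zero]
      change g.1 (Sum.inl 0) (Sum.inl 1) = -g.1 (Sum.inr 1) (Sum.inr 0) * r
      rw [e2, hr]; ring
    · simpa using c2
    · change g.1 (Sum.inl 1) (Sum.inl 1) = r
      rw [hr]
  · rw [fromBlocks_apply₁₂]
    fin_cases i <;> fin_cases j
    · change g.1 (Sum.inl 0) (Sum.inr 0) = _ - _ * (-_)
      ring
    · change g.1 (Sum.inl 0) (Sum.inr 1) = _ * (↑r⁻¹ : F)
      rw [e3, sub_mul]
      have : g.1 (Sum.inl 1) (Sum.inr 1) * r * g.1 (Sum.inr 1) (Sum.inr 0) * (↑r⁻¹ : F) =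
        g.1 (Sum.inl 1) (Sum.inr 1) * g.1 (Sum.inr 1) (Sum.inr 0) * (r * ↑r⁻¹ : F) := by ring
      rw [this, hrr, hr']; ring
    · change g.1 (Sum.inl 1) (Sum.inr 0) = _ - _ * (-_)
      ring
    · change g.1 (Sum.inl 1) (Sum.inr 1) = _ * (↑r⁻¹ : F)
      rw [mul_assoc, hrr, mul_one]
  · rw [fromBlocks_apply₂₁]
    fin_cases i <;> fin_cases j
    · exact c3
    · exact r2
    · exact c4
    · exact h0
  · rw [fromBlocks_apply₂₂]
    fin_cases i <;> fin_cases j
    · exact r3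
    · exact r4
    · change g.1 (Sum.inr 1) (Sum.inr 0) = - -_
      ring
    · change g.1 (Sum.inr 1) (Sum.inr 1) = ↑r⁻¹
      rw [hr']

/-- The normaliser of `M` in `S1`. -/
theorem entry_of_conj {g : Sp F} (hg : g ∈ S1 F) {t u v : F}
    (h1 : g * m 1 0 0 = m t u v * g) : g.1 (Sum.inr 1) (Sum.inl 1) = 0 := by
  have h2 : g.1 * fromBlocks 1 (sy 1 0 0) 0 1 = fromBlocks 1 (sy t u v) 0 1 * g.1 :=
    congrArg Subtype.val h1
  have h3 := congrFun (congrFun h2 (Sum.inr 1)) (Sum.inr 1)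
  simp [Matrix.mul_apply, Fintype.sum_sum_type, Fin.sum_univ_two, fromBlocks, sy] at h3
  exact h3

theorem tr2 (a b c d : F) : (!![a, b; c, d] : Matrix (Fin 2) (Fin 2) F)ᵀ = !![a, c; b, d] := by
  ext i j
  fin_cases i <;> fin_cases j <;> rfl

/-- The matrix of `g ∈ S1` on `e₁^⊥/e₁`. -/
def rm (g : Sp F) : Matrix (Fin 2) (Fin 2) F :=
  !![g.1 (Sum.inl 1) (Sum.inl 1), g.1 (Sum.inl 1) (Sum.inr 1);
    g.1 (Sum.inr 1) (Sum.inl 1), g.1 (Sum.inr 1) (Sum.inr 1)]

theorem rm_mul {g g' : Sp F} (hg : g ∈ S1 F) (hg' : g' ∈ S1 F) : rm (g * g') = rm g * rm g' := by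
  obtain ⟨c1, c2, c3, c4⟩ := col_e1 hg
  have r2 := row_f1 hg' (Sum.inl 1)
  have r4 := row_f1 hg' (Sum.inr 1)
  simp at r2 r4
  have e : (g * g').1 = g.1 * g'.1 := rfl
  unfold rm
  rw [Matrix.mul_fin_two, e]
  simp only [Matrix.mul_apply, Fintype.sum_sum_type, Fin.sum_univ_two, c2, c4, r2, r4, zero_mul,
    mul_zero, zero_add]

/-- The homomorphism of `S1` to `SL₂(F)`. -/
def rho (F : Type*) [Field F] : S1 F →* Matrix.SpecialLinearGroup (Fin 2) F where
  toFun g := ⟨rm g.1, by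
      unfold rm
      rw [Matrix.det_fin_two_of]
      exact (entries g.2).1⟩
  map_one' := by
    apply Subtype.ext
    change rm 1 = 1
    ext i j
    fin_cases i <;> fin_cases j <;> rfl
  map_mul' g g' := by
    apply Subtype.ext
    exact rm_mul g.2 g'.2

/-- A section. -/
def emb (A : Matrix.SpecialLinearGroup (Fin 2) F) : Sp F :=
  ⟨fromBlocks !![1, 0; 0, A.1 0 0] !![0, 0; 0, A.1 0 1] !![0, 0; 0, A.1 1 0] !![1, 0; 0, A.1 1 1], by
    have hA := A.2
    rw [Matrix.det_fin_two] at hA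
    rw [SymplecticGroup.mem_iff, J, fromBlocks_multiply, fromBlocks_transpose, fromBlocks_multiply,
      tr2, tr2, tr2, tr2]
    congr 1
    · ext i j
      fin_cases i <;> fin_cases j <;> simp [Matrix.mul_apply, Fin.sum_univ_two]
      ring
    · ext i j
      fin_cases i <;> fin_cases j <;> simp [Matrix.mul_apply, Fin.sum_univ_two]
      linear_combination -hA
    · ext i j
      fin_cases i <;> fin_cases j <;> simp [Matrix.mul_apply, Fin.sum_univ_two]
      linear_combination hA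
    · ext i j
      fin_cases i <;> fin_cases j <;> simp [Matrix.mul_apply, Fin.sum_univ_two]
      ring⟩

theorem emb_mem (A : Matrix.SpecialLinearGroup (Fin 2) F) : emb A ∈ S1 F := by
  rintro (i | i) <;> fin_cases i <;> rfl

theorem rho_emb (A : Matrix.SpecialLinearGroup (Fin 2) F) : rho F ⟨emb A, emb_mem A⟩ = A := by
  apply Subtype.ext
  ext i j
  fin_cases i <;> fin_cases j <;> rfl

theorem rho_surjective : Function.Surjective (rho F) := fun A => ⟨_, rho_emb A⟩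

/-- `SL₂` is transitive on nonzero vectors. -/
theorem exists_sl {y z : F} (hyz : y ≠ 0 ∨ z ≠ 0) :
    ∃ A : Matrix.SpecialLinearGroup (Fin 2) F, A.1 0 0 = y ∧ A.1 1 0 = z := by
  by_cases hy : y = 0
  · have hz : z ≠ 0 := by
      rcases hyz with h | h
      · exact absurd hy h
      · exact h
    exact ⟨⟨!![y, -z⁻¹; z, 0], by rw [Matrix.det_fin_two_of]; field_simp; ring⟩, rfl, rfl⟩
  · exact ⟨⟨!![y, 0; z, y⁻¹], by rw [Matrix.det_fin_two_of]; field_simp; ring⟩, rfl, rfl⟩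

theorem isPGroup_P [Finite F] {p n : ℕ} [Fact p.Prime] (hF : Nat.card F = p ^ n) :
    IsPGroup p (co F).P := by
  have e : (F × F × F × F) ≃ (co F).P := Equiv.ofBijective
    (fun x => ⟨(co F).m x.1 x.2.1 x.2.2.1 * (co F).a x.2.2.2, ⟨_, _, _, _, rfl⟩⟩) ⟨by
      rintro ⟨t, u, v, s⟩ ⟨t', u', v', s'⟩ e
      have e1 : (co F).m t u v * (co F).a s = (co F).m t' u' v' * (co F).a s' :=
        congrArg Subtype.val e
      have e2 : m t u v * a s * h 1 = m t' u' v' * a s' * h 1 := by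
        have := congrArg (fun x : S1 F => (x : Sp F) * h 1) e1
        simp only [Subgroup.coe_mul, co_m] at this
        exact this
      have e3 := congrArg Subtype.val e2
      rw [e_val, e_val, fromBlocks_inj] at e3
      obtain ⟨-, f2, -, f4⟩ := e3
      have g1 := congrFun (congrFun f4 1) 0
      have g2 := congrFun (congrFun f2 1) 1
      have g3 := congrFun (congrFun f2 0) 1
      have g4 := congrFun (congrFun f2 0) 0
      simp at g1 g2 g3 g4
      subst g1 g2 g3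
      have : v = v' := by linear_combination g4
      subst this
      rfl, by
      rintro ⟨_, t, u, v, s, rfl⟩
      exact ⟨(t, u, v, s), rfl⟩⟩
  apply IsPGroup.of_card (n := 4 * n)
  rw [← Nat.card_congr e, Nat.card_prod, Nat.card_prod, Nat.card_prod, hF]
  ring

/-- Every `p`-subgroup of `S1` is conjugate to a subgroup of `P`. -/
theorem exists_conj_le [Finite F] {p n : ℕ} [Fact p.Prime] (hn : 1 ≤ n) (hF : Nat.card F = p ^ n)
    (Q : Subgroup (S1 F)) (hQ : IsPGroup p Q) :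
    ∃ g : S1 F, ∀ x ∈ Q, g⁻¹ * x * g ∈ (co F).P := by
  classical
  letI : MulAction Q (Fin 2 → F) :=
    { smul := fun g w => (rho F g).1 *ᵥ w
      one_smul := fun w => by
        change (rho F ((1 : Q) : S1 F)).1 *ᵥ w = w
        rw [Subgroup.coe_one, map_one]
        change (1 : Matrix (Fin 2) (Fin 2) F) *ᵥ w = w
        rw [Matrix.one_mulVec]
      mul_smul := fun g g' w => by
        change (rho F ((g * g' : Q) : S1 F)).1 *ᵥ w = (rho F g).1 *ᵥ ((rho F g').1 *ᵥ w)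
        rw [Subgroup.coe_mul, map_mul, Matrix.mulVec_mulVec]
        rfl }
  have h0 : (0 : Fin 2 → F) ∈ MulAction.fixedPoints Q (Fin 2 → F) := by
    intro g
    exact Matrix.mulVec_zero _
  obtain ⟨w, hw, hw0⟩ := hQ.exists_fixed_point_of_prime_dvd_card_of_fixed_point (Fin 2 → F)
    (by
      rw [Nat.card_fun, Nat.card_eq_fintype_card (α := Fin 2), Fintype.card_fin, hF, ← pow_mul]
      exact dvd_pow_self p (by omega)) h0
  have hw1 : w 0 ≠ 0 ∨ w 1 ≠ 0 := by
    by_contra hcon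
    push Not at hcon
    apply hw0
    ext i
    fin_cases i
    · exact hcon.1.symm
    · exact hcon.2.symm
  obtain ⟨A, hA0, hA1⟩ := exists_sl hw1
  obtain ⟨g, hg⟩ := rho_surjective A
  refine ⟨g, fun x hx => ?_⟩
  -- `A e₁ = w`
  have hAe : A.1 *ᵥ ![1, 0] = w := by
    ext i
    fin_cases i <;> simp [Matrix.mulVec, dotProduct, Fin.sum_univ_two, hA0, hA1]
  have hxw : (rho F x).1 *ᵥ w = w := hw ⟨x, hx⟩
  have h1 : (rho F (g⁻¹ * x * g)).1 *ᵥ ![1, 0] = ![1, 0] := by
    rw [map_mul, map_mul, hg, map_inv, hg]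
    have e1 : (A⁻¹ * rho F x * A).1 *ᵥ ![1, 0] = (A⁻¹).1 *ᵥ ((rho F x).1 *ᵥ (A.1 *ᵥ ![1, 0])) := by
      rw [Matrix.mulVec_mulVec, Matrix.mulVec_mulVec]
      rfl
    rw [e1, hAe, hxw, ← hAe, Matrix.mulVec_mulVec]
    have e2 : (A⁻¹).1 * A.1 = 1 := congrArg Subtype.val (inv_mul_cancel A)
    rw [e2, Matrix.one_mulVec]
  set y := g⁻¹ * x * g with hy
  have h2 := congrFun h1 0
  have h3 := congrFun h1 1
  simp [Matrix.mulVec, dotProduct, Fin.sum_univ_two] at h2 h3
  have h3' : y.1.1 (Sum.inr 1) (Sum.inl 1) = 0 := h3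
  have h2' : y.1.1 (Sum.inl 1) (Sum.inl 1) = 1 := h2
  obtain ⟨t, u, v, s, r, e, hr⟩ := exists_of_entry y.2 h3'
  rw [h2'] at hr
  have hr1 : r = 1 := Units.ext hr
  subst hr1
  refine ⟨t, u, v, s, ?_⟩
  apply Subtype.ext
  change (y : Sp F) = ((co F).m t u v : Sp F) * ((co F).a s : Sp F)
  have : h (1 : Fˣ) = (1 : Sp F) := congrArg Subtype.val (co F).h_one
  rw [co_m, e, this, mul_one]
  rfl

end Cfsg.Agent.H339.SpCo
end

-- part: H339/SpCen
section
/-!
# The centralizer in `PSp₄(F)` of a central element of a Sylow `p`-subgroup (helper339, S3324)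
-/

set_option autoImplicit false
set_option linter.unusedSectionVars false
set_option linter.unusedSimpArgs false
set_option linter.unusedVariables false
open Subgroup Matrix

namespace Cfsg.Agent.H339.SpCo

variable {F : Type*} [Field F]

/-- The projection of `Sp₄(F)` to `PSp₄(F)`. -/
def pr (F : Type*) [Field F] : Sp F →* Cfsg.PSp 2 F := QuotientGroup.mk' _

theorem pr_surjective : Function.Surjective (pr F) := QuotientGroup.mk'_surjective _

theorem mem_ker_pr {z : Sp F} : pr F z = 1 ↔ ∃ b : F, b * b = 1 ∧ z.1 = b • 1 := by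
  have h1 : pr F z = 1 ↔ z ∈ Subgroup.center (Sp F) := QuotientGroup.eq_one_iff z
  rw [h1, Cfsg.Agent.LieClassical.SympCenter.mem_center_iff]
  constructor
  · rintro ⟨b, hb⟩
    refine ⟨b, ?_, hb⟩
    apply Cfsg.Agent.LieClassical.SympCenter.sq_eq_one_of_smul_mem (m := 2) (by norm_num)
    rw [← hb]; exact z.2
  · rintro ⟨b, -, hb⟩
    exact ⟨b, hb⟩

theorem ker_comm {z : Sp F} (hz : pr F z = 1) (g : Sp F) : g * z = z * g := by
  have h1 : z ∈ Subgroup.center (Sp F) := (QuotientGroup.eq_one_iff z).mp hz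
  exact Subgroup.mem_center_iff.mp h1 g

theorem ker_sq {z : Sp F} (hz : pr F z = 1) : z * z = 1 := by
  obtain ⟨b, hb, e⟩ := mem_ker_pr.mp hz
  apply Subtype.ext
  change z.1 * z.1 = 1
  rw [e, Matrix.smul_mul, Matrix.one_mul, smul_smul, hb, one_smul]

theorem ker_S1 {z : Sp F} (hz : pr F z = 1) (hS : z ∈ S1 F) : z = 1 := by
  obtain ⟨b, hb, e⟩ := mem_ker_pr.mp hz
  have h1 := hS (Sum.inl 0)
  rw [e, Matrix.smul_apply, Matrix.one_apply_eq, smul_eq_mul, mul_one] at h1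
  apply Subtype.ext
  change z.1 = 1
  rw [e, h1, one_smul]

theorem pr_inj {g g' : Sp F} (hg : g ∈ S1 F) (hg' : g' ∈ S1 F) (e : pr F g = pr F g') : g = g' := by
  have h1 : pr F (g * g'⁻¹) = 1 := by rw [map_mul, map_inv, e, mul_inv_cancel]
  have h2 := ker_S1 h1 ((S1 F).mul_mem hg ((S1 F).inv_mem hg'))
  exact mul_inv_eq_one.mp h2

/-- Commuting modulo the centre with a `p`-element, `p` odd. -/
theorem comm_of_pr {p : ℕ} (hp : p.Prime) (hp2 : p ≠ 2) {g y : Sp F} (hy : y ^ p = 1)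
    (e : pr F g * pr F y = pr F y * pr F g) : g * y = y * g := by
  have h1 : pr F (g * y * g⁻¹ * y⁻¹) = 1 := by
    rw [map_mul, map_mul, map_mul, map_inv, map_inv, e]; group
  set z := g * y * g⁻¹ * y⁻¹ with hz
  have h2 : g * y * g⁻¹ = z * y := by rw [hz]; group
  have h3 : (z * y) ^ p = 1 := by
    rw [← h2, conj_pow, hy, mul_one, mul_inv_cancel]
  have h4 : Commute z y := (ker_comm h1 y).symm
  rw [h4.mul_pow, hy, mul_one] at h3
  have h5 : z ^ 2 = 1 := by rw [sq]; exact ker_sq h1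
  have h6 : z = 1 := by
    have h7 : orderOf z ∣ p := orderOf_dvd_of_pow_eq_one h3
    have h8 : orderOf z ∣ 2 := orderOf_dvd_of_pow_eq_one h5
    have h9 : orderOf z ∣ Nat.gcd p 2 := Nat.dvd_gcd h7 h8
    have : Nat.Coprime p 2 := (Nat.coprime_primes hp Nat.prime_two).mpr hp2
    rw [this] at h9
    exact orderOf_eq_one_iff.mp (Nat.dvd_one.mp h9)
  rw [h6, one_mul] at h2
  calc g * y = g * y * g⁻¹ * g := by group
    _ = y * g := by rw [h2]

/-- An element commuting with the transvection `m 0 0 v`. -/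
theorem of_comm_d {g : Sp F} {v : F} (hv : v ≠ 0) (e : g * m 0 0 v = m 0 0 v * g) :
    ∃ z : Sp F, pr F z = 1 ∧ z * g ∈ S1 F := by
  have h2 : g.1 * fromBlocks 1 (sy 0 0 v) 0 1 = fromBlocks 1 (sy 0 0 v) 0 1 * g.1 :=
    congrArg Subtype.val e
  have key := fun i j => congrFun (congrFun h2 i) j
  have k0 := key (Sum.inl 0) (Sum.inl 0)
  have k1 := key (Sum.inl 0) (Sum.inr 0)
  have k2 := key (Sum.inl 1) (Sum.inr 0)
  have k3 := key (Sum.inr 0) (Sum.inr 0)
  have k4 := key (Sum.inr 1) (Sum.inr 0)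
  have k5 := key (Sum.inl 0) (Sum.inl 1)
  have k6 := key (Sum.inl 0) (Sum.inr 1)
  simp [Matrix.mul_apply, Fintype.sum_sum_type, Fin.sum_univ_two, fromBlocks, sy, hv]
    at k0 k1 k2 k3 k4 k5 k6
  have h1 := SymplecticGroup.mem_iff'.mp g.2
  have key' := fun i j => congrFun (congrFun h1 i) j
  have l1 := key' (Sum.inl 0) (Sum.inr 0)
  simp [Matrix.mul_apply, Fintype.sum_sum_type, Fin.sum_univ_two, J, fromBlocks, k2, k3, k4] at l1
  have hbb2 : g.1 (Sum.inl 0) (Sum.inl 0) = g.1 (Sum.inr 0) (Sum.inr 0) := by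
    have h3 : v * (g.1 (Sum.inl 0) (Sum.inl 0) - g.1 (Sum.inr 0) (Sum.inr 0)) = 0 := by
      linear_combination k1
    rcases mul_eq_zero.mp h3 with h4 | h4
    · exact absurd h4 hv
    · exact sub_eq_zero.mp h4
  have hb1 : g.1 (Sum.inl 0) (Sum.inl 0) * g.1 (Sum.inl 0) (Sum.inl 0) = 1 := by
    nth_rewrite 2 [hbb2]
    exact l1
  refine ⟨⟨g.1 (Sum.inl 0) (Sum.inl 0) • 1,
    Cfsg.Agent.LieClassical.SympCenter.smul_one_mem 2 hb1⟩, mem_ker_pr.mpr ⟨_, hb1, rfl⟩, ?_⟩
  intro i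
  change ((g.1 (Sum.inl 0) (Sum.inl 0) • (1 : Matrix (Fin 2 ⊕ Fin 2) (Fin 2 ⊕ Fin 2) F)) * g.1) i
    (Sum.inl 0) = _
  rw [Matrix.smul_mul, Matrix.one_mul, Matrix.smul_apply, smul_eq_mul]
  rcases i with i | i <;> fin_cases i
  · exact hb1
  · change _ * g.1 (Sum.inl 1) (Sum.inl 0) = 0
    rw [k2, mul_zero]
  · change _ * g.1 (Sum.inr 0) (Sum.inl 0) = 0
    rw [k3, mul_zero]
  · change _ * g.1 (Sum.inr 1) (Sum.inl 0) = 0
    rw [k4, mul_zero]

theorem d_comm {g : Sp F} (hg : g ∈ S1 F) (v : F) : g * m 0 0 v = m 0 0 v * g := by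
  obtain ⟨c1, c2, c3, c4⟩ := col_e1 hg
  have r1 := row_f1 hg (Sum.inl 0)
  have r2 := row_f1 hg (Sum.inl 1)
  have r3 := row_f1 hg (Sum.inr 0)
  have r4 := row_f1 hg (Sum.inr 1)
  simp at r1 r2 r3 r4
  apply Subtype.ext
  change g.1 * fromBlocks 1 (sy 0 0 v) 0 1 = fromBlocks 1 (sy 0 0 v) 0 1 * g.1
  ext i j
  rcases i with i | i <;> rcases j with j | j <;> fin_cases i <;> fin_cases j <;>
    simp [Matrix.mul_apply, Fintype.sum_sum_type, Fin.sum_univ_two, fromBlocks, sy,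
      c1, c2, c3, c4, r1, r2, r3, r4] <;> ring

theorem m_pow (t u v : F) (k : ℕ) : m t u v ^ k = m (k * t) (k * u) (k * v) := by
  induction k with
  | zero =>
    rw [pow_zero]
    apply Subtype.ext
    change (1 : Matrix (Fin 2 ⊕ Fin 2) (Fin 2 ⊕ Fin 2) F) = fromBlocks 1 (sy _ _ _) 0 1
    rw [← fromBlocks_one]
    congr 1
    ext i j
    fin_cases i <;> fin_cases j <;> simp [sy]
  | succ k ih =>
    rw [pow_succ, ih, m_mul]
    push_cast
    congr 1 <;> ring

/-- The centralizer of a transvection in `PSp₄(F)`. -/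
theorem cent_pr {p : ℕ} (hp : p.Prime) (hp2 : p ≠ 2) (hpF : (p : F) = 0) {v : F} (hv : v ≠ 0) :
    Subgroup.centralizer {pr F (m 0 0 v)} = (S1 F).map (pr F) := by
  ext x
  rw [Subgroup.mem_centralizer_singleton_iff]
  constructor
  · intro hx
    obtain ⟨g, rfl⟩ := pr_surjective x
    have h1 : g * m 0 0 v = m 0 0 v * g := by
      apply comm_of_pr hp hp2 _ hx
      rw [m_pow, hpF]
      have := (m_mul (0:F) 0 0 0 0 0)
      rw [add_zero] at this
      simp only [zero_mul]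
      exact mul_eq_left.mp this
    obtain ⟨z, hz, hzg⟩ := of_comm_d hv h1
    exact ⟨_, hzg, by rw [map_mul, hz, one_mul]⟩
  · rintro ⟨g, hg, rfl⟩
    rw [← map_mul, ← map_mul, d_comm hg]

end Cfsg.Agent.H339.SpCo
end

-- part: H339/SpIso
section
/-!
# The centralizer in `PSp₄(F)` of a central element of a Sylow `p`-subgroup (helper339, S3324)
-/

set_option autoImplicit false
set_option linter.unusedSectionVars false
set_option linter.unusedSimpArgs false
set_option linter.unusedVariables false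
set_option linter.style.haveILetI false
open Subgroup Matrix

namespace Cfsg.Agent.H339

theorem Co.mem_Z_of_comm_P {G F : Type*} [Group G] [Field F] (K : Co G F) (h2 : (2 : F) ≠ 0)
    {x : G} (hx : x ∈ K.P) (hc : ∀ y ∈ K.P, y * x = x * y) : x ∈ K.Z := by
  obtain ⟨t, u, v, s, rfl⟩ := hx
  have h1 := hc (K.c 1) ⟨0, 1, 0, 0, by rw [K.a_zero, mul_one, K.c_eq]⟩
  have hr : K.m t u v * K.a s = K.m t u v * K.a s * K.h 1 := by rw [K.h_one, mul_one]
  rw [hr, K.c_eq] at h1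
  rw [K.e_m] at h1
  have h3 := mul_right_cancel h1
  obtain ⟨-, -, h4⟩ := K.m_inj h3
  have hs : s = 0 := by
    simp only [Units.val_one, mul_one, mul_zero, add_zero, zero_add] at h4
    rcases mul_eq_zero.mp h4.symm with h7 | h7
    · exact absurd h7 h2
    · exact h7
  subst hs
  have h5 := hc (K.a 1) ⟨0, 0, 0, 1, by rw [K.m_zero, one_mul]⟩
  rw [K.a_zero, mul_one, K.a_m] at h5
  obtain ⟨-, h6, h7⟩ := K.m_inj (mul_right_cancel h5)
  have ht : t = 0 := by linear_combination h6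
  subst ht
  have hu : 2 * u = 0 := by linear_combination h7
  have hu' : u = 0 := by
    rcases mul_eq_zero.mp hu with h8 | h8
    · exact absurd h8 h2
    · exact h8
  subst hu'
  exact ⟨v, by rw [K.a_zero, mul_one, K.d_eq]⟩

namespace SpCo

variable {F : Type*} [Field F]

/-- The Sylow `p`-subgroup of `Sp₄(F)`. -/
def P0 (F : Type*) [Field F] : Subgroup (Sp F) := (co F).P.map (S1 F).subtype

theorem P0_le : P0 F ≤ S1 F := by
  rintro _ ⟨x, -, rfl⟩
  exact x.2

theorem mem_P0 {x : S1 F} : (x : Sp F) ∈ P0 F ↔ x ∈ (co F).P := by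
  constructor
  · rintro ⟨y, hy, e⟩
    have : y = x := Subtype.ext e
    rwa [← this]
  · intro h
    exact ⟨x, h, rfl⟩

theorem isPGroup_P0 [Finite F] {p n : ℕ} [Fact p.Prime] (hF : Nat.card F = p ^ n) :
    IsPGroup p (P0 F) :=
  (isPGroup_P hF).map _

theorem mem_S1_iff {g : Sp F} : g ∈ S1 F ↔ g.1 *ᵥ (Pi.single (Sum.inl 0) 1) = Pi.single (Sum.inl 0) 1 := by
  rw [Matrix.mulVec_single_one]
  constructor
  · intro h
    ext i
    change g.1 i (Sum.inl 0) = _
    rw [h i, Matrix.one_apply, Pi.single_apply]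
  · intro h i
    have := congrFun h i
    change g.1 i (Sum.inl 0) = _ at this
    rw [this, Matrix.one_apply, Pi.single_apply]

/-- Every `p`-subgroup of `Sp₄(F)` is conjugate to a subgroup of `P0`. -/
theorem exists_conj_le' [Finite F] {p n : ℕ} [Fact p.Prime] (hn : 1 ≤ n) (hF : Nat.card F = p ^ n)
    (Q : Subgroup (Sp F)) (hQ : IsPGroup p Q) :
    ∃ g : Sp F, ∀ x ∈ Q, g⁻¹ * x * g ∈ P0 F := by
  classical
  letI : MulAction Q (Fin 2 ⊕ Fin 2 → F) :=
    { smul := fun g w => g.1.1 *ᵥ w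
      one_smul := fun w => by
        change (1 : Matrix (Fin 2 ⊕ Fin 2) (Fin 2 ⊕ Fin 2) F) *ᵥ w = w
        rw [Matrix.one_mulVec]
      mul_smul := fun g g' w => by
        change (g.1.1 * g'.1.1) *ᵥ w = g.1.1 *ᵥ (g'.1.1 *ᵥ w)
        rw [Matrix.mulVec_mulVec] }
  have h0 : (0 : Fin 2 ⊕ Fin 2 → F) ∈ MulAction.fixedPoints Q (Fin 2 ⊕ Fin 2 → F) := by
    intro g
    exact Matrix.mulVec_zero _
  obtain ⟨w, hw, hw0⟩ := hQ.exists_fixed_point_of_prime_dvd_card_of_fixed_point (Fin 2 ⊕ Fin 2 → F)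
    (by
      rw [Nat.card_fun, Nat.card_eq_fintype_card (α := Fin 2 ⊕ Fin 2), Fintype.card_sum,
        Fintype.card_fin, hF, ← pow_mul]
      exact dvd_pow_self p (by omega)) h0
  obtain ⟨k, hk⟩ := Cfsg.Agent.S0271.result 2 (Pi.single (Sum.inl 0) 1 : Fin 2 ⊕ Fin 2 → F) w
    (by
      intro h
      have := congrFun h (Sum.inl 0)
      simp at this) hw0.symm
  have h1 : ∀ x ∈ Q, k⁻¹ * x * k ∈ S1 F := by
    intro x hx
    rw [mem_S1_iff]
    change ((k⁻¹).1 * x.1 * k.1) *ᵥ _ = _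
    rw [← Matrix.mulVec_mulVec, ← Matrix.mulVec_mulVec, hk]
    have hxw : x.1 *ᵥ w = w := hw ⟨x, hx⟩
    rw [hxw, ← hk, Matrix.mulVec_mulVec]
    have e2 : (k⁻¹).1 * k.1 = 1 := congrArg Subtype.val (inv_mul_cancel k)
    rw [e2, Matrix.one_mulVec]
  let Q' : Subgroup (S1 F) := (cj k⁻¹ Q).comap (S1 F).subtype
  have hQ' : IsPGroup p Q' := (hQ.map _).comap_of_injective _ (S1 F).subtype_injective
  obtain ⟨g, hg⟩ := exists_conj_le hn hF Q' hQ'
  refine ⟨k * g, fun x hx => ?_⟩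
  have h2 : (⟨k⁻¹ * x * k, h1 x hx⟩ : S1 F) ∈ Q' := by
    change k⁻¹ * x * k ∈ cj k⁻¹ Q
    have := conj_mem_cj (g := k⁻¹) hx
    rwa [inv_inv] at this
  have h3 := hg _ h2
  rw [← mem_P0] at h3
  have h4 : (k * (g : Sp F))⁻¹ * x * (k * g) =
      ((g⁻¹ * (⟨k⁻¹ * x * k, h1 x hx⟩ : S1 F) * g : S1 F) : Sp F) := by
    change _ = (g : Sp F)⁻¹ * (k⁻¹ * x * k) * g
    group
  rw [h4]
  exact h3

/-- **The centralizer of a central element of order `p` of a Sylow `p`-subgroup.** -/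
theorem nonempty_iso [Finite F] {p n : ℕ} [Fact p.Prime] (hp2 : p ≠ 2) (hn : 1 ≤ n)
    (hF : Nat.card F = p ^ n) (hpF : (p : F) = 0) (h2 : (2 : F) ≠ 0) (x : Cfsg.PSp 2 F)
    (hx : orderOf x = p) (Px : Sylow p (Cfsg.PSp 2 F)) (hxP : x ∈ (Px : Subgroup (Cfsg.PSp 2 F)))
    (hxc : ∀ y ∈ (Px : Subgroup (Cfsg.PSp 2 F)), y * x = x * y) :
    Nonempty (S1 F ≃* Subgroup.centralizer ({x} : Set (Cfsg.PSp 2 F))) := by
  have hp : p.Prime := Fact.out
  haveI : Finite (Sp F) := Subtype.finite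
  obtain ⟨P, hP⟩ := Sylow.mapSurjective_surjective (pr_surjective (F := F)) p Px
  have hP' : ∀ y ∈ (P : Subgroup (Sp F)), pr F y ∈ (Px : Subgroup (Cfsg.PSp 2 F)) := by
    intro y hy
    rw [← hP]
    exact ⟨y, hy, rfl⟩
  obtain ⟨x', hx', e⟩ : ∃ x' ∈ (P : Subgroup (Sp F)), pr F x' = x := by
    rw [← hP] at hxP
    exact hxP
  obtain ⟨k, hk⟩ := exists_conj_le' hn hF (P : Subgroup (Sp F)) P.isPGroup'
  have h1 : (P : Subgroup (Sp F)) ≤ cj k (P0 F) := by
    intro y hy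
    rw [mem_cj]
    exact hk y hy
  have h2' : cj k (P0 F) = P := P.is_maximal' ((isPGroup_P0 hF).map _) h1
  set y := k⁻¹ * x' * k with hy
  have hyP : y ∈ P0 F := hk x' hx'
  have hyp : y ^ p = 1 := by
    apply ker_S1 _ ((S1 F).pow_mem (P0_le hyP) p)
    rw [map_pow, hy, map_mul, map_mul, e]
    have : (pr F k⁻¹ * x * pr F k) = pr F k⁻¹ * x * (pr F k⁻¹)⁻¹ := by
      rw [map_inv, inv_inv]
    rw [this, conj_pow, ← hx, pow_orderOf_eq_one]
    group
  have hyc : ∀ z ∈ P0 F, z * y = y * z := by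
    intro z hz
    apply comm_of_pr hp hp2 hyp
    have h3 : k * z * k⁻¹ ∈ (P : Subgroup (Sp F)) := by
      rw [← h2']; exact conj_mem_cj hz
    have h4 := hxc _ (hP' _ h3)
    rw [← e, ← map_mul, ← map_mul] at h4
    have h5 : z * y = k⁻¹ * ((k * z * k⁻¹) * x') * k := by rw [hy]; group
    have h6 : y * z = k⁻¹ * (x' * (k * z * k⁻¹)) * k := by rw [hy]; group
    rw [← map_mul, ← map_mul, h5, h6, map_mul _ _ k, map_mul _ k⁻¹, h4, map_mul _ _ k, map_mul _ k⁻¹]
  obtain ⟨y', hy'P, hy'⟩ := hyP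
  have h3 : y' ∈ (co F).Z := by
    apply (co F).mem_Z_of_comm_P h2 hy'P
    intro z hz
    apply Subtype.ext
    have := hyc z (mem_P0.mpr hz)
    rw [← hy'] at this
    exact this
  obtain ⟨v, hv⟩ := h3
  have hyv : y = m 0 0 v := by
    rw [← hy']
    change (y' : Sp F) = _
    rw [hv]
    rfl
  have hv0 : v ≠ 0 := by
    rintro rfl
    have h4 : y = 1 := by
      rw [← hy', hv, (co F).d_zero]
      rfl
    have h5 : x' = 1 := by
      have : x' = k * y * k⁻¹ := by rw [hy]; group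
      rw [this, h4]; group
    rw [← e, h5, map_one, orderOf_one] at hx
    exact hp.one_lt.ne hx
  have h4 := cent_pr hp hp2 hpF hv0
  let θ : S1 F →* Cfsg.PSp 2 F :=
    ((MulAut.conj (pr F k)).toMonoidHom.comp (pr F)).comp (S1 F).subtype
  have hθ : Function.Injective θ := by
    intro g g' hgg
    have h5 : pr F (g : Sp F) = pr F (g' : Sp F) := (MulAut.conj (pr F k)).injective hgg
    exact Subtype.ext (pr_inj g.2 g'.2 h5)
  have hxe : x = pr F k * pr F y * (pr F k)⁻¹ := by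
    rw [← e, ← map_inv, ← map_mul, ← map_mul, hy]
    congr 1
    group
  have hr : θ.range = Subgroup.centralizer ({x} : Set (Cfsg.PSp 2 F)) := by
    ext z
    rw [Subgroup.mem_centralizer_singleton_iff, MonoidHom.mem_range]
    constructor
    · rintro ⟨g, rfl⟩
      change (pr F k * pr F (g : Sp F) * (pr F k)⁻¹) * x = x * (pr F k * pr F (g : Sp F) * (pr F k)⁻¹)
      have h5 : pr F (g : Sp F) * pr F y = pr F y * pr F (g : Sp F) := by
        rw [← map_mul, ← map_mul, hyv, d_comm g.2]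
      rw [hxe]
      calc pr F k * pr F (g : Sp F) * (pr F k)⁻¹ * (pr F k * pr F y * (pr F k)⁻¹) =
          pr F k * (pr F (g : Sp F) * pr F y) * (pr F k)⁻¹ := by group
        _ = _ := by rw [h5]; group
    · intro hz
      have h5 : (pr F k)⁻¹ * z * pr F k ∈ Subgroup.centralizer {pr F (m 0 0 v)} := by
        rw [Subgroup.mem_centralizer_singleton_iff, ← hyv]
        rw [hxe] at hz
        calc (pr F k)⁻¹ * z * pr F k * pr F y =
            (pr F k)⁻¹ * (z * (pr F k * pr F y * (pr F k)⁻¹)) * pr F k := by group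
          _ = _ := by rw [hz]; group
      rw [h4] at h5
      obtain ⟨g, hg, hge⟩ := h5
      refine ⟨⟨g, hg⟩, ?_⟩
      change pr F k * pr F g * (pr F k)⁻¹ = z
      rw [hge]; group
  exact ⟨(MonoidHom.ofInjective hθ).trans (MulEquiv.subgroupCongr hr)⟩

end SpCo

end Cfsg.Agent.H339
end
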