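import Cfsg.Agent.H288.BnWitt
import Cfsg.Agent.S4387
import Cfsg.Agent.H940.MaxCls
import Cfsg.Agent.H163.PG.Prim
import Cfsg.Agent.S0243
import Cfsg.Agent.S0245
import Cfsg.Agent.S0246
import Cfsg.Agent.S0280
import Mathlib
import Cfsg.Agent.H150.Fpf
import Cfsg.Agent.S2638
import Cfsg.Agent.TwoFusion.SLTwoFacts
import Cfsg.Agent.LieExceptional.CyclicSylow
import Cfsg.Agent.S0249
import Cfsg.Agent.H580.RankTwo
import Cfsg.Agent.S0316
import Cfsg.Agent.H436.TTPsl2
import Cfsg.Agent.H260.Psl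
import Cfsg.Agent.H669.SlTwoE
import Cfsg.Agent.H199.PslAut
import Cfsg.Agent.S0806
import Cfsg.Agent.S5891
import Cfsg.Agent.S2119
import Cfsg.Agent.H740.Eight.TwFTwo
import Cfsg.Agent.Mrg.ParSys.Fam.D4
import Cfsg.Prelude.Def_Classification2
import Cfsg.Agent.H938.Rank_m3
import Cfsg.Agent.S0252
import Cfsg.Agent.S0254
import Cfsg.Agent.OrdDiv.Core
import Cfsg.Agent.H715.Fpr.Row4_m3
import Cfsg.Prelude.Def_KGroupFacts
import Cfsg.Agent.H940.EngData
import Cfsg.Agent.H547.SelfCent.Base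
import Cfsg.Agent.H603.SporElim
import Cfsg.Agent.H393.Iso.Mathieu
import Cfsg.Agent.H393.Iso.ON
import Cfsg.Agent.H393.Iso.He
import Cfsg.Agent.H503.TwoSuz
import Cfsg.Agent.H547.SelfCent.He
import Cfsg.Agent.S2060
import Cfsg.Agent.S2063
import Cfsg.Agent.S2064
import Cfsg.Agent.S2065
import Cfsg.Agent.S2068
import Cfsg.Agent.S2069
import Cfsg.Agent.S2070
import Cfsg.Agent.S2071
import Cfsg.Agent.S2076
import Cfsg.Agent.S2077
import Cfsg.Agent.S2080
import Cfsg.Agent.S2083
import Cfsg.Agent.S2084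
import Cfsg.Agent.S2085
import Cfsg.Agent.FastGrp
import Cfsg.Agent.Prune
set_option linter.all false

section
prune_inst 0x7ffcacf9abb80ddeffff7e77fedcddfc3c94dfffa4dffb4bffe061ffabdf230219e5f38d19e058fe0e96c21410a87843f9ffceffea6bdc7ffffd5ff45ffbee1ff5f7bd08119488340f342ffee3f0778e7f1fffffffffffffffffffffffffffbeffbfffffffff

-- part: H288/BnPsl_mg
section
prune_inst 0x40000000000000000000000000000000000000000000000000000000000000000000000000000020000000000000000000000000000000000000000000000000000000000000000000000000000000000000000000000000000000000000000000000000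
set_option linter.all false
open scoped Cfsg.Agent.FastGrp

-- part: H339/MaxT
section
/-!
# The simple factor of a minimal normal subgroup and its automizer (helper339, S5907)

* `exists_lift` : a non-solvable minimal normal subgroup `N` with `G = N⟨h⟩` carries a `Lift T N h`;
* `meet_ne_bot` : a maximal subgroup not containing `S` meets `S` (`X` almost simple, `X/S` of prime power order);
* `three_supp` : three classes of supplements of `N`, from the rows.
-/

set_option autoImplicit false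
set_option linter.unusedSectionVars false

namespace Cfsg.Agent.H339.MaxCl

open Subgroup

universe u

section exT

variable {G : Type*} [Group G] [Finite G]

theorem exists_minimal_normal {N0 : Subgroup G} (hN0 : N0.Normal) (hne : N0 ≠ ⊥) :
    ∃ N : Subgroup G, N.Normal ∧ N ≠ ⊥ ∧ N ≤ N0 ∧ ∀ K : Subgroup G, K.Normal → K ≤ N → K = ⊥ ∨ K = N := by
  obtain ⟨N, ⟨h1, h2, h3⟩, h4⟩ := WellFounded.has_min (wellFounded_lt (α := Subgroup G))
    {N : Subgroup G | N.Normal ∧ N ≠ ⊥ ∧ N ≤ N0} ⟨N0, hN0, hne, le_rfl⟩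
  refine ⟨N, h1, h2, h3, fun K hK hKN => ?_⟩
  by_cases hb : K = ⊥
  · exact Or.inl hb
  · right
    by_contra hne'
    exact h4 K ⟨hK, hb, hKN.trans h3⟩ (lt_of_le_of_ne hKN hne')

theorem normal_le_normalizer_conj {N T : Subgroup G} [hN : N.Normal] (h : N ≤ normalizer (T : Set G)) (g : G) :
    N ≤ normalizer ((T.map (MulAut.conj g).toMonoidHom : Subgroup G) : Set G) := by
  intro n hn
  rw [mem_normalizer_iff_conj, map_conj_mul]
  have h1 : g⁻¹ * n * g ∈ N := by
    have := hN.conj_mem n hn g⁻¹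
    rwa [inv_inv] at this
  have h2 := mem_normalizer_iff_conj.1 (h h1)
  have e : n * g = g * (g⁻¹ * n * g) := by group
  rw [e, ← map_conj_mul, h2]

theorem exists_lift {N : Subgroup G} [hN : N.Normal] (hmin : ∀ K : Subgroup G, K.Normal → K ≤ N → K = ⊥ ∨ K = N)
    (hns : ¬ Group.IsSolvable ↥N) {h : G} (hcyc : ∀ g : G, ∃ n ∈ N, ∃ i : ℤ, g = n * h ^ i) :
    ∃ T : Subgroup G, Lift T N h ∧ ¬ Group.IsSolvable ↥T := by
  have hNb : N ≠ ⊥ := by
    rintro rfl
    exact hns inferInstance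
  obtain ⟨T, ⟨h1, h2, h3⟩, h4⟩ := WellFounded.has_min (wellFounded_lt (α := Subgroup G))
    {T : Subgroup G | T ≠ ⊥ ∧ T ≤ N ∧ N ≤ normalizer (T : Set G)} ⟨N, hNb, le_rfl, Subgroup.le_normalizer⟩
  have hminT : ∀ K : Subgroup G, K ≤ T → N ≤ normalizer (K : Set G) → K = ⊥ ∨ K = T := by
    intro K hK hKN
    by_cases hb : K = ⊥
    · exact Or.inl hb
    · right
      by_contra hne'
      exact h4 K ⟨hb, hK.trans h2, hKN⟩ (lt_of_le_of_ne hK hne')
  have hgen : ∀ M : Subgroup G, (∀ g : G, ∀ t ∈ T, g * t * g⁻¹ ∈ M) → N ≤ M := by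
    intro M hM
    have h5 : Subgroup.normalClosure (T : Set G) ≤ N := Subgroup.normalClosure_le_normal h2
    have h6 : Subgroup.normalClosure (T : Set G) = N := by
      rcases hmin _ Subgroup.normalClosure_normal h5 with h7 | h7
      · exfalso
        apply h1
        rw [eq_bot_iff, ← h7]
        exact Subgroup.subset_normalClosure
      · exact h7
    rw [← h6]
    refine (Subgroup.closure_le M).2 ?_
    intro x hx
    obtain ⟨a, ha, hax⟩ := Group.mem_conjugatesOfSet_iff.1 hx
    obtain ⟨c, hc⟩ := isConj_iff.1 hax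
    rw [← hc]
    exact hM c a ha
  have hcomm : ∀ g : G, g ∉ normalizer (T : Set G) → ∀ s ∈ T, ∀ t ∈ T, (g * s * g⁻¹) * t = t * (g * s * g⁻¹) := by
    intro g hg s hs t ht
    have h5 := normal_le_normalizer_conj h3 g
    have h60 : N ≤ normalizer ((T.map (MulAut.conj g).toMonoidHom ⊓ T : Subgroup G) : Set G) := by
      intro n hn
      rw [mem_normalizer_iff]
      intro x
      have e1 := mem_normalizer_iff.1 (h5 hn) x
      have e2 := mem_normalizer_iff.1 (h3 hn) x
      constructor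
      · intro hx
        exact ⟨e1.1 hx.1, e2.1 hx.2⟩
      · intro hx
        exact ⟨e1.2 hx.1, e2.2 hx.2⟩
    have h6 : T.map (MulAut.conj g).toMonoidHom ⊓ T = ⊥ := by
      rcases hminT (T.map (MulAut.conj g).toMonoidHom ⊓ T) inf_le_right h60 with h | h
      · exact h
      · exfalso
        apply hg
        rw [mem_normalizer_iff_conj]
        have h7 : T ≤ T.map (MulAut.conj g).toMonoidHom := (le_of_eq h.symm).trans inf_le_left
        exact (Subgroup.eq_of_le_of_card_ge h7 (by rw [card_map_conj])).symm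
    have h7 : g * s * g⁻¹ ∈ T.map (MulAut.conj g).toMonoidHom := by
      rw [mem_map_conj]
      have e : g⁻¹ * (g * s * g⁻¹) * g = s := by group
      rw [e]; exact hs
    have hsN : g * s * g⁻¹ ∈ N := hN.conj_mem s (h2 hs) g
    have h8 : (g * s * g⁻¹) * t * (g * s * g⁻¹)⁻¹ * t⁻¹ ∈ T.map (MulAut.conj g).toMonoidHom ⊓ T := by
      constructor
      · have e : (g * s * g⁻¹) * t * (g * s * g⁻¹)⁻¹ * t⁻¹ = (g * s * g⁻¹) * (t * (g * s * g⁻¹)⁻¹ * t⁻¹) := by group
        show (g * s * g⁻¹) * t * (g * s * g⁻¹)⁻¹ * t⁻¹ ∈ T.map (MulAut.conj g).toMonoidHom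
        rw [e]
        exact mul_mem h7 ((mem_normalizer_iff.1 (h5 (h2 ht)) _).1 (inv_mem h7))
      · exact T.mul_mem ((mem_normalizer_iff.1 (h3 hsN) t).1 ht) (T.inv_mem ht)
    rw [h6, mem_bot] at h8
    have h9 : (g * s * g⁻¹) * t * (g * s * g⁻¹)⁻¹ = t := by
      have := mul_inv_eq_one.1 h8
      exact this
    calc (g * s * g⁻¹) * t = (g * s * g⁻¹) * t * (g * s * g⁻¹)⁻¹ * (g * s * g⁻¹) := by group
      _ = t * (g * s * g⁻¹) := by rw [h9]
  have hsimp : IsSimpleGroup ↥T := by
    haveI : Nontrivial ↥T := (Subgroup.nontrivial_iff_ne_bot T).2 h1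
    refine ⟨fun K hK => ?_⟩
    have h5 : K.map T.subtype ≤ T := Subgroup.map_subtype_le K
    have h50 : N ≤ normalizer ((K.map T.subtype : Subgroup G) : Set G) := by
      apply hgen
      intro g t ht
      rw [mem_normalizer_iff]
      by_cases hg : g ∈ normalizer (T : Set G)
      · have h7 : g * t * g⁻¹ ∈ T := (mem_normalizer_iff.1 hg t).1 ht
        have key : ∀ c ∈ T, ∀ x, x ∈ K.map T.subtype → c * x * c⁻¹ ∈ K.map T.subtype := by
          rintro c hc _ ⟨y, hy, rfl⟩
          exact ⟨⟨c, hc⟩ * y * ⟨c, hc⟩⁻¹, hK.conj_mem y hy ⟨c, hc⟩, rfl⟩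
        intro x
        constructor
        · exact key _ h7 x
        · intro hx
          have h8 := key _ (inv_mem h7) _ hx
          have e : (g * t * g⁻¹)⁻¹ * (g * t * g⁻¹ * x * (g * t * g⁻¹)⁻¹) * (g * t * g⁻¹)⁻¹⁻¹ = x := by group
          rwa [e] at h8
      · intro x
        constructor
        · intro hx
          rw [hcomm g hg t ht x (h5 hx)]
          have e : x * (g * t * g⁻¹) * (g * t * g⁻¹)⁻¹ = x := by group
          rwa [e]
        · intro hx
          have h8 := hcomm g hg t ht _ (h5 hx)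
          have e : g * t * g⁻¹ * x * (g * t * g⁻¹)⁻¹ * (g * t * g⁻¹) = g * t * g⁻¹ * x := by group
          rw [e] at h8
          have h9 : g * t * g⁻¹ * x * (g * t * g⁻¹)⁻¹ = x := mul_left_cancel h8
          rwa [h9] at hx
    rcases hminT _ h5 h50 with h | h
    · left
      exact (Subgroup.map_eq_bot_iff_of_injective K T.subtype_injective).1 h
    · right
      rw [eq_top_iff]
      intro x _
      have h6 : (x : G) ∈ K.map T.subtype := by rw [h]; exact x.2
      obtain ⟨y, hy, hyx⟩ := h6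
      have : y = x := Subtype.ext hyx
      rwa [← this]
  have L : Lift T N h := ⟨hsimp, h2, hN, h3, hcomm, hgen, hcyc⟩
  refine ⟨T, L, ?_⟩
  intro hs
  have hab : ∀ a b : ↥T, a * b = b * a := IsSimpleGroup.comm_iff_isSolvable.2 hs
  apply hns
  have h5 : ∀ g : G, ∀ s ∈ T, ∀ t ∈ T, (g * s * g⁻¹) * t = t * (g * s * g⁻¹) := by
    intro g s hs t ht
    by_cases hg : g ∈ normalizer (T : Set G)
    · have h7 : g * s * g⁻¹ ∈ T := (mem_normalizer_iff.1 hg s).1 hs
      exact congrArg Subtype.val (hab ⟨_, h7⟩ ⟨t, ht⟩)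
    · exact hcomm g hg s hs t ht
  have h6 : N ≤ centralizer (T : Set G) := by
    apply hgen
    intro g s hs
    rw [mem_centralizer_iff]
    intro t ht
    exact (h5 g s hs t ht).symm
  have h7 : N ≤ centralizer (N : Set G) := by
    apply hgen
    intro g s hs
    rw [mem_centralizer_iff]
    intro n hn
    have h8 := h6 (by
      have := hN.conj_mem n hn g⁻¹
      exact this : g⁻¹ * n * g⁻¹⁻¹ ∈ N)
    rw [mem_centralizer_iff] at h8
    have h9 := h8 s hs
    calc n * (g * s * g⁻¹) = g * ((g⁻¹ * n * g⁻¹⁻¹) * s) * g⁻¹ := by group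
      _ = g * (s * (g⁻¹ * n * g⁻¹⁻¹)) * g⁻¹ := by rw [h9]
      _ = g * s * g⁻¹ * n := by group
  refine Group.isSolvable_of_comm fun a b => Subtype.ext ?_
  have h8 := h7 a.2
  rw [mem_centralizer_iff] at h8
  exact (h8 b b.2).symm

end exT

section meet

theorem isSolvable_of_isPGroup {H : Type*} [Group H] [Finite H] {p : ℕ} [Fact p.Prime] (h : IsPGroup p H) :
    Group.IsSolvable H := by
  have := h.isNilpotent
  infer_instance

variable {X : Type*} [Group X] [Finite X]

theorem sup_eq_top_of_coatom {S Y : Subgroup X} (hY : IsCoatom Y) (hYS : ¬ S ≤ Y) : Y ⊔ S = ⊤ := by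
  rcases hY.le_iff.1 (le_sup_left : Y ≤ Y ⊔ S) with h | h
  · exact h
  · exact absurd (le_sup_right.trans h.le) hYS

/-- a maximal subgroup not containing the socle meets it -/
theorem meet_ne_bot {S Y : Subgroup X} [hS : S.Normal] (hsimp : IsSimpleGroup ↥S) (hns : ¬ Group.IsSolvable ↥S) {p a : ℕ}
    (hp : p.Prime) (hidx : S.index = p ^ a) (hY : IsCoatom Y) (hYS : ¬ S ≤ Y) : ∃ s ∈ S, s ≠ 1 ∧ s ∈ Y := by
  by_contra hcon
  push Not at hcon
  have := Fact.mk hp
  have hsup : Y ⊔ S = ⊤ := sup_eq_top_of_coatom hY hYS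
  have hcY : Nat.card Y = p ^ a := by
    have h1 : S.relIndex (Y ⊔ S) = S.relIndex Y := Subgroup.relIndex_sup_right Y S
    rw [hsup, Subgroup.relIndex_top_right, hidx] at h1
    have h2 : S.subgroupOf Y = ⊥ := by
      rw [eq_bot_iff]
      intro x hx
      rw [mem_bot]
      by_contra hx1
      exact hcon x hx (fun e => hx1 (Subtype.ext e)) x.2
    rw [h1, Subgroup.relIndex, h2, Subgroup.index_bot]
  have hYp : IsPGroup p Y := IsPGroup.of_card hcY
  have hcX : Nat.card X = p ^ a * Nat.card S := by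
    rw [← hidx, mul_comm, Subgroup.card_mul_index]
  have hS1 : Nat.card S ≠ 1 := by
    intro h
    apply hns
    have : Subsingleton ↥S := (Nat.card_eq_one_iff_unique.1 h).1
    infer_instance
  obtain ⟨P, hP⟩ := hYp.exists_le_sylow
  have hPtop : (P : Subgroup X) ≠ ⊤ := by
    intro h
    apply hns
    have h1 : IsPGroup p (⊤ : Subgroup X) := h ▸ P.2
    exact isSolvable_of_isPGroup (h1.to_le (le_top : S ≤ ⊤))
  have hYP : Y = (P : Subgroup X) := by
    rcases hY.le_iff.1 hP with h | h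
    · exact absurd h hPtop
    · exact h.symm
  have hpS : ¬ p ∣ Nat.card S := by
    intro h
    have h1 : p ^ (a + 1) ∣ Nat.card X := by
      rw [hcX, pow_succ]
      exact Nat.mul_dvd_mul_left _ h
    have h2 : p ^ (a + 1) ∣ Nat.card P := P.pow_dvd_card_of_pow_dvd_card h1
    have h3 : Nat.card P = p ^ a := by rw [← hcY, hYP]
    rw [h3] at h2
    exact absurd (Nat.le_of_dvd (pow_pos hp.pos _) h2) (not_le.2 (Nat.pow_lt_pow_right hp.one_lt (Nat.lt_succ_self a)))
  obtain ⟨r, hr, hrS⟩ := Nat.exists_prime_and_dvd hS1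
  have := Fact.mk hr
  let R : Sylow r ↥S := default
  let R' : Subgroup X := (R : Subgroup ↥S).map S.subtype
  have hR'S : R' ≤ S := Subgroup.map_subtype_le _
  have hrR : r ∣ Nat.card R := R.dvd_card_of_dvd_card hrS
  have hR1 : ∃ x ∈ R', x ≠ 1 := by
    have h1 : (R : Subgroup ↥S) ≠ ⊥ := by
      intro h
      have h2 : Nat.card R = 1 := by
        show Nat.card (R : Subgroup ↥S) = 1
        rw [h, Subgroup.card_bot]
      rw [h2] at hrR
      exact hr.one_lt.ne' (Nat.dvd_one.1 hrR)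
    obtain ⟨x, hx⟩ := Subgroup.ne_bot_iff_exists_ne_one.1 h1
    exact ⟨(x : ↥S), ⟨x, x.2, rfl⟩, fun e => hx (Subtype.ext (Subtype.ext e))⟩
  have hF : normalizer (R' : Set X) ⊔ S = ⊤ := Sylow.normalizer_sup_eq_top R
  have hNtop : normalizer (R' : Set X) ≠ ⊤ := by
    intro h
    have h2 : R'.Normal := normalizer_eq_top_iff.1 h
    have h3 : (R : Subgroup ↥S).Normal := by
      refine ⟨fun x hx g => ?_⟩
      obtain ⟨y, hy, hyx⟩ := h2.conj_mem x ⟨x, hx, rfl⟩ g
      have e : y = g * x * g⁻¹ := Subtype.ext hyx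
      rwa [← e]
    rcases h3.eq_bot_or_eq_top with h4 | h4
    · obtain ⟨x, ⟨y, hy, rfl⟩, hx1⟩ := hR1
      have hy' : y ∈ (R : Subgroup ↥S) := hy
      rw [h4, mem_bot] at hy'
      exact hx1 (by rw [hy']; rfl)
    · apply hns
      have h5 : IsPGroup r (⊤ : Subgroup ↥S) := h4 ▸ R.2
      exact isSolvable_of_isPGroup (h5.of_equiv Subgroup.topEquiv)
  -- a Sylow `p`-subgroup of `X` inside `N(R')`
  have hpN : p ^ a ∣ Nat.card (normalizer (R' : Set X)) := by
    have h1 : S.relIndex (normalizer (R' : Set X) ⊔ S) = S.relIndex (normalizer (R' : Set X)) :=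
      Subgroup.relIndex_sup_right _ S
    rw [hF, Subgroup.relIndex_top_right, hidx] at h1
    rw [h1]
    exact Subgroup.relIndex_dvd_card _ _
  let Q : Sylow p ↥(normalizer (R' : Set X)) := default
  have hcQ : p ^ a ∣ Nat.card Q := Q.pow_dvd_card_of_pow_dvd_card hpN
  let Q' : Subgroup X := (Q : Subgroup ↥(normalizer (R' : Set X))).map (normalizer (R' : Set X)).subtype
  have hcQ' : Nat.card Q' = Nat.card Q := Subgroup.card_map_of_injective (Subgroup.subtype_injective _)
  have hQ'p : IsPGroup p Q' := Q.2.map _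
  obtain ⟨P2, hP2⟩ := hQ'p.exists_le_sylow
  have hQP2 : Q' = (P2 : Subgroup X) := by
    refine Subgroup.eq_of_le_of_card_ge hP2 ?_
    have h1 : Nat.card (P2 : Subgroup X) = Nat.card (P : Subgroup X) := by
      rw [P2.card_eq_multiplicity, P.card_eq_multiplicity]
    rw [h1, ← hYP, hcY, hcQ']
    exact Nat.le_of_dvd Nat.card_pos hcQ
  obtain ⟨g, hg⟩ := MulAction.exists_smul_eq X P2 P
  have hg' : (P2 : Subgroup X).map (MulAut.conj g).toMonoidHom = (P : Subgroup X) := by
    have h3 : ((g • P2 : Sylow p X) : Subgroup X) = (P : Subgroup X) := by rw [hg]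
    rw [Sylow.coe_subgroup_smul] at h3
    exact h3
  have hYN : Y ≤ (normalizer (R' : Set X)).map (MulAut.conj g).toMonoidHom := by
    rw [hYP, ← hg', ← hQP2]
    exact map_conj_mono (Subgroup.map_subtype_le _) g
  have hYN' : Y = (normalizer (R' : Set X)).map (MulAut.conj g).toMonoidHom := by
    rcases hY.le_iff.1 hYN with h | h
    · exfalso
      apply hNtop
      have h1 := congrArg (Subgroup.map (MulAut.conj g⁻¹).toMonoidHom) h
      rw [map_conj_mul, inv_mul_cancel, map_conj_one] at h1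
      rw [h1]
      exact Subgroup.map_top_of_surjective _ (MulAut.conj g⁻¹).surjective
    · exact h.symm
  obtain ⟨x, hx, hx1⟩ := hR1
  refine hcon (g * x * g⁻¹) (hS.conj_mem x (hR'S hx) g) (fun e => hx1 ?_) ?_
  · have : x = g⁻¹ * (g * x * g⁻¹) * g := by group
    rw [this, e]; group
  · rw [hYN', mem_map_conj]
    have e : g⁻¹ * (g * x * g⁻¹) * g = x := by group
    rw [e]
    exact Subgroup.le_normalizer hx

end meet

section three

/-- **three classes of supplements** from the rows -/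
theorem three_supp {G : Type u} [Group G] [Finite G] {T N : Subgroup G} {h : G} (L : Lift T N h)
    (hns : ¬ Group.IsSolvable ↥T) (row1 : AtLeast 3 ↥T) (row2 : Supp.{u} 3 ↥T) {p a : ℕ} (hp : p.Prime)
    (hidx : N.index = p ^ a) (hcyc : ∀ [N.Normal], IsCyclic (G ⧸ N)) : NCl 3 G fun M => ¬ N ≤ M := by
  have hN := L.norm
  have hC := hcyc
  have hsT := L.simp
  let π0 : ↥(normalizer (T : Set G)) →* MulAut ↥T := T.normalizerMonoidHom
  let X : Subgroup (MulAut ↥T) := π0.range
  let π : ↥(normalizer (T : Set G)) →* ↥X := π0.rangeRestrict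
  have hπ : Function.Surjective π := π0.rangeRestrict_surjective
  have hkeriff : ∀ x : ↥(normalizer (T : Set G)), π x = 1 ↔ (x : G) ∈ centralizer (T : Set G) := by
    intro x
    have h1 : π x = 1 ↔ π0 x = 1 := by
      rw [Subtype.ext_iff]
      exact Iff.rfl
    rw [h1, ← MonoidHom.mem_ker, Subgroup.normalizerMonoidHom_ker, mem_subgroupOf]
  let S : Subgroup ↥X := bar T π
  have hSn : S.Normal := bar_normal hπ
  -- `T ⊓ C(T) = 1`
  have hTC : ∀ t ∈ T, t ∈ centralizer (T : Set G) → t = 1 := by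
    intro t ht htc
    have h1 : (⟨t, ht⟩ : ↥T) ∈ Subgroup.center ↥T := by
      rw [Subgroup.mem_center_iff]
      intro g
      exact Subtype.ext ((mem_centralizer_iff.1 htc) g g.2)
    rcases (inferInstance : (Subgroup.center ↥T).Normal).eq_bot_or_eq_top with h2 | h2
    · rw [h2, mem_bot] at h1
      exact congrArg Subtype.val h1
    · exfalso
      apply hns
      refine Group.isSolvable_of_comm fun a b => ?_
      have h3 : b ∈ Subgroup.center ↥T := by rw [h2]; exact mem_top b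
      exact Subgroup.mem_center_iff.1 h3 a
  -- `S ≃ T`
  have e : Nonempty (↥S ≃* ↥T) := by
    let f : ↥T →* ↥S := (((π.comp (Subgroup.inclusion (Subgroup.le_normalizer : T ≤ normalizer (T : Set G)))).codRestrict S
      (fun t => mem_bar.2 ⟨t, t.2, rfl⟩)))
    have hf : Function.Bijective f := by
      constructor
      · rw [injective_iff_map_eq_one]
        intro t ht
        have h1 : π ⟨t, Subgroup.le_normalizer t.2⟩ = 1 := congrArg Subtype.val ht
        exact Subtype.ext (hTC t t.2 ((hkeriff _).1 h1))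
      · rintro ⟨x, hx⟩
        obtain ⟨t, ht, rfl⟩ := mem_bar.1 hx
        exact ⟨⟨t, ht⟩, rfl⟩
    exact ⟨(MulEquiv.ofBijective f hf).symm⟩
  obtain ⟨e⟩ := e
  have hSsimp : IsSimpleGroup ↥S := e.isSimpleGroup
  have hSns : ¬ Group.IsSolvable ↥S := fun h =>
    hns (Group.isSolvable_of_isSolvable_injective (f := e.symm.toMonoidHom) e.symm.injective)
  have hcent : centralizer (S : Set ↥X) = ⊥ := by
    rw [eq_bot_iff]
    intro x hx
    obtain ⟨g, rfl⟩ := hπ x
    rw [mem_bot, hkeriff, mem_centralizer_iff]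
    intro t ht
    have h1 := (mem_centralizer_iff.1 hx) (π ⟨t, Subgroup.le_normalizer ht⟩) (mem_bar.2 ⟨t, ht, rfl⟩)
    have h2 : π (⟨t, Subgroup.le_normalizer ht⟩ * g * ⟨t, Subgroup.le_normalizer ht⟩⁻¹ * g⁻¹) = 1 := by
      rw [map_mul, map_mul, map_mul, map_inv, map_inv, h1]
      group
    have h3 := (hkeriff _).1 h2
    have h4 : t * (g : G) * t⁻¹ * (g : G)⁻¹ ∈ T := by
      have h5 : (g : G) * t⁻¹ * (g : G)⁻¹ ∈ T := (mem_normalizer_iff.1 g.2 t⁻¹).1 (T.inv_mem ht)
      have := T.mul_mem ht h5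
      have e : t * (g : G) * t⁻¹ * (g : G)⁻¹ = t * ((g : G) * t⁻¹ * (g : G)⁻¹) := by group
      rwa [e]
    have h5 : t * (g : G) * t⁻¹ * (g : G)⁻¹ = 1 := hTC _ h4 h3
    have h6 : t * (g : G) * t⁻¹ = g := mul_inv_eq_one.1 h5
    calc t * (g : G) = t * (g : G) * t⁻¹ * t := by group
      _ = g * t := by rw [h6]
  -- the index
  have hNle : N.subgroupOf (normalizer (T : Set G)) ≤ S.comap π := by
    intro x hx
    obtain ⟨t, ht, c, hc, htc⟩ := L.exists_tc (n := (x : G)) hx
    rw [mem_comap]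
    refine mem_bar.2 ⟨t, ht, ?_⟩
    have e1 : x = ⟨t, Subgroup.le_normalizer ht⟩ * ⟨c, Lift.centralizer_le T hc⟩ := Subtype.ext htc
    rw [e1, map_mul, (hkeriff ⟨c, Lift.centralizer_le T hc⟩).2 hc, mul_one]
  have hindS : S.index ∣ p ^ a := by
    have h1 : (S.comap π).index = S.index := Subgroup.index_comap_of_surjective S hπ
    rw [← h1, ← hidx]
    refine (Subgroup.index_dvd_of_le hNle).trans ?_
    exact Subgroup.relIndex_dvd_index_of_normal N (normalizer (T : Set G))
  obtain ⟨b, -, hb⟩ := (Nat.dvd_prime_pow hp).1 hindS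
  have hmeet : ∀ Y : Subgroup ↥X, IsCoatom Y → ¬ S ≤ Y →
      ¬ bar T π ≤ Y ∧ ∃ (t : G) (ht : t ∈ T), t ≠ 1 ∧ π ⟨t, Subgroup.le_normalizer ht⟩ ∈ Y := by
    intro Y hY hSY
    refine ⟨hSY, ?_⟩
    obtain ⟨s, hs, hs1, hsY⟩ := meet_ne_bot hSsimp hSns hp hb hY hSY
    obtain ⟨t, ht, rfl⟩ := mem_bar.1 hs
    refine ⟨t, ht, fun e => hs1 ?_, hsY⟩
    subst e
    exact (hkeriff _).2 (one_mem _)
  refine lift L hπ (fun x hx => (hkeriff x).2 hx) (fun x hx => (hkeriff x).1 hx) ?_
  by_cases htop : S = ⊤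
  · have e2 : ↥T ≃* ↥X := e.symm.trans ((MulEquiv.subgroupCongr htop).trans Subgroup.topEquiv)
    refine NCl.mono ((AtLeast.congr e2).1 row1) fun Y hY _ => hmeet Y hY fun h => hY.1 ?_
    rw [eq_top_iff, ← htop]
    exact h
  · have hX : NCl 3 ↥X fun M => ¬ S ≤ M := by
      refine row2 ↥X S ⟨e⟩ hcent htop ⟨p, b, hp, hb⟩ ?_
      have h1 : IsCyclic (↥(normalizer (T : Set G)) ⧸ N.subgroupOf (normalizer (T : Set G))) := by
        let f : ↥(normalizer (T : Set G)) ⧸ N.subgroupOf (normalizer (T : Set G)) →* G ⧸ N :=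
          QuotientGroup.map _ _ (normalizer (T : Set G)).subtype le_rfl
        refine isCyclic_of_injective f ?_
        rw [injective_iff_map_eq_one]
        intro x
        refine QuotientGroup.induction_on x fun x hx => ?_
        rw [QuotientGroup.eq_one_iff]
        exact (QuotientGroup.eq_one_iff (x : G)).1 hx
      let f : ↥(normalizer (T : Set G)) ⧸ N.subgroupOf (normalizer (T : Set G)) →* ↥X ⧸ S :=
        QuotientGroup.map _ _ π hNle
      refine isCyclic_of_surjective f ?_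
      intro y
      obtain ⟨y, rfl⟩ := QuotientGroup.mk_surjective y
      obtain ⟨x, rfl⟩ := hπ y
      exact ⟨(x : ↥(normalizer (T : Set G)) ⧸ N.subgroupOf (normalizer (T : Set G))), rfl⟩
    exact hX.mono fun Y hY hSY => hmeet Y hY hSY

end three

end Cfsg.Agent.H339.MaxCl
end

-- part: H339/MaxRed
section
/-!
# Reduction of S5907 to rows for simple groups (helper339)

`main_red` : a finite non-solvable group `G` has at least three classes of maximal subgroups; if it has at most three,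
`G/Φ(G)` is simple.
-/

set_option autoImplicit false
set_option linter.unusedSectionVars false

namespace Cfsg.Agent.H339.MaxCl

open Subgroup

universe u

section prelim

variable {G : Type*} [Group G]

theorem mem_frattini_iff {x : G} : x ∈ frattini G ↔ ∀ K : Subgroup G, IsCoatom K → x ∈ K := by
  constructor
  · intro h K hK
    exact frattini_le_coatom hK h
  · intro h
    show x ∈ (⨅ K ∈ {H : Subgroup G | IsCoatom H}, K)
    rw [Subgroup.mem_iInf]
    intro K
    rw [Subgroup.mem_iInf]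
    intro hK
    exact h K hK

theorem frattini_quot : frattini (G ⧸ frattini G) = ⊥ := by
  rw [eq_bot_iff]
  intro x hx
  obtain ⟨g, rfl⟩ := QuotientGroup.mk_surjective x
  rw [mem_bot, QuotientGroup.eq_one_iff, mem_frattini_iff]
  intro K hK
  have h1 : ((K.map (QuotientGroup.mk' (frattini G))).comap (QuotientGroup.mk' (frattini G))) = K := by
    rw [Subgroup.comap_map_eq, QuotientGroup.ker_mk', sup_eq_left.2 (frattini_le_coatom hK)]
  have h2 : IsCoatom (K.map (QuotientGroup.mk' (frattini G))) := by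
    rw [← isCoatom_comap_iff (QuotientGroup.mk' (frattini G)) (QuotientGroup.mk'_surjective _), h1]
    exact hK
  rw [← h1, mem_comap]
  exact mem_frattini_iff.1 hx _ h2

theorem NCl.one {P : Subgroup G → Prop} {M : Subgroup G} (hM : IsCoatom M) (hP : P M) : NCl 1 G P :=
  ⟨fun _ => M, fun _ => ⟨hM, hP⟩, fun i j _ => Subsingleton.elim i j⟩

theorem NCl.two {P : Subgroup G → Prop} {M M' : Subgroup G} (hM : IsCoatom M) (hP : P M) (hM' : IsCoatom M') (hP' : P M')
    (h : ¬ Cj M M') : NCl 2 G P := by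
  refine ⟨![M, M'], ?_, ?_⟩
  · intro i
    fin_cases i
    · exact ⟨hM, hP⟩
    · exact ⟨hM', hP'⟩
  · intro i j
    fin_cases i <;> fin_cases j
    · intro _; rfl
    · intro h1; exact absurd h1 h
    · intro h1; exact absurd h1.symm h
    · intro _; rfl

/-- supplements and non-supplements of a normal subgroup -/
theorem NCl.add_normal {N : Subgroup G} [N.Normal] {n m : ℕ} (h : NCl n G fun M => ¬ N ≤ M) (h' : NCl m G fun M => N ≤ M) :
    AtLeast (n + m) G :=
  h.add h' (fun _ _ hA hB hc => hA (hc.le_iff.2 hB)) (fun _ _ => trivial) (fun _ _ => trivial)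

theorem exists_coatom_of_frattini [Finite G] (hF : frattini G = ⊥) {N : Subgroup G} (hN : N ≠ ⊥) :
    ∃ M : Subgroup G, IsCoatom M ∧ ¬ N ≤ M := by
  by_contra hcon
  push Not at hcon
  apply hN
  rw [eq_bot_iff, ← hF]
  intro x hx
  rw [mem_frattini_iff]
  intro K hK
  exact hcon K hK hx

/-- two classes of supplements of a non-solvable minimal normal subgroup -/
theorem two_supp [Finite G] {N : Subgroup G} [hN : N.Normal] (hF : frattini G = ⊥)
    (hmin : ∀ K : Subgroup G, K.Normal → K ≤ N → K = ⊥ ∨ K = N) (hns : ¬ Group.IsSolvable ↥N) :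
    NCl 2 G fun M => ¬ N ≤ M := by
  have hNb : N ≠ ⊥ := by
    rintro rfl
    exact hns inferInstance
  obtain ⟨M1, hM1, hNM1⟩ := exists_coatom_of_frattini hF hNb
  have h1 : (M1.subgroupOf N).index ≠ 1 := by
    rw [Subgroup.index_eq_one.ne, Ne, subgroupOf_eq_top]
    exact hNM1
  obtain ⟨p, hp, hpi⟩ := Nat.exists_prime_and_dvd h1
  have := Fact.mk hp
  let P : Sylow p ↥N := default
  let P' : Subgroup G := (P : Subgroup ↥N).map N.subtype
  have hP'N : P' ≤ N := Subgroup.map_subtype_le _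
  have hF' : normalizer (P' : Set G) ⊔ N = ⊤ := Sylow.normalizer_sup_eq_top P
  have hpN : p ∣ Nat.card N := hpi.trans (Subgroup.index_dvd_card _)
  have hcP' : Nat.card P' = Nat.card P := Subgroup.card_map_of_injective N.subtype_injective
  have hNtop : normalizer (P' : Set G) ≠ ⊤ := by
    intro h
    have h2 : P'.Normal := normalizer_eq_top_iff.1 h
    rcases hmin P' h2 hP'N with h3 | h3
    · have h4 : p ∣ Nat.card P := P.dvd_card_of_dvd_card hpN
      rw [← hcP', h3, Subgroup.card_bot] at h4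
      exact hp.one_lt.ne' (Nat.dvd_one.1 h4)
    · apply hns
      have h5 : IsPGroup p P' := P.2.map _
      rw [h3] at h5
      exact isSolvable_of_isPGroup h5
  obtain ⟨M2, hM2, hPM2⟩ := exists_coatom hNtop
  have hNM2 : ¬ N ≤ M2 := by
    intro h
    apply hM2.1
    rw [eq_top_iff, ← hF']
    exact sup_le hPM2 h
  refine NCl.two hM1 hNM1 hM2 hNM2 ?_
  intro hc
  obtain ⟨g, hg⟩ := hc.symm
  -- `P'` conjugated lies in `M1 ⊓ N`
  have h2 : P'.map (MulAut.conj g).toMonoidHom ≤ M1 := by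
    rw [← hg]
    exact map_conj_mono (Subgroup.le_normalizer.trans hPM2) g
  have h3 : P'.map (MulAut.conj g).toMonoidHom ≤ N := by
    rintro _ ⟨x, hx, rfl⟩
    exact hN.conj_mem x (hP'N hx) g
  have h4 : Nat.card ((P'.map (MulAut.conj g).toMonoidHom).subgroupOf N) = Nat.card P := by
    rw [← hcP', ← card_map_conj P' g]
    exact Nat.card_congr (Subgroup.subgroupOfEquivOfLe h3).toEquiv
  have h5 : Nat.card P ∣ Nat.card (M1.subgroupOf N) := by
    rw [← h4]
    refine Subgroup.card_dvd_of_le ?_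
    intro x hx
    exact h2 hx
  have h6 : Nat.card (M1.subgroupOf N) * (M1.subgroupOf N).index = Nat.card N := Subgroup.card_mul_index _
  have h7 : Nat.card P * p ∣ Nat.card N := by
    rw [← h6]
    exact Nat.mul_dvd_mul h5 hpi
  have h8 : Nat.card P * p = p ^ ((Nat.card N).factorization p + 1) := by
    rw [P.card_eq_multiplicity, pow_succ]
  rw [h8] at h7
  exact Nat.pow_succ_factorization_not_dvd Nat.card_pos.ne' hp h7

end prelim

/-- **the reduction** -/
theorem main_red (row1 : ∀ (K : Type u) [Group K] [Finite K], IsSimpleGroup K → ¬ Group.IsSolvable K → AtLeast 3 K)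
    (row2 : ∀ (K : Type u) [Group K] [Finite K], IsSimpleGroup K → ¬ Group.IsSolvable K → Supp.{u} 3 K) :
    ∀ (n : ℕ) (G : Type u) [Group G] [Finite G], Nat.card G = n → ¬ Group.IsSolvable G →
      AtLeast 3 G ∧ (¬ AtLeast 4 G → IsSimpleGroup (G ⧸ frattini G)) := by
  intro n
  induction n using Nat.strong_induction_on with
  | _ n ih =>
    intro G _ _ hn hns
    have hquot : ∀ (N : Subgroup G) [N.Normal], N ≠ ⊥ → Nat.card (G ⧸ N) < n := by
      intro N _ hN
      rw [← hn, ← Subgroup.index_eq_card, ← Subgroup.card_mul_index N]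
      have h1 : 1 < Nat.card N := by
        rw [Subgroup.one_lt_card_iff_ne_bot]
        exact hN
      exact lt_mul_of_one_lt_left (Nat.pos_of_ne_zero Subgroup.index_ne_zero_of_finite) h1
    by_cases hF : frattini G = ⊥
    · by_cases hsim : IsSimpleGroup G
      · refine ⟨row1 G hsim hns, fun _ => ?_⟩
        exact ((QuotientGroup.quotientMulEquivOfEq hF).trans QuotientGroup.quotientBot).isSimpleGroup
      · have h4 : AtLeast 4 G := by
          by_cases hA : ∃ (N : Subgroup G) (_ : N.Normal), N ≠ ⊥ ∧ ¬ Group.IsSolvable (G ⧸ N)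
          · obtain ⟨N, hN, hNb, hNs⟩ := hA
            have h1 := (ih _ (hquot N hNb) (G ⧸ N) rfl hNs).1
            have h2 := h1.comap (QuotientGroup.mk' N) (QuotientGroup.mk'_surjective N)
            rw [QuotientGroup.ker_mk'] at h2
            obtain ⟨M, hM, hNM⟩ := exists_coatom_of_frattini hF hNb
            exact NCl.add_normal (n := 1) (m := 3) (NCl.one hM hNM) h2
          · push Not at hA
            have hnt : Nontrivial G := by
              by_contra h
              rw [not_nontrivial_iff_subsingleton] at h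
              exact hns inferInstance
            obtain ⟨N0, hN0, hN0b, hN0t⟩ : ∃ N0 : Subgroup G, N0.Normal ∧ N0 ≠ ⊥ ∧ N0 ≠ ⊤ := by
              by_contra hcon
              push Not at hcon
              apply hsim
              refine ⟨fun H hH => ?_⟩
              by_cases hb : H = ⊥
              · exact Or.inl hb
              · exact Or.inr (hcon H hH hb)
            obtain ⟨N, hN, hNb, hNN0, hmin⟩ := exists_minimal_normal hN0 hN0b
            have hNt : N ≠ ⊤ := by
              rintro rfl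
              exact hN0t (top_le_iff.1 hNN0)
            have hQs : Group.IsSolvable (G ⧸ N) := hA N hN hNb
            have hNs : ¬ Group.IsSolvable ↥N := fun h => hns ((Group.isSolvable_iff_subgroup_quotient N).2 ⟨h, hQs⟩)
            have hQnt : Nontrivial (G ⧸ N) := by
              rw [← Finite.one_lt_card_iff_nontrivial, ← Subgroup.index_eq_card]
              have h1 : N.index ≠ 1 := by rwa [Ne, Subgroup.index_eq_one]
              have h2 : N.index ≠ 0 := Subgroup.index_ne_zero_of_finite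
              omega
            by_cases h2 : AtLeast 2 (G ⧸ N)
            · have h3 := h2.comap (QuotientGroup.mk' N) (QuotientGroup.mk'_surjective N)
              rw [QuotientGroup.ker_mk'] at h3
              exact NCl.add_normal (n := 2) (m := 2) (two_supp hF hmin hNs) h3
            · have h3 := Cfsg.Agent.S4387.result (G := G ⧸ N) (by
                intro M M' hM hM'
                by_contra hcon
                apply h2
                refine NCl.two (P := fun _ => True) hM trivial hM' trivial ?_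
                rintro ⟨g, hg⟩
                exact hcon ⟨g, hg.symm⟩)
              obtain ⟨hcyc, hpp⟩ := h3
              obtain ⟨p, a, hp, ha, hpa⟩ := (isPrimePow_nat_iff _).1 hpp
              obtain ⟨h0, hh0⟩ := hcyc.exists_generator
              obtain ⟨h, rfl⟩ := QuotientGroup.mk_surjective h0
              have hcov : ∀ g : G, ∃ n ∈ N, ∃ i : ℤ, g = n * h ^ i := by
                intro g
                obtain ⟨i, hi⟩ := Subgroup.mem_zpowers_iff.1 (hh0 (g : G ⧸ N))
                refine ⟨g * (h ^ i)⁻¹, ?_, i, by group⟩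
                rw [← QuotientGroup.eq_one_iff, QuotientGroup.mk_mul, QuotientGroup.mk_inv, QuotientGroup.mk_zpow, hi,
                  mul_inv_cancel]
              obtain ⟨T, L, hTs⟩ := exists_lift (N := N) hmin hNs hcov
              have h5 : NCl 3 G fun M => ¬ N ≤ M :=
                three_supp L hTs (row1 ↥T L.simp hTs) (row2 ↥T L.simp hTs) hp
                  (by rw [Subgroup.index_eq_card, hpa]) (fun {_} => hcyc)
              obtain ⟨M0, hM0, -⟩ := exists_coatom (G := G ⧸ N) (A := ⊥) (by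
                intro h
                exact (bot_ne_top (α := Subgroup (G ⧸ N))) h)
              have h6 : AtLeast 1 (G ⧸ N) := NCl.one hM0 trivial
              have h7 := h6.comap (QuotientGroup.mk' N) (QuotientGroup.mk'_surjective N)
              rw [QuotientGroup.ker_mk'] at h7
              exact NCl.add_normal (n := 3) (m := 1) h5 h7
        exact ⟨NCl.le h4 (by norm_num), fun h => absurd h4 h⟩
    · have hQs : ¬ Group.IsSolvable (G ⧸ frattini G) := by
        intro h
        apply hns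
        have h1 : Group.IsNilpotent ↥(frattini G) := frattini_nilpotent
        exact (Group.isSolvable_iff_subgroup_quotient (frattini G)).2 ⟨inferInstance, h⟩
      obtain ⟨h1, h2⟩ := ih _ (hquot (frattini G) hF) (G ⧸ frattini G) rfl hQs
      refine ⟨h1.of_surjective (QuotientGroup.mk' _) (QuotientGroup.mk'_surjective _), fun h4 => ?_⟩
      have h3 := h2 fun h => h4 (h.of_surjective (QuotientGroup.mk' _) (QuotientGroup.mk'_surjective _))
      exact ((QuotientGroup.quotientMulEquivOfEq frattini_quot).trans QuotientGroup.quotientBot).symm.isSimpleGroup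

end Cfsg.Agent.H339.MaxCl
end

-- part: H339/MaxTwo
section
/-!
# Few classes of maximal subgroups: covers and indices (helper339, S5907)

* `exists_cover` : if there are not `n + 1` classes with `P`, then `n` maximal subgroups with `P` cover all;
* `exists_indices` : for `S` simple and normal in `X`, not `n + 1` classes of supplements: `n` supplements `M i` covering all,
  for each prime `r ∣ |S|` the normalizer of a Sylow `r`-subgroup of `S` lies in some `M i`;
* `index_modEq` : then `|X : M i| ≡ 1 [MOD r]`;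
* `exists_numeric` : the numerical consequences.
-/

set_option autoImplicit false
set_option linter.unusedSectionVars false

namespace Cfsg.Agent.H339.MaxCl

open Subgroup

universe u v

section cover

variable {G : Type*} [Group G]

theorem NCl.snoc {n : ℕ} {P : Subgroup G → Prop} {M : Fin n → Subgroup G} (hM : ∀ i, IsCoatom (M i) ∧ P (M i))
    (hc : ∀ i j, Cj (M i) (M j) → i = j) {K : Subgroup G} (hK : IsCoatom K) (hP : P K) (h : ∀ i, ¬ Cj (M i) K) :
    NCl (n + 1) G P := by
  have h1 : NCl n G fun A => ∃ i, A = M i := ⟨M, fun i => ⟨(hM i).1, i, rfl⟩, hc⟩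
  have h2 : NCl 1 G fun A => A = K := NCl.one hK rfl
  refine h1.add h2 ?_ ?_ ?_
  · rintro _ _ ⟨i, rfl⟩ rfl
    exact h i
  · rintro _ ⟨i, rfl⟩
    exact (hM i).2
  · rintro _ rfl
    exact hP

theorem exists_cover {P : Subgroup G → Prop} (hex : ∃ M, IsCoatom M ∧ P M) : ∀ {n : ℕ}, 1 ≤ n → ¬ NCl (n + 1) G P →
    ∃ M : Fin n → Subgroup G, (∀ i, IsCoatom (M i) ∧ P (M i)) ∧ ∀ K, IsCoatom K → P K → ∃ i, Cj (M i) K := by
  intro n hn
  induction n, hn using Nat.le_induction with
  | base =>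
    intro h
    obtain ⟨M, hM, hP⟩ := hex
    refine ⟨fun _ => M, fun _ => ⟨hM, hP⟩, fun K hK hPK => ⟨0, ?_⟩⟩
    by_contra hc
    exact h (NCl.two hM hP hK hPK hc)
  | succ n hn ih =>
    intro h
    by_cases h1 : NCl (n + 1) G P
    · obtain ⟨M, hM, hc⟩ := h1
      refine ⟨M, hM, fun K hK hPK => ?_⟩
      by_contra hcon
      push Not at hcon
      exact h (NCl.snoc hM hc hK hPK hcon)
    · obtain ⟨M, hM, hcov⟩ := ih h1
      refine ⟨Fin.cons (M ⟨0, hn⟩) M, fun i => ?_, fun K hK hPK => ?_⟩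
      · refine Fin.cases ?_ (fun i => ?_) i
        · rw [Fin.cons_zero]; exact hM _
        · rw [Fin.cons_succ]; exact hM _
      · obtain ⟨i, hi⟩ := hcov K hK hPK
        exact ⟨i.succ, by rwa [Fin.cons_succ]⟩

end cover

section indices

variable {X : Type*} [Group X] [Finite X] {S : Subgroup X} [hS : S.Normal]

/-- the normalizer of a Sylow subgroup of `S` supplements `S` and is proper -/
theorem sylow_norm (hsimp : IsSimpleGroup ↥S) (hns : ¬ Group.IsSolvable ↥S) {r : ℕ} [hr : Fact r.Prime]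
    (hrS : r ∣ Nat.card S) (R : Sylow r ↥S) :
    normalizer (((R : Subgroup ↥S).map S.subtype : Subgroup X) : Set X) ⊔ S = ⊤ ∧
      normalizer (((R : Subgroup ↥S).map S.subtype : Subgroup X) : Set X) ≠ ⊤ := by
  refine ⟨Sylow.normalizer_sup_eq_top R, fun h => ?_⟩
  have h2 : ((R : Subgroup ↥S).map S.subtype).Normal := normalizer_eq_top_iff.1 h
  have h3 : (R : Subgroup ↥S).Normal := by
    refine ⟨fun x hx g => ?_⟩
    obtain ⟨y, hy, hyx⟩ := h2.conj_mem x ⟨x, hx, rfl⟩ g
    have e : y = g * x * g⁻¹ := Subtype.ext hyx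
    rwa [← e]
  rcases h3.eq_bot_or_eq_top with h4 | h4
  · have hrR : r ∣ Nat.card R := R.dvd_card_of_dvd_card hrS
    have h5 : Nat.card R = 1 := by
      show Nat.card (R : Subgroup ↥S) = 1
      rw [h4, Subgroup.card_bot]
    rw [h5] at hrR
    exact hr.out.one_lt.ne' (Nat.dvd_one.1 hrR)
  · apply hns
    have h5 : IsPGroup r (⊤ : Subgroup ↥S) := h4 ▸ R.2
    exact isSolvable_of_isPGroup (h5.of_equiv Subgroup.topEquiv)

theorem sylow_coatom (hsimp : IsSimpleGroup ↥S) (hns : ¬ Group.IsSolvable ↥S) {r : ℕ} [hr : Fact r.Prime]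
    (hrS : r ∣ Nat.card S) (R : Sylow r ↥S) :
    ∃ M : Subgroup X, IsCoatom M ∧ ¬ S ≤ M ∧
      normalizer (((R : Subgroup ↥S).map S.subtype : Subgroup X) : Set X) ≤ M := by
  obtain ⟨h1, h2⟩ := sylow_norm hsimp hns hrS R
  obtain ⟨M, hM, hRM⟩ := exists_coatom h2
  refine ⟨M, hM, fun h => hM.1 ?_, hRM⟩
  rw [eq_top_iff, ← h1]
  exact sup_le hRM h

theorem index_eq {M : Subgroup X} (hM : M ⊔ S = ⊤) : M.index = (M.subgroupOf S).index := by
  have h1 : S.relIndex (M ⊔ S) = S.relIndex M := Subgroup.relIndex_sup_right M S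
  rw [hM, Subgroup.relIndex_top_right] at h1
  have h2 : Nat.card (S.subgroupOf M) * S.relIndex M = Nat.card M := Subgroup.card_mul_index _
  have h3 : Nat.card (M.subgroupOf S) * (M.subgroupOf S).index = Nat.card S := Subgroup.card_mul_index _
  have h4 : Nat.card (S.subgroupOf M) = Nat.card (M.subgroupOf S) := by
    have e1 : Nat.card (S.subgroupOf M) = Nat.card (S ⊓ M : Subgroup X) := by
      rw [← Subgroup.inf_subgroupOf_right]
      exact Nat.card_congr (Subgroup.subgroupOfEquivOfLe inf_le_right).toEquiv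
    have e2 : Nat.card (M.subgroupOf S) = Nat.card (M ⊓ S : Subgroup X) := by
      rw [← Subgroup.inf_subgroupOf_right]
      exact Nat.card_congr (Subgroup.subgroupOfEquivOfLe inf_le_right).toEquiv
    rw [e1, e2, inf_comm]
  have h5 : Nat.card M * M.index = Nat.card X := Subgroup.card_mul_index _
  have h6 : Nat.card S * S.index = Nat.card X := Subgroup.card_mul_index _
  have hp : 0 < Nat.card (M.subgroupOf S) * S.index :=
    Nat.mul_pos Nat.card_pos (Nat.pos_of_ne_zero Subgroup.index_ne_zero_of_finite)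
  refine Nat.eq_of_mul_eq_mul_left hp ?_
  calc Nat.card (M.subgroupOf S) * S.index * M.index = Nat.card M * M.index := by rw [← h2, h4, h1]
    _ = Nat.card S * S.index := by rw [h5, h6]
    _ = Nat.card (M.subgroupOf S) * S.index * (M.subgroupOf S).index := by rw [← h3]; ring

/-- the index of a supplement containing the normalizer of a Sylow `r`-subgroup of `S` is `1` mod `r` -/
theorem index_modEq {M : Subgroup X} (hM : M ⊔ S = ⊤) {r : ℕ} [hr : Fact r.Prime] (R : Sylow r ↥S)
    (h : normalizer (((R : Subgroup ↥S).map S.subtype : Subgroup X) : Set X) ≤ M) : M.index ≡ 1 [MOD r] := by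
  rw [index_eq hM]
  refine Cfsg.Agent.H940.MaxCls.index_modEq_one R ?_
  intro x hx
  refine h ?_
  rw [mem_normalizer_iff] at hx ⊢
  intro y
  constructor
  · rintro ⟨z, hz, rfl⟩
    exact ⟨x * z * x⁻¹, (hx z).1 hz, rfl⟩
  · rintro ⟨z, hz, hzy⟩
    have e : y = ((x⁻¹ * z * x : ↥S) : X) := by
      show y = (x : X)⁻¹ * (z : X) * (x : X)
      have : (z : X) = (x : X) * y * (x : X)⁻¹ := hzy
      rw [this]; group
    rw [e]
    refine ⟨x⁻¹ * z * x, (hx _).2 ?_, rfl⟩
    have e2 : x * (x⁻¹ * z * x) * x⁻¹ = z := by group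
    rw [e2]; exact hz

theorem exists_indices (hsimp : IsSimpleGroup ↥S) (hns : ¬ Group.IsSolvable ↥S) {n : ℕ} (hn : 1 ≤ n)
    (h : ¬ NCl (n + 1) X fun M => ¬ S ≤ M) :
    ∃ M : Fin n → Subgroup X, (∀ i, IsCoatom (M i) ∧ ¬ S ≤ M i) ∧ (∀ K, IsCoatom K → ¬ S ≤ K → ∃ i, Cj (M i) K) ∧
      ∀ (r : ℕ) [Fact r.Prime], r ∣ Nat.card S → ∃ (i : Fin n) (R : Sylow r ↥S),
        normalizer (((R : Subgroup ↥S).map S.subtype : Subgroup X) : Set X) ≤ M i := by
  have hS1 : Nat.card S ≠ 1 := by
    intro h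
    apply hns
    have : Subsingleton ↥S := (Nat.card_eq_one_iff_unique.1 h).1
    infer_instance
  obtain ⟨r0, hr0, hrS0⟩ := Nat.exists_prime_and_dvd hS1
  have := Fact.mk hr0
  obtain ⟨M0, hM0, hSM0, -⟩ := sylow_coatom hsimp hns hrS0 (default : Sylow r0 ↥S)
  obtain ⟨M, hM, hcov⟩ := exists_cover (P := fun M => ¬ S ≤ M) ⟨M0, hM0, hSM0⟩ hn h
  refine ⟨M, hM, hcov, ?_⟩
  intro r hr hrS
  obtain ⟨K, hK, hSK, hRK⟩ := sylow_coatom hsimp hns hrS (default : Sylow r ↥S)
  obtain ⟨i, g, hg⟩ := hcov K hK hSK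
  -- `K = M i` conjugated by `g`; write `g⁻¹ = a s`, `a ∈ N(R)`, `s ∈ S`
  have hgi : K.map (MulAut.conj g⁻¹).toMonoidHom = M i := by
    rw [← hg, map_conj_mul, inv_mul_cancel, map_conj_one]
  obtain ⟨s, hs, k, hk, hsk⟩ := exists_mul_of_coatom hK hSK g⁻¹
  have hsi : K.map (MulAut.conj s).toMonoidHom = M i := by
    rw [← hgi, ← hsk, ← map_conj_mul, mem_normalizer_iff_conj.1 (Subgroup.le_normalizer hk)]
  refine ⟨i, (⟨s, hs⟩ : ↥S) • (default : Sylow r ↥S), ?_⟩
  rw [← hsi]
  have e1 : (((⟨s, hs⟩ : ↥S) • (default : Sylow r ↥S) : Sylow r ↥S) : Subgroup ↥S).map S.subtype =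
      (((default : Sylow r ↥S) : Subgroup ↥S).map S.subtype).map (MulAut.conj s).toMonoidHom := by
    have h3 : (((⟨s, hs⟩ : ↥S) • (default : Sylow r ↥S) : Sylow r ↥S) : Subgroup ↥S) =
        ((default : Sylow r ↥S) : Subgroup ↥S).map (MulAut.conj (⟨s, hs⟩ : ↥S)).toMonoidHom := by
      rw [Sylow.coe_subgroup_smul]
      rfl
    rw [h3, Subgroup.map_map, Subgroup.map_map]
    congr 1
  rw [e1]
  intro x hx
  rw [mem_map_conj]
  apply hRK
  rw [mem_normalizer_iff] at hx ⊢
  intro y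
  have h4 := hx (s * y * s⁻¹)
  have e2 : s⁻¹ * (s * y * s⁻¹) * s = y := by group
  have e3 : s⁻¹ * (x * (s * y * s⁻¹) * x⁻¹) * s = s⁻¹ * x * s * y * (s⁻¹ * x * s)⁻¹ := by group
  rw [mem_map_conj, mem_map_conj, e2, e3] at h4
  exact h4

end indices

end Cfsg.Agent.H339.MaxCl
end

-- part: H288/BnHall
section
/-!
# Supplements: the index trick (helper288, S5907; idea: helper339)

`exists_hall` : `S` simple normal in `X` with a parabolic system such that Sylow `r`-subgroups of `N_S(U)` lie in two conjugates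
of `N_S(U)`. If `X` has no three classes of supplements, then `S` has a proper subgroup `H` of `p`-power index containing the
normaliser of a Sylow `r`-subgroup for every prime `r ≠ p`.

`supp_of_noHall` : the criterion for `Supp 3 K` for groups with a root group datum (any rank).
-/

set_option autoImplicit false
set_option linter.unusedSectionVars false

namespace Cfsg.Agent.H288.BnHall

open Subgroup Cfsg.Agent.H339.MaxCl Cfsg.Agent.H288.BnAbs

/-- Sylow subgroups for primes `r ≠ p` normalising `U` normalise another Sylow `p`-subgroup -/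
def Spread (p : ℕ) {S : Type*} [Group S] (U : Sylow p S) : Prop :=
  ∀ (r : ℕ) [Fact r.Prime], r ≠ p → ∀ R : Sylow r S, (R : Subgroup S) ≤ normalizer ((U : Subgroup S) : Set S) →
    ∃ g : S, (U : Subgroup S).map (MulAut.conj g).toMonoidHom ≠ U ∧
      (R : Subgroup S) ≤ (normalizer ((U : Subgroup S) : Set S)).map (MulAut.conj g).toMonoidHom

/-- the subgroups `H` obtained from few supplements -/
def Hall (p : ℕ) {S : Type*} [Group S] (H : Subgroup S) : Prop :=
  (∃ k, 0 < k ∧ H.index = p ^ k) ∧ ∀ (r : ℕ) [Fact r.Prime], r ≠ p → r ∣ Nat.card S →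
    ∃ R : Sylow r S, normalizer ((R : Subgroup S) : Set S) ≤ H

theorem exists_sylow_conj {r : ℕ} {S : Type*} [Group S] (R : Sylow r S) (g : S) :
    ∃ R' : Sylow r S, (R' : Subgroup S) = (R : Subgroup S).map (MulAut.conj g).toMonoidHom := ⟨g • R, rfl⟩

theorem Spread.false {p : ℕ} {S : Type*} [Group S] [Finite S] {U : Sylow p S} (hs : Spread p U) {r : ℕ}
    [Fact r.Prime] (hr : r ≠ p) (R : Sylow r S)
    (h : normalizer ((R : Subgroup S) : Set S) ≤ normalizer ((U : Subgroup S) : Set S)) : False := by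
  obtain ⟨g, hg, hRg⟩ := hs r hr R (le_normalizer.trans h)
  apply hg
  -- `R` and `R ^ g⁻¹` lie in `N(U)`
  obtain ⟨R', hR'⟩ := exists_sylow_conj R g⁻¹
  have h1 : (R' : Subgroup S) ≤ normalizer ((U : Subgroup S) : Set S) := by
    rw [hR']
    have h5 := Subgroup.map_mono (f := (MulAut.conj g⁻¹).toMonoidHom) hRg
    rwa [map_conj_mul, inv_mul_cancel, map_conj_one] at h5
  obtain ⟨c, hc, hcR⟩ := exists_conj_le R R' (le_normalizer.trans h) h1
  rw [hR', map_conj_mul] at hcR
  have h2 : c * g⁻¹ ∈ normalizer ((U : Subgroup S) : Set S) := h (mem_normalizer_iff_conj.2 hcR)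
  have h3 : g ∈ normalizer ((U : Subgroup S) : Set S) := by
    have h7 := mul_mem (inv_mem h2) hc
    have e : (c * g⁻¹)⁻¹ * c = g := by group
    rwa [e] at h7
  exact mem_normalizer_iff_conj.1 h3

section abs

variable {p : ℕ} {X : Type*} [Group X] [Finite X] [Fact p.Prime] {S : Subgroup X} [hS : S.Normal] {U : Sylow p ↥S}
  {I : Type*} {P : Set I → Subgroup ↥S}

/-- `N_X(A) ≤ Y` gives `N_S(A) ≤ Y ∩ S` -/
theorem norm_sub {A : Subgroup ↥S} {Y : Subgroup X}
    (h : normalizer ((A.map S.subtype : Subgroup X) : Set X) ≤ Y) : normalizer (A : Set ↥S) ≤ Y.subgroupOf S := by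
  intro x hx
  refine h ?_
  rw [mem_normalizer_iff] at hx ⊢
  intro y
  constructor
  · rintro ⟨z, hz, rfl⟩
    exact ⟨x * z * x⁻¹, (hx z).1 hz, rfl⟩
  · rintro ⟨z, hz, hzy⟩
    have e : y = ((x⁻¹ * z * x : ↥S) : X) := by
      show y = (x : X)⁻¹ * (z : X) * (x : X)
      have : (z : X) = (x : X) * y * (x : X)⁻¹ := hzy
      rw [this]; group
    rw [e]
    refine ⟨x⁻¹ * z * x, (hx _).2 ?_, rfl⟩
    have e2 : x * (x⁻¹ * z * x) * x⁻¹ = z := by group
    rw [e2]; exact hz

theorem norm_conj (A : Subgroup ↥S) (s : ↥S) :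
    normalizer ((A.map (MulAut.conj s).toMonoidHom : Subgroup ↥S) : Set ↥S) =
      (normalizer (A : Set ↥S)).map (MulAut.conj s).toMonoidHom := by
  rw [Subgroup.map_equiv_normalizer_eq A (MulAut.conj s)]

theorem subgroupOf_conj (Y : Subgroup X) (s : ↥S) :
    (Y.map (MulAut.conj (s : X)).toMonoidHom).subgroupOf S = (Y.subgroupOf S).map (MulAut.conj s).toMonoidHom := by
  ext x
  rw [mem_subgroupOf, mem_map_conj, mem_map_conj, mem_subgroupOf]
  rfl

theorem exists_hall [Finite I] [Nonempty I] (hsimp : IsSimpleGroup ↥S) (hns : ¬ Group.IsSolvable ↥S) (h : ParSys p U P)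
    (hs : Spread p U) (hpS : p ∣ Nat.card ↥S) (hcl : ¬ NCl 3 X fun M => ¬ S ≤ M) : ∃ H : Subgroup ↥S, Hall p H := by
  obtain ⟨M, hM, -, hR⟩ := exists_indices hsimp hns (n := 2) (by norm_num) hcl
  obtain ⟨i0, U0, hU0⟩ := hR p hpS
  -- the other index
  obtain ⟨i1, hi1⟩ : ∃ i1 : Fin 2, ∀ i, i ≠ i0 → i = i1 := by
    fin_cases i0
    · exact ⟨1, fun i hi => by fin_cases i; exacts [absurd rfl hi, rfl]⟩
    · exact ⟨0, fun i hi => by fin_cases i; exacts [rfl, absurd rfl hi]⟩
  -- conjugate `U0` to `U`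
  obtain ⟨s, -, hsU⟩ := exists_conj_le U U0 (C := ⊤) le_top le_top
  have hB0 : (normalizer ((U : Subgroup ↥S) : Set ↥S)) ≤ ((M i0).subgroupOf S).map (MulAut.conj s).toMonoidHom := by
    rw [← hsU, norm_conj]
    exact Subgroup.map_mono (norm_sub hU0)
  have hYS : (M i0).map (MulAut.conj (s : X)).toMonoidHom ⊔ S = ⊤ := by
    have h2 : S.map (MulAut.conj (s : X)).toMonoidHom = S :=
      mem_normalizer_iff_conj.1 (le_normalizer s.2)
    have h3 := congrArg (fun A : Subgroup X => A.map (MulAut.conj (s : X)).toMonoidHom)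
      (sup_eq_top_of_coatom (hM i0).1 (hM i0).2)
    simp only [Subgroup.map_sup, h2] at h3
    rw [h3]
    exact Subgroup.map_top_of_surjective _ (MulAut.conj (s : X)).surjective
  obtain ⟨K, hK, -, hKi⟩ := inv_of_le h hYS (J := ∅) (by rw [subgroupOf_conj, h.empty]; exact hB0)
  rw [subgroupOf_conj] at hK
  have hKt : K ≠ Set.univ := by
    rintro rfl
    rw [h.top] at hK
    have h1 : (M i0).subgroupOf S = ⊤ := by
      have h2 := congrArg (fun A : Subgroup ↥S => A.map (MulAut.conj s⁻¹).toMonoidHom) hK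
      simp only [map_conj_mul, inv_mul_cancel, map_conj_one] at h2
      rw [h2]
      exact Subgroup.map_top_of_surjective _ (MulAut.conj s⁻¹).surjective
    rw [subgroupOf_eq_top] at h1
    exact (hM i0).2 h1
  have hK0 : K = ∅ := by
    by_contra hne
    exact hcl (h.nCl_three (Set.nonempty_iff_ne_empty.2 hne) hKt hKi)
  subst hK0
  rw [h.empty] at hK
  -- every other prime goes to `i1`
  have hR1 : ∀ (r : ℕ) [Fact r.Prime], r ≠ p → r ∣ Nat.card ↥S →
      ∃ R : Sylow r ↥S, normalizer (((R : Subgroup ↥S).map S.subtype : Subgroup X) : Set X) ≤ M i1 := by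
    intro r hr hrp hrS
    obtain ⟨i, R, hRi⟩ := hR r hrS
    by_cases hi : i = i0
    · exfalso
      subst hi
      obtain ⟨R', hR'⟩ := exists_sylow_conj R s
      refine hs.false hrp R' ?_
      rw [hR', norm_conj, ← hK]
      exact Subgroup.map_mono (norm_sub hRi)
    · rw [hi1 i hi] at hRi
      exact ⟨R, hRi⟩
  refine ⟨(M i1).subgroupOf S, ?_, fun r hr hrp hrS => ?_⟩
  · have hsup := sup_eq_top_of_coatom (hM i1).1 (hM i1).2
    have hne : (M i1).index ≠ 1 := fun e => (hM i1).1.1 (Subgroup.index_eq_one.1 e)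
    have hidx := index_eq hsup
    have hpow : ∀ r : ℕ, r.Prime → r ∣ (M i1).index → r = p := by
      intro r hr hrd
      by_contra hrp
      have := Fact.mk hr
      have hrS : r ∣ Nat.card ↥S := hrd.trans (by rw [hidx]; exact Subgroup.index_dvd_card _)
      obtain ⟨R, hR2⟩ := hR1 r hrp hrS
      have h1 := index_modEq hsup R hR2
      have h2 : (M i1).index ≡ 0 [MOD r] := (Nat.modEq_zero_iff_dvd).2 hrd
      have h3 : 1 ≡ 0 [MOD r] := h1.symm.trans h2
      exact hr.one_lt.ne' (Nat.dvd_one.1 ((Nat.modEq_zero_iff_dvd).1 h3))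
    have h0 : (M i1).index = p ^ (M i1).index.primeFactorsList.length :=
      Nat.eq_prime_pow_of_unique_prime_dvd (Subgroup.index_ne_zero_of_finite (H := M i1))
        (fun {r} hr hrd => hpow r hr hrd)
    refine ⟨(M i1).index.primeFactorsList.length, Nat.pos_of_ne_zero ?_, by rw [← hidx]; exact h0⟩
    intro e
    exact hne (by rw [h0, e, pow_zero])
  · obtain ⟨R, hR2⟩ := hR1 r hrp hrS
    exact ⟨R, norm_sub hR2⟩

end abs

/-! ### root group data -/

section rgd

open CoxeterSystem Cfsg.Agent.ChevalleyStructure.CoxeterGeom Cfsg.Agent.Tits.Roots Cfsg.Agent.Tits.Core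
  Cfsg.Agent.Tits.RootComb Cfsg.Agent.Tits.Exchange Cfsg.Agent.Nodes.Reps Cfsg.Agent.Nodes.BNOf
  Cfsg.Agent.Nodes.StabComb Cfsg.Agent.Nodes.Bruhat Cfsg.Agent.Nodes.OppDec Cfsg.Agent.Nodes.LeviDec
  Cfsg.Agent.KFacts.RgdCharP Cfsg.Agent.KFacts.RgdVJ Cfsg.Agent.H288.BnRgd

variable {I W Y : Type*} [Fintype I] [DecidableEq I] [Group W] [Group Y] {M : CoxeterMatrix I}
  {cs : CoxeterSystem M W} {A : I → I → ℤ} {h : IsCartan M A} {p : ℕ} {T : Subgroup Y} {n : I → Y}
  {X : (I → ℤ) → Subgroup Y}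

theorem card_B [Finite W] [Finite Y] [Fact p.Prime] (R : RGD cs h p T n X) :
    Nat.card (RGD.B cs h T X) = Nat.card T * Nat.card (RGD.Sup X (RGD.Pos cs h)) := by
  have hle : Nat.card (RGD.B cs h T X) ≤ Nat.card T * Nat.card (RGD.Sup X (RGD.Pos cs h)) := by
    rw [← Nat.card_prod]
    refine Nat.card_le_card_of_surjective
      (fun x : ↥T × ↥(RGD.Sup X (RGD.Pos cs h)) =>
        (⟨x.1 * x.2, mul_mem (RGD.T_le_B x.1.2) (RGD.U_le_B x.2.2)⟩ : ↥(RGD.B cs h T X))) ?_
    rintro ⟨b, hb⟩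
    obtain ⟨t, ht, u, hu, e⟩ := (R.mem_B).1 hb
    exact ⟨(⟨t, ht⟩, ⟨u, hu⟩), Subtype.ext e.symm⟩
  refine le_antisymm hle (Nat.le_of_dvd Nat.card_pos ?_)
  refine Nat.Coprime.mul_dvd_of_dvd_of_dvd ?_ (Subgroup.card_dvd_of_le RGD.T_le_B) (Subgroup.card_dvd_of_le RGD.U_le_B)
  obtain ⟨m, hm⟩ := (IsPGroup.iff_card (p := p)).1 R.isPGroup_Upos
  rw [hm]
  exact R.tcop.pow_right m

/-- Sylow subgroups of `B` normalise another Sylow `p`-subgroup -/
theorem spread [Finite W] [Finite Y] [Nonempty I] [Fact p.Prime] (R : RGD cs h p T n X) (hG : GG cs h T X = ⊤)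
    {U : Sylow p Y} (hU : (U : Subgroup Y) = RGD.Sup X (RGD.Pos cs h)) : Spread p U := by
  intro r hr hrp Q hQ
  rw [hU, normalizer_U R hG] at hQ
  -- the Sylow `r`-subgroup of `T`
  have hcard := card_B (W := W) R
  let Q0 : Sylow r ↥T := default
  have h1 : ¬ r ∣ ((Q0 : Subgroup ↥T).map T.subtype).index := by
    intro hdvd
    have e1 : Nat.card ((Q0 : Subgroup ↥T).map T.subtype) = Nat.card (Q0 : Subgroup ↥T) :=
      Subgroup.card_map_of_injective T.subtype_injective
    have e2 : Nat.card ((Q0 : Subgroup ↥T).map T.subtype) * ((Q0 : Subgroup ↥T).map T.subtype).index = Nat.card Y :=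
      Subgroup.card_mul_index _
    have e3 : Nat.card (RGD.B cs h T X) * (RGD.B cs h T X).index = Nat.card Y := Subgroup.card_mul_index _
    have e4 : Nat.card (Q0 : Subgroup ↥T) * (Q0 : Subgroup ↥T).index = Nat.card T := Subgroup.card_mul_index _
    have e5 : Nat.card (Q0 : Subgroup ↥T) * ((Q0 : Subgroup ↥T).map T.subtype).index =
        Nat.card (Q0 : Subgroup ↥T) * ((Q0 : Subgroup ↥T).index * Nat.card (RGD.Sup X (RGD.Pos cs h)) *
          (RGD.B cs h T X).index) := by
      rw [← e1, e2, ← e3, hcard, ← e4, e1]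
      ring
    rw [Nat.eq_of_mul_eq_mul_left Nat.card_pos e5] at hdvd
    rcases hr.out.dvd_mul.1 hdvd with h2 | h2
    · rcases hr.out.dvd_mul.1 h2 with h3 | h3
      · exact Q0.not_dvd_index h3
      · obtain ⟨m, hm⟩ := (IsPGroup.iff_card (p := p)).1 R.isPGroup_Upos
        rw [hm] at h3
        exact hrp ((Nat.prime_dvd_prime_iff_eq hr.out Fact.out).1 (hr.out.dvd_of_dvd_pow h3))
    · exact Q.not_dvd_index (h2.trans (Subgroup.index_dvd_of_le hQ))
  have hQ1 : IsPGroup r ((Q0 : Subgroup ↥T).map T.subtype) := Q0.2.map _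
  let Q1 : Sylow r Y := hQ1.toSylow h1
  have hQ1T : (Q1 : Subgroup Y) ≤ T := by
    rintro _ ⟨a, -, rfl⟩
    exact a.2
  obtain ⟨c, hc, hcQ⟩ := exists_conj_le Q1 Q (hQ1T.trans RGD.T_le_B) hQ
  obtain ⟨i⟩ := (inferInstance : Nonempty I)
  have hn : n i ∉ RGD.B cs h T X := by
    intro hn
    have h3 := R.eq_one_of_mem_B (rp_simple cs R.nsys i) hn
    exact simple_ne_one i h3
  have hT : T.map (MulAut.conj (n i)).toMonoidHom = T :=
    mem_normalizer_iff_conj.1 (R.nsys.norm i)
  refine ⟨c⁻¹ * n i, ?_, ?_⟩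
  · intro e
    have h3 : c⁻¹ * n i ∈ normalizer ((U : Subgroup Y) : Set Y) := mem_normalizer_iff_conj.2 e
    rw [hU, normalizer_U R hG] at h3
    apply hn
    have h4 := mul_mem hc h3
    rwa [mul_inv_cancel_left] at h4
  · rw [hU, normalizer_U R hG, ← map_conj_mul]
    have h3 : T ≤ (RGD.B cs h T X).map (MulAut.conj (n i)).toMonoidHom := by
      conv_lhs => rw [← hT]
      exact Subgroup.map_mono RGD.T_le_B
    have h4 : (Q : Subgroup Y) = (Q1 : Subgroup Y).map (MulAut.conj c⁻¹).toMonoidHom := by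
      rw [← hcQ, map_conj_mul, inv_mul_cancel, map_conj_one]
    rw [h4]
    exact Subgroup.map_mono (hQ1T.trans h3)

universe u v

/-- no subgroup as in `exists_hall` -/
def NoHall (p : ℕ) (K : Type*) [Group K] : Prop := ∀ H : Subgroup K, ¬ Hall p H

theorem Hall.map {p : ℕ} {G K : Type*} [Group G] [Group K] [Finite G] (f : G ≃* K) {H : Subgroup G} (hH : Hall p H) :
    Hall p (H.map f.toMonoidHom) := by
  obtain ⟨⟨k, hk, hi⟩, h2⟩ := hH
  have : Finite K := Finite.of_equiv G f.toEquiv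
  refine ⟨⟨k, hk, ?_⟩, ?_⟩
  · rw [← hi]
    exact Subgroup.index_map_of_bijective f.bijective H
  · intro r _ hrp hrK
    have hc : Nat.card K = Nat.card G := (Nat.card_congr f.toEquiv).symm
    obtain ⟨R, hR⟩ := h2 r hrp (hc ▸ hrK)
    have h3 : ¬ r ∣ ((R : Subgroup G).map f.toMonoidHom).index := by
      rw [Subgroup.index_map_of_bijective f.bijective]
      exact R.not_dvd_index
    refine ⟨(R.2.map f.toMonoidHom).toSylow h3, ?_⟩
    have h4 : normalizer (((R : Subgroup G).map f.toMonoidHom : Subgroup K) : Set K) ≤ H.map f.toMonoidHom := by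
      rw [← Subgroup.map_equiv_normalizer_eq (R : Subgroup G) f]
      exact Subgroup.map_mono hR
    exact h4

theorem NoHall.of_equiv {p : ℕ} {G K : Type*} [Group G] [Group K] [Finite G] (f : G ≃* K) (hK : NoHall p K) :
    NoHall p G := fun _ hH => hK _ (hH.map f)

/-- **`Supp 3`** for simple groups with a root group datum of any rank without Hall-like subgroups -/
theorem supp_of_noHall {K : Type v} [Group K] [Finite K] [IsSimpleGroup K] (hns : ¬ Group.IsSolvable K) {p l : ℕ}
    [Fact p.Prime] {M : CoxeterMatrix (Fin l)} (hK : Cfsg.Agent.Omega.ML.Ex.Typ.HasRGDT p M K) (hl : 1 ≤ l)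
    (hno : NoHall p K) : Supp.{u} 3 K := by
  rintro X _ _ S _ ⟨f⟩ - - - -
  have hS : IsSimpleGroup ↥S := f.isSimpleGroup
  obtain ⟨A, h, T, n, X', hW, R, hX⟩ := hK.of_equiv f.symm
  have hG : GG M.toCoxeterSystem h T X' = ⊤ := Cfsg.Agent.KFacts.RgdFilt.GG_eq_top hX
  have hns' : ¬ Group.IsSolvable ↥S := fun h =>
    hns (Group.isSolvable_of_isSolvable_injective (f := f.symm.toMonoidHom) f.symm.injective)
  obtain ⟨U, hU⟩ := exists_U R hG
  have hp := parSys R hG hU
  have : Nonempty (Fin l) := ⟨⟨0, hl⟩⟩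
  by_contra hcl
  have hpS : p ∣ Nat.card ↥S := by
    by_contra hpS
    have h1 : (U : Subgroup ↥S) = ⊥ := by
      rw [← Subgroup.card_eq_one]
      obtain ⟨m, hm⟩ := (IsPGroup.iff_card (p := p)).1 U.2
      rcases Nat.eq_zero_or_pos m with rfl | hm0
      · rw [hm, pow_zero]
      · exfalso
        apply hpS
        have h3 : p ∣ Nat.card (U : Subgroup ↥S) := by rw [hm]; exact dvd_pow_self p hm0.ne'
        exact h3.trans (Subgroup.card_subgroup_dvd_card _)
    obtain ⟨V, hV, hVU, -⟩ := hp.rad ∅ (Set.empty_ne_univ)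
    apply hV
    rw [eq_bot_iff, ← h1]
    exact hVU
  obtain ⟨H, hH⟩ := exists_hall hS hns' hp (spread R hG hU) hpS hcl
  exact hno.of_equiv f H hH

end rgd

end Cfsg.Agent.H288.BnHall
end

-- part: H288/BnNum
section
/-!
# The index trick: numerical part (helper288, S5907)

* `Hall.data` : the exponent `k` of the index;
* `Hall.dvd` : `e ∣ k` for a primitive prime divisor of `p ^ e - 1` dividing the order;
* `supp_PSU3`, ...
-/

set_option autoImplicit false
set_option linter.unusedSectionVars false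

namespace Cfsg.Agent.H288.BnNum

open Subgroup Cfsg.Agent.H339.MaxCl Cfsg.Agent.H288.BnHall Cfsg.Agent.H163.PG

section gen

variable {p : ℕ} {K : Type*} [Group K] [Finite K] {H : Subgroup K}

/-- the index is `1` modulo every prime `r ≠ p` -/
theorem Hall.modEq (hH : Hall p H) {k : ℕ} (hk : H.index = p ^ k) {r : ℕ} (hr : r.Prime) (hrp : r ≠ p)
    (hrK : r ∣ Nat.card K) : r ∣ p ^ k - 1 := by
  have := Fact.mk hr
  obtain ⟨R, hR⟩ := hH.2 r hrp hrK
  have h1 := Cfsg.Agent.H940.MaxCls.index_modEq_one R hR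
  rw [hk] at h1
  have h2 : 1 ≤ p ^ k := by
    rw [← hk]
    exact Nat.pos_of_ne_zero Subgroup.index_ne_zero_of_finite
  exact (Nat.modEq_iff_dvd' h2).1 h1.symm

theorem Hall.dvd (hp : p.Prime) (hH : Hall p H) {k : ℕ} (hk : H.index = p ^ k) {r e : ℕ} (hr : Ppd p e r)
    (he : 1 ≤ e) (hrK : r ∣ Nat.card K) : e ∣ k :=
  (hr.dvd_iff hp.one_lt.le k).1 (Hall.modEq hH hk hr.prime (hr.ne he) hrK)

theorem Hall.le (hp : p.Prime) {k : ℕ} (hk : H.index = p ^ k) {g N m : ℕ}
    (hc : g * Nat.card K = p ^ N * m) (hm : ¬ p ∣ m) : k ≤ N := by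
  have h1 : p ^ k ∣ p ^ N * m := by
    rw [← hc, ← hk]
    exact (Subgroup.index_dvd_card H).mul_left g
  have h2 : (p ^ k).Coprime m := Nat.Coprime.pow_left k ((Nat.Prime.coprime_iff_not_dvd hp).2 hm)
  exact (Nat.pow_dvd_pow_iff_le_right hp.one_lt).1 (h2.dvd_of_dvd_mul_right h1)

end gen

/-- `p` does not divide `p ^ e - 1` -/
theorem not_dvd_sub {p e : ℕ} (hp : p.Prime) (he : 1 ≤ e) : ¬ p ∣ p ^ e - 1 := by
  intro h
  have h1 : p ∣ p ^ e := dvd_pow_self p (by omega)
  have h2 : 1 ≤ p ^ e := Nat.one_le_pow _ _ hp.pos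
  have h3 : p ∣ 1 := by
    have := (Nat.dvd_sub h1 h)
    rwa [Nat.sub_sub_self h2] at this
  exact hp.one_lt.ne' (Nat.dvd_one.1 h3)

theorem not_dvd_add {p e : ℕ} (hp : p.Prime) (he : 1 ≤ e) : ¬ p ∣ p ^ e + 1 := by
  intro h
  have h1 : p ∣ p ^ e := dvd_pow_self p (by omega)
  exact hp.one_lt.ne' (Nat.dvd_one.1 ((Nat.dvd_add_right h1).1 h))

section psu3

variable {F : Type*} [Field F] [Fintype F] {q p : ℕ}

theorem exists_q (hF : Fintype.card F = q ^ 2) [hp : Fact p.Prime] [CharP F p] : ∃ f, 1 ≤ f ∧ q = p ^ f := by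
  obtain ⟨n, -, hn⟩ := FiniteField.card F p
  rw [hF] at hn
  have h1 : q ∣ p ^ (n : ℕ) := hn ▸ dvd_pow_self q two_ne_zero
  obtain ⟨f, -, hf⟩ := (Nat.dvd_prime_pow hp.out).1 h1
  refine ⟨f, ?_, hf⟩
  rcases Nat.eq_zero_or_pos f with rfl | h2
  · rw [pow_zero] at hf
    rw [hf] at hF
    have := Fintype.one_lt_card (α := F)
    omega
  · exact h2

theorem noHall_PSU3 (hF : Fintype.card F = q ^ 2) (hq : 2 < q) [hp : Fact p.Prime] [CharP F p] :
    NoHall p (Cfsg.PSU 3 F q) := by
  intro H hH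
  obtain ⟨k, hk0, hk⟩ := hH.1
  obtain ⟨f, hf, hqf⟩ := exists_q (p := p) hF
  have hc := S0280.result hF 3 (by norm_num)
  simp only [Finset.prod_range_succ, Finset.prod_range_zero] at hc
  norm_num only [_root_.pow_one, _root_.ite_true, _root_.one_mul, _root_.ite_false] at hc
  rw [← mul_assoc] at hc
  obtain ⟨r, hr⟩ := Ppd.exists (p := p) (n := 6 * f) hp.out.two_le (by omega) (by
    rintro ⟨rfl, h6⟩
    have : f = 1 := by omega
    subst this
    rw [pow_one] at hqf
    omega)
  have hle : k ≤ 3 * f := by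
    refine Hall.le (m := (q + 1) * (q ^ 2 - 1) * (q ^ 3 + 1)) hp.out hk (g := (Nat.gcd 3 (q + 1) * (q + 1))) ?_ ?_
    · rw [hc, hqf]
      ring
    · rw [hp.out.dvd_mul, hp.out.dvd_mul, hqf, ← pow_mul, ← pow_mul]
      push Not
      exact ⟨⟨not_dvd_add hp.out hf, not_dvd_sub hp.out (by omega)⟩, not_dvd_add hp.out (by omega)⟩
  have hrK : r ∣ Nat.card (Cfsg.PSU 3 F q) := by
    have h1 : r ∣ q ^ 3 + 1 := by
      have h2 : r ∣ (q ^ 3 - 1) * (q ^ 3 + 1) := by
        have h3 : r ∣ p ^ (6 * f) - 1 := (hr.dvd_iff hp.out.one_lt.le _).2 dvd_rfl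
        have h4 : (q ^ 3 - 1) * (q ^ 3 + 1) = p ^ (6 * f) - 1 := by
          rw [mul_comm, ← Nat.sq_sub_sq, one_pow, hqf, ← pow_mul, ← pow_mul]
          congr 2
          ring
        rw [h4]
        exact h3
      rcases hr.prime.dvd_mul.1 h2 with h3 | h3
      · exfalso
        rw [hqf, ← pow_mul, hr.dvd_iff hp.out.one_lt.le] at h3
        have := Nat.le_of_dvd (by omega) h3
        omega
      · exact h3
    have h2 : r ∣ Nat.gcd 3 (q + 1) * (q + 1) * Nat.card (Cfsg.PSU 3 F q) := by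
      rw [hc]
      exact (h1.mul_left _).mul_left _
    have h3 : ¬ r ∣ q + 1 := by
      intro h
      have := hr.dvd_add_one hp.out.one_lt.le (m := f) (hqf ▸ h)
      have := Nat.le_of_dvd (by omega) this
      omega
    rcases hr.prime.dvd_mul.1 h2 with h4 | h4
    · rcases hr.prime.dvd_mul.1 h4 with h5 | h5
      · exact absurd (h5.trans (Nat.gcd_dvd_right _ _)) h3
      · exact absurd h5 h3
    · exact h4
  have h6 := Hall.dvd hp.out hH hk hr (by omega) hrK
  have := Nat.le_of_dvd hk0 h6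
  omega

end psu3

universe u v

/-- the row `PSU 3 q` -/
theorem supp_PSU3 {F : Type v} [Field F] [Fintype F] {q : ℕ} (hF : Fintype.card F = q ^ 2) (hq : 2 < q)
    [IsSimpleGroup (Cfsg.PSU 3 F q)] (hns : ¬ Group.IsSolvable (Cfsg.PSU 3 F q)) : Supp.{u} 3 (Cfsg.PSU 3 F q) := by
  obtain ⟨p, hp⟩ := CharP.exists F
  have : Fact p.Prime := ⟨CharP.char_is_prime F p⟩
  obtain ⟨m, hm, h⟩ := Cfsg.Agent.Omega.ML.Ex.Typ.typ_PSU (p := p) hF (N := 3) le_rfl
  exact supp_of_noHall hns h (by omega) (noHall_PSU3 hF hq)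

end Cfsg.Agent.H288.BnNum
end

-- part: H288/Gal
section
/-!
# The normaliser of an irreducible element of prime order (helper288)

`gal_pow` : `x` of prime order `r` on `V`, `dim V = n` = the order of `q` modulo `r`; if `y` normalises `⟨x⟩`, then `y ^ n`
centralises `x`.
-/

set_option autoImplicit false

namespace Cfsg.Agent.H288.Gal

open Module Polynomial

variable {F V : Type*} [Field F] [Finite F] [AddCommGroup V] [Module F V] [FiniteDimensional F V]

/-- the minimal polynomial is irreducible -/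
theorem irreducible_minpoly {r : ℕ} (hr : r.Prime) (hrF : (r : F) ≠ 0) {x : V →ₗ[F] V} (hx : x ^ r = 1) (hx1 : x ≠ 1)
    (ho : orderOf ((Nat.card F : ℕ) : ZMod r) = finrank F V) : Irreducible (minpoly F x) := by
  have hint : IsIntegral F x := Algebra.IsIntegral.isIntegral x
  -- `x` has no fixed vectors
  have hsub : ∀ W : Submodule F V, (∀ w ∈ W, x w ∈ W) → (∀ v ∈ W, x v = v → v = 0) → W = ⊥ ∨ W = ⊤ := by
    intro W hW hf
    have h1 := Cfsg.Agent.H150.dvd_finrank_of_fpf_submodule hr x hx W hW hf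
    rw [ho] at h1
    rcases Nat.eq_zero_or_pos (finrank F W) with h2 | h2
    · exact Or.inl (Submodule.finrank_eq_zero.1 h2)
    · exact Or.inr (Submodule.eq_top_of_finrank_eq (le_antisymm (Submodule.finrank_le W) (Nat.le_of_dvd h2 h1)))
  have hfix : ∀ v, x v = v → v = 0 := by
    have h1 := hsub (LinearMap.range (x - 1)) (by
      rintro _ ⟨w, rfl⟩
      exact ⟨x w, by simp only [_root_.LinearMap.sub_apply, _root_.Module.End.one_apply, _root_.map_sub]⟩) (Cfsg.Agent.H150.fpf_range hrF x hx)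
    have hc := Cfsg.Agent.H150.isCompl_fix hrF x hx
    rcases h1 with h1 | h1
    · rw [LinearMap.range_eq_bot, sub_eq_zero] at h1
      exact absurd h1 hx1
    · rw [h1] at hc
      have h2 := hc.inf_eq_bot
      rw [inf_top_eq] at h2
      intro v hv
      have h3 : v ∈ LinearMap.ker (x - 1) := by simp [hv]
      rw [h2] at h3
      exact (Submodule.mem_bot F).1 h3
  have hne : minpoly F x ≠ 0 := minpoly.ne_zero hint
  have hnu : ¬ IsUnit (minpoly F x) := by
    intro hu
    have h1 := minpoly.aeval F x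
    have h2 : (1 : V →ₗ[F] V) = 0 := by
      have h3 : IsUnit (aeval x (minpoly F x)) := hu.map (aeval x)
      rw [h1, isUnit_zero_iff] at h3
      exact h3.symm
    apply hx1
    rw [← mul_one x, h2, mul_zero]
  obtain ⟨g, hg, hgm⟩ := WfDvdMonoid.exists_irreducible_factor hnu hne
  have hcomm : ∀ w, x (aeval x g w) = aeval x g (x w) := by
    intro w
    have h1 : x * aeval x g = aeval x g * x := by
      have h2 : Commute (aeval x (X : F[X]) : V →ₗ[F] V) (aeval x g) := by
        rw [commute_iff_eq, ← map_mul, ← map_mul, mul_comm]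
      rw [aeval_X] at h2
      exact h2
    exact LinearMap.congr_fun h1 w
  rcases hsub (LinearMap.ker (aeval x g)) (fun w hw => by
      rw [LinearMap.mem_ker] at hw ⊢
      rw [← hcomm, hw, map_zero]) (fun v _ hv => hfix v hv) with h1 | h1
  · -- `g(x)` is injective
    exfalso
    obtain ⟨m, hm⟩ := hgm
    have h2 : aeval x m = 0 := by
      have h3 : aeval x g * aeval x m = 0 := by rw [← map_mul, ← hm, minpoly.aeval]
      ext v
      have h4 := LinearMap.congr_fun h3 v
      have h5 : aeval x g (aeval x m v) = aeval x g 0 := by rw [map_zero]; exact h4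
      exact (LinearMap.ker_eq_bot.1 h1) h5
    have h3 := minpoly.dvd F x h2
    have h4 : IsUnit g := by
      obtain ⟨c, hc⟩ := h3
      rw [hm] at hc
      have hm0 : m ≠ 0 := by
        rintro rfl
        rw [mul_zero] at hm
        exact hne hm
      have h5 : m * (g * c) = m * 1 := by
        rw [mul_one]
        conv_rhs => rw [hc]
        rw [mul_assoc, mul_left_comm]
      exact IsUnit.of_mul_eq_one _ (mul_left_cancel₀ hm0 h5)
    exact hg.not_isUnit h4
  · have h2 : aeval x g = 0 := by rwa [LinearMap.ker_eq_top] at h1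
    exact (associated_of_dvd_dvd hgm (minpoly.dvd F x h2)).irreducible hg

theorem gal_pow {r : ℕ} (hr : r.Prime) (hrF : (r : F) ≠ 0) {x : V →ₗ[F] V} (hx : x ^ r = 1) (hx1 : x ≠ 1)
    (ho : orderOf ((Nat.card F : ℕ) : ZMod r) = finrank F V) {y y' : V →ₗ[F] V} (h1 : y' * y = 1) {j : ℕ}
    (h : y * x * y' = x ^ j) : x ^ j ^ (finrank F V) = x := by
  have hint : IsIntegral F x := Algebra.IsIntegral.isIntegral x
  have hirr := irreducible_minpoly hr hrF hx hx1 ho
  have : Fact (Irreducible (minpoly F x)) := ⟨hirr⟩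
  have hmon := minpoly.monic hint
  -- the field
  let E := AdjoinRoot (minpoly F x)
  let α : E := AdjoinRoot.root (minpoly F x)
  have : Module.Finite F E := (AdjoinRoot.powerBasis' hmon).finite
  have : Finite E := Module.finite_of_finite F
  have hdim : finrank F E = (minpoly F x).natDegree := by
    rw [(AdjoinRoot.powerBasis' hmon).finrank, AdjoinRoot.powerBasis'_dim]
  have hα : ∀ g : F[X], aeval α g = 0 → aeval x g = 0 := by
    intro g hg
    rw [AdjoinRoot.aeval_eq, AdjoinRoot.mk_eq_zero] at hg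
    obtain ⟨c, rfl⟩ := hg
    rw [map_mul, minpoly.aeval, zero_mul]
  -- `y * x ^ k * y' = x ^ (j * k)`
  have hpow : ∀ g : F[X], y * aeval x g * y' * y = aeval (x ^ j) g * y := by
    intro g
    induction g using Polynomial.induction_on' with
    | add a b ha hb => rw [map_add, map_add, mul_add, add_mul, add_mul, add_mul, ha, hb]
    | monomial k a =>
      rw [aeval_monomial, aeval_monomial]
      have h2 : y * x ^ k * y' * y = (x ^ j) ^ k * y := by
        rw [mul_assoc _ y' y, h1, mul_one]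
        induction k with
        | zero => simp
        | succ k ih =>
          have h3 : y * x = x ^ j * y := by rw [← h, mul_assoc _ y' y, h1, mul_one]
          rw [pow_succ, ← mul_assoc, ih, mul_assoc, h3, ← mul_assoc, ← pow_succ]
      have h4 : y * (algebraMap F (V →ₗ[F] V) a * x ^ k) * y' * y = algebraMap F (V →ₗ[F] V) a * (y * x ^ k * y' * y) := by
        simp only [Algebra.algebraMap_eq_smul_one, smul_mul_assoc, one_mul, mul_smul_comm]
      rw [h4, h2, mul_assoc]
  have hy : ∀ z : V →ₗ[F] V, z * y = 0 → z = 0 := by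
    intro z hz
    -- `y` is surjective
    have hinj : Function.Injective y := by
      intro a b hab
      have := congrArg y' hab
      have h5 : ∀ v, y' (y v) = v := fun v => LinearMap.congr_fun h1 v
      rwa [h5, h5] at this
    have hsurj : Function.Surjective y := LinearMap.injective_iff_surjective.1 hinj
    ext v
    obtain ⟨w, rfl⟩ := hsurj v
    exact LinearMap.congr_fun hz w
  have hroot : aeval (α ^ j) (minpoly F x) = 0 := by
    have h2 := hpow (minpoly F x)
    rw [minpoly.aeval, mul_zero, zero_mul, zero_mul] at h2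
    have h3 : aeval (x ^ j) (minpoly F x) = 0 := hy _ h2.symm
    have h4 : minpoly F x ∣ (minpoly F x).comp (X ^ j) := by
      apply minpoly.dvd
      rw [aeval_comp, map_pow, aeval_X, h3]
    have h5 : aeval α ((minpoly F x).comp (X ^ j)) = 0 := by
      rw [AdjoinRoot.aeval_eq, AdjoinRoot.mk_eq_zero]
      exact h4
    rwa [aeval_comp, map_pow, aeval_X] at h5
  -- the degree
  have hdeg : finrank F E = finrank F V := by
    apply le_antisymm
    · rw [hdim]
      have h2 := Polynomial.natDegree_le_of_dvd (LinearMap.minpoly_dvd_charpoly x) (LinearMap.charpoly_monic x).ne_zero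
      rwa [LinearMap.charpoly_natDegree] at h2
    · apply Nat.le_of_dvd finrank_pos
      rw [← ho, orderOf_dvd_iff_pow_eq_one]
      have hαr : α ^ r = 1 := by
        have h2 : aeval α (X ^ r - 1 : F[X]) = 0 := by
          rw [AdjoinRoot.aeval_eq, AdjoinRoot.mk_eq_zero]
          apply minpoly.dvd
          simp [hx]
        simpa only [sub_eq_zero, _root_.Polynomial.aeval_sub, _root_.map_pow, _root_.Polynomial.aeval_X, _root_.map_one] using h2
      have hα1 : α ≠ 1 := by
        intro h2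
        apply hx1
        have h3 : aeval α (X - 1 : F[X]) = 0 := by simp [h2]
        have h4 := hα _ h3
        simpa only [sub_eq_zero, _root_.Polynomial.aeval_sub, _root_.Polynomial.aeval_X, _root_.map_one] using h4
      have := Fact.mk hr
      have hord : orderOf α = r := orderOf_eq_prime hαr hα1
      have hα0 : α ≠ 0 := by
        intro h2
        rw [h2, zero_pow hr.ne_zero] at hαr
        exact zero_ne_one hαr
      have := Fintype.ofFinite E
      have h3 : α ^ (Fintype.card E - 1) = 1 := FiniteField.pow_card_sub_one_eq_one α hα0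
      have h4 := orderOf_dvd_of_pow_eq_one h3
      rw [hord] at h4
      have h5 : Fintype.card E = Nat.card F ^ finrank F E := by
        rw [← Nat.card_eq_fintype_card]
        exact Module.natCard_eq_pow_finrank
      rw [h5] at h4
      have h6 : 1 ≤ Nat.card F ^ finrank F E := Nat.one_le_pow _ _ Nat.card_pos
      have h7 : ((Nat.card F ^ finrank F E - 1 : ℕ) : ZMod r) = 0 := (ZMod.natCast_eq_zero_iff _ _).2 h4
      rw [Nat.cast_sub h6, sub_eq_zero] at h7
      simpa only [_root_.Nat.cast_pow, _root_.Nat.cast_one] using h7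
  -- the automorphism
  let σ : E →ₐ[F] E := AdjoinRoot.liftAlgHom (minpoly F x) (Algebra.ofId F E) (α ^ j) (by
    rw [← hroot]; rfl)
  have hσ : σ α = α ^ j := AdjoinRoot.liftAlgHom_root _ _ _ _
  have hbij : Function.Bijective σ := Algebra.IsAlgebraic.algHom_bijective σ
  let τ : E ≃ₐ[F] E := AlgEquiv.ofBijective σ hbij
  have hτ : ∀ m : ℕ, (τ ^ m) α = α ^ j ^ m := by
    intro m
    induction m with
    | zero => simp
    | succ m ih =>
      rw [pow_succ', AlgEquiv.mul_apply, ih, map_pow]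
      change (σ α) ^ j ^ m = _
      rw [hσ, ← pow_mul, pow_succ']
  have hcard : Nat.card (E ≃ₐ[F] E) = finrank F V := by
    rw [← hdeg]
    exact IsGalois.card_aut_eq_finrank F E
  have h2 := hτ (finrank F V)
  rw [← hcard, pow_card_eq_one', AlgEquiv.one_apply, hcard] at h2
  have h3 : aeval α (X ^ j ^ (finrank F V) - X : F[X]) = 0 := by
    rw [map_sub, map_pow, aeval_X, ← h2, sub_self]
  have h4 := hα _ h3
  rw [map_sub, map_pow, aeval_X, sub_eq_zero] at h4
  exact h4

section group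

open Matrix Subgroup

variable {F : Type*} [Field F] [Fintype F] {p q n r : ℕ} [hp : Fact p.Prime] [CharP F p]

/-- in a cyclic group two elements of order `r` generate the same subgroup -/
theorem mem_zpowers_of_cyclic {C : Type*} [Group C] [Finite C] [IsCyclic C] {a b : C} (ha : orderOf a = orderOf b) :
    b ∈ zpowers a := by
  classical
  have := Fintype.ofFinite C
  have hpos : 0 < orderOf a := orderOf_pos a
  have h1 := IsCyclic.card_pow_eq_one_le (α := C) hpos
  have h2 : (zpowers a : Set C).toFinset ⊆ Finset.univ.filter (fun z : C => z ^ orderOf a = 1) := by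
    intro z hz
    rw [Set.mem_toFinset] at hz
    obtain ⟨k, rfl⟩ := hz
    simp only [Finset.mem_filter, Finset.mem_univ, true_and]
    rw [← zpow_natCast, ← _root_.zpow_mul, mul_comm, _root_.zpow_mul, zpow_natCast, pow_orderOf_eq_one, _root_.one_zpow]
  have h3 : (zpowers a : Set C).toFinset.card = orderOf a := by
    rw [Set.toFinset_card]
    have := Nat.card_zpowers a
    rw [Nat.card_eq_fintype_card] at this
    convert this
    rfl
  have h4 := Finset.eq_of_subset_of_card_le h2 (by rw [h3]; exact h1)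
  have h5 : b ∈ Finset.univ.filter (fun z : C => z ^ orderOf a = 1) := by
    simp only [Finset.mem_filter, Finset.mem_univ, true_and]
    rw [ha, pow_orderOf_eq_one]
  rw [← h4, Set.mem_toFinset] at h5
  exact h5

/-- the normaliser of a Sylow subgroup acting irreducibly in dimension `n` centralises it if its order is prime to `n` -/
theorem normalizer_le_centralizer (hF : Fintype.card F = q) (hn : 1 ≤ n) (hr : r.Prime) (hrp : r ≠ p)
    (ho : orderOf (q : ZMod r) = n) {G : Type*} [Group G] [Finite G] (ρ : G →* GL (Fin n) F)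
    (hρ : Function.Injective ρ) (R : Sylow r G) (hd : r ∣ Nat.card G)
    (hcop : (Nat.card (normalizer ((R : Subgroup G) : Set G))).Coprime n) :
    normalizer ((R : Subgroup G) : Set G) ≤ centralizer ((R : Subgroup G) : Set G) := by
  have hrf : Fact r.Prime := ⟨hr⟩
  have hrF : (r : F) ≠ 0 := by
    intro h
    have := (CharP.cast_eq_zero_iff F p r).1 h
    exact hrp ((Nat.prime_dvd_prime_iff_eq hp.out hr).1 this).symm
  -- a central element of order `r`
  have : Nontrivial (R : Subgroup G) := by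
    rw [Subgroup.nontrivial_iff_ne_bot]
    exact R.ne_bot_of_dvd_card hd
  have : Nontrivial (center (R : Subgroup G)) := R.isPGroup'.center_nontrivial
  have hZ : r ∣ Nat.card (center (R : Subgroup G)) := by
    obtain ⟨n, hn, hn'⟩ := (IsPGroup.nontrivial_iff_card (R.isPGroup'.to_subgroup _)).1 this
    rw [hn']; exact dvd_pow_self r (by omega)
  obtain ⟨x0, hx0⟩ := exists_prime_orderOf_dvd_card' r hZ
  set! x : G := ((x0 : (R : Subgroup G)) : G) with hx
  have hxo : orderOf x = r := by rw [hx, Subgroup.orderOf_coe, Subgroup.orderOf_coe, hx0]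
  have hxR : x ∈ (R : Subgroup G) := (x0 : (R : Subgroup G)).2
  have hxc : ∀ y ∈ (R : Subgroup G), x * y = y * x := by
    intro y hy
    exact congrArg Subtype.val ((mem_center_iff.1 x0.2 ⟨y, hy⟩).symm)
  have hXo : orderOf (ρ x) = r := by rw [orderOf_injective ρ hρ, hxo]
  obtain ⟨hcyc, -⟩ := Cfsg.Agent.S2638.result hF hn hr hrp ho (ρ x) hXo
  have hC : ∀ y : G, x * y = y * x → ρ y ∈ centralizer ({ρ x} : Set (GL (Fin n) F)) := by
    intro y hy
    rw [mem_centralizer_singleton_iff, ← map_mul, ← map_mul, hy]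
  have hCc : ∀ y z : G, x * y = y * x → x * z = z * x → y * z = z * y := by
    intro y z hy hz
    apply hρ
    rw [map_mul, map_mul]
    let _ : CommGroup ↥(centralizer ({ρ x} : Set (GL (Fin n) F))) := IsCyclic.commGroup
    exact congrArg Subtype.val (mul_comm (⟨ρ y, hC y hy⟩ : ↥(centralizer ({ρ x} : Set (GL (Fin n) F)))) ⟨ρ z, hC z hz⟩)
  intro y hy
  have hyx : y * x * y⁻¹ ∈ (R : Subgroup G) := (mem_normalizer_iff.1 hy x).1 hxR
  -- `y x y⁻¹` is a power of `x`
  obtain ⟨j, hj⟩ : ∃ j : ℕ, x ^ j = y * x * y⁻¹ := by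
    have h1 : (⟨ρ (y * x * y⁻¹), hC _ (hxc _ hyx)⟩ : ↥(centralizer ({ρ x} : Set (GL (Fin n) F)))) ∈
        zpowers (⟨ρ x, hC x rfl⟩ : ↥(centralizer ({ρ x} : Set (GL (Fin n) F)))) := by
      apply mem_zpowers_of_cyclic
      rw [← Subgroup.orderOf_coe, ← Subgroup.orderOf_coe]
      change orderOf (ρ x) = orderOf (ρ (y * x * y⁻¹))
      rw [orderOf_injective ρ hρ, orderOf_injective ρ hρ]
      exact (MulAut.conj y).orderOf_eq x |>.symm
    rw [← mem_powers_iff_mem_zpowers] at h1
    obtain ⟨j, hj⟩ := h1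
    refine ⟨j, hρ ?_⟩
    have h2 := congrArg Subtype.val hj
    rw [map_pow]
    exact h2
  -- linear algebra
  have hpow : x ^ j ^ n = x := by
    apply hρ
    rw [map_pow]
    apply Units.ext
    rw [Units.val_pow_eq_pow_val]
    have e1 : ∀ A : Matrix (Fin n) (Fin n) F, ∀ m : ℕ, Matrix.toLin' (A ^ m) = (Matrix.toLin' A) ^ m :=
      fun A m => Matrix.toLin'_pow A m
    have h1 := gal_pow (F := F) (V := Fin n → F) hr hrF (x := Matrix.toLin' (ρ x).1)
      (y := Matrix.toLin' (ρ y).1) (y' := Matrix.toLin' (ρ y⁻¹).1) (j := j) ?_ ?_ ?_ ?_ ?_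
    · rw [Module.finrank_fin_fun, ← e1] at h1
      exact Matrix.toLin'.injective h1
    · rw [← e1, ← Units.val_pow_eq_pow_val, ← map_pow, ← hxo, pow_orderOf_eq_one, map_one, Units.val_one,
        Matrix.toLin'_one]
      rfl
    · intro h2
      have h3 : ρ x = 1 := by
        apply Units.ext
        apply Matrix.toLin'.injective
        rw [h2, Units.val_one, Matrix.toLin'_one]
        rfl
      rw [h3, orderOf_one] at hXo
      exact hr.one_lt.ne hXo
    · rw [Module.finrank_fin_fun, Nat.card_eq_fintype_card, hF, ho]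
    · rw [Module.End.mul_eq_comp, ← Matrix.toLin'_mul, ← Units.val_mul, ← map_mul, inv_mul_cancel, map_one, Units.val_one,
        Matrix.toLin'_one]
      rfl
    · rw [Module.End.mul_eq_comp, Module.End.mul_eq_comp, ← Matrix.toLin'_mul, ← Matrix.toLin'_mul, ← Units.val_mul,
        ← Units.val_mul, ← map_mul, ← map_mul, ← hj, ← e1, ← Units.val_pow_eq_pow_val, ← map_pow]
  have hyn : ∀ m : ℕ, y ^ m * x * (y ^ m)⁻¹ = x ^ j ^ m := by
    intro m
    induction m with
    | zero => simp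
    | succ m ih =>
      have e : y ^ (m + 1) * x * (y ^ (m + 1))⁻¹ = y * (y ^ m * x * (y ^ m)⁻¹) * y⁻¹ := by
        rw [pow_succ']
        group
      rw [e, ih, ← conj_pow, ← hj, ← pow_mul, pow_succ']
  have h1 : x * y ^ n = y ^ n * x := by
    have h2 := hyn n
    rw [hpow, mul_inv_eq_iff_eq_mul] at h2
    exact h2.symm
  have h2 : x * y = y * x := by
    have h3 : n.Coprime (orderOf y) := by
      have h4 : orderOf y ∣ Nat.card (normalizer ((R : Subgroup G) : Set G)) := Subgroup.orderOf_dvd_natCard _ hy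
      exact (Nat.Coprime.coprime_dvd_left h4 hcop).symm
    obtain ⟨m, hm⟩ := exists_pow_eq_self_of_coprime h3
    have h4 : Commute x (y ^ n) := h1
    have h5 := h4.pow_right m
    rw [hm] at h5
    exact h5
  rw [mem_centralizer_iff]
  intro z hz
  exact hCc z y (hxc z hz) h2

/-- Burnside's transfer theorem in a simple group -/
theorem simple_false {L : Type*} [Group L] [Finite L] [IsSimpleGroup L] (hns : ¬ Group.IsSolvable L) {r : ℕ}
    [hr : Fact r.Prime] (R : Sylow r L) (hd : r ∣ Nat.card L)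
    (h : normalizer ((R : Subgroup L) : Set L) ≤ centralizer ((R : Subgroup L) : Set L)) : False := by
  have hc := MonoidHom.ker_transferSylow_isComplement' R h
  have hcard := hc.card_mul_card
  rcases (MonoidHom.normal_ker (MonoidHom.transferSylow R h)).eq_bot_or_eq_top with h1 | h1
  · rw [h1, Subgroup.card_bot, one_mul] at hcard
    apply hns
    have h2 : IsPGroup r L := by
      obtain ⟨m, hm⟩ := (IsPGroup.iff_card (p := r)).1 R.2
      exact IsPGroup.of_card (hcard.symm.trans hm)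
    have h3 : Group.IsNilpotent L := h2.isNilpotent
    infer_instance
  · rw [h1, Subgroup.card_top] at hcard
    have h2 : Nat.card R = 1 := by
      have h3 : Nat.card L * Nat.card (R : Subgroup L) = Nat.card L * 1 := by rw [hcard, mul_one]
      exact Nat.eq_of_mul_eq_mul_left Nat.card_pos h3
    have h4 := R.dvd_card_of_dvd_card hd
    rw [h2] at h4
    exact hr.out.one_lt.ne' (Nat.dvd_one.1 h4)

end group

end Cfsg.Agent.H288.Gal
end

-- part: H288/BnSp
section
/-!
# The index trick: `PSp 4 q`, `q ≥ 4` even (helper288, S5907)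
-/

set_option autoImplicit false
set_option linter.unusedSectionVars false

namespace Cfsg.Agent.H288.BnSp

open Subgroup Cfsg.Agent.H339.MaxCl Cfsg.Agent.H288.BnHall Cfsg.Agent.H163.PG Cfsg.Agent.H288.BnNum

theorem exists_pow {F : Type*} [Field F] [Fintype F] {p : ℕ} [Fact p.Prime] [CharP F p] :
    ∃ f, 1 ≤ f ∧ Fintype.card F = p ^ f := by
  obtain ⟨n, -, hn⟩ := FiniteField.card F p
  exact ⟨n, n.pos, hn⟩

section sp

variable {F : Type*} [Field F] [Fintype F]

/-- the embedding in `GL 4` -/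
noncomputable def rho (F : Type*) [Field F] : Matrix.symplecticGroup (Fin 2) F →* Matrix.GeneralLinearGroup (Fin 4) F :=
  (Units.map (Matrix.reindexAlgEquiv F F (finSumFinEquiv (m := 2) (n := 2))).toMonoidHom).comp
    (MonoidHom.toHomUnits (Submonoid.subtype (Matrix.symplecticGroup (Fin 2) F)))

theorem rho_injective : Function.Injective (rho F) := by
  intro a b hab
  have h1 := congrArg Units.val hab
  apply Subtype.ext
  exact (Matrix.reindexAlgEquiv F F (finSumFinEquiv (m := 2) (n := 2))).injective h1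

theorem noHall_Sp4 [CharP F 2] (hF : 4 ≤ Fintype.card F) [IsSimpleGroup (Matrix.symplecticGroup (Fin 2) F)]
    (hns : ¬ Group.IsSolvable (Matrix.symplecticGroup (Fin 2) F)) : NoHall 2 (Matrix.symplecticGroup (Fin 2) F) := by
  intro H hH
  have hp2 : Fact (Nat.Prime 2) := ⟨Nat.prime_two⟩
  obtain ⟨k, hk0, hk⟩ := hH.1
  obtain ⟨f, hf, hqf⟩ := exists_pow (F := F) (p := 2)
  have hf2 : 2 ≤ f := by
    by_contra h
    have : f = 1 := by omega
    subst this
    omega
  have hc := S0245.result (F := F) hqf 2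
  simp only [Finset.prod_range_succ, Finset.prod_range_zero] at hc
  norm_num only [_root_.one_mul] at hc
  obtain ⟨r, hr⟩ := Ppd.exists (p := 2) (n := f * 4) le_rfl (by omega) (by omega)
  have hrK : r ∣ Nat.card (Matrix.symplecticGroup (Fin 2) F) := by
    rw [hc]
    refine Dvd.dvd.mul_left (Dvd.dvd.mul_left ?_ _) _
    rw [← pow_mul]
    exact (hr.dvd_iff one_le_two _).2 dvd_rfl
  have h4 := Hall.dvd Nat.prime_two hH hk hr (by omega) hrK
  have hle : k ≤ f * 4 := by
    refine Hall.le (m := ((2 ^ f) ^ 2 - 1) * ((2 ^ f) ^ 4 - 1)) Nat.prime_two hk (g := 1) ?_ ?_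
    · rw [one_mul, hc]
      ring
    · rw [Nat.prime_two.dvd_mul, ← pow_mul, ← pow_mul]
      push Not
      exact ⟨not_dvd_sub Nat.prime_two (by omega), not_dvd_sub Nat.prime_two (by omega)⟩
  have hk4 : k = f * 4 := le_antisymm hle (Nat.le_of_dvd hk0 h4)
  -- `H` has odd order
  have hodd : ¬ 2 ∣ Nat.card H := by
    have h1 := H.card_mul_index
    rw [hk, hc, hk4] at h1
    have h2 : Nat.card H * 2 ^ (f * 4) = (((2 ^ f) ^ 2 - 1) * ((2 ^ f) ^ 4 - 1)) * 2 ^ (f * 4) := by
      rw [h1]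
      ring
    rw [Nat.eq_of_mul_eq_mul_right (by positivity) h2, Nat.prime_two.dvd_mul, ← pow_mul, ← pow_mul]
    push Not
    exact ⟨not_dvd_sub Nat.prime_two (by omega), not_dvd_sub Nat.prime_two (by omega)⟩
  have := Fact.mk hr.prime
  obtain ⟨R, hR⟩ := hH.2 r (hr.ne (by omega)) hrK
  have hcop : (Nat.card (normalizer ((R : Subgroup (Matrix.symplecticGroup (Fin 2) F)) : Set (Matrix.symplecticGroup (Fin 2) F)))).Coprime 4 := by
    have h1 : ¬ 2 ∣ Nat.card (normalizer ((R : Subgroup (Matrix.symplecticGroup (Fin 2) F)) : Set (Matrix.symplecticGroup (Fin 2) F))) :=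
      fun h => hodd (h.trans (Subgroup.card_dvd_of_le hR))
    have h2 := ((Nat.Prime.coprime_iff_not_dvd Nat.prime_two).2 h1).symm
    exact h2.pow_right 2
  refine Gal.simple_false hns R hrK ?_
  exact Gal.normalizer_le_centralizer (p := 2) hqf (by norm_num) hr.prime (hr.ne (by omega))
    (hr.orderOf_pow (by omega)) (rho F) rho_injective R hrK hcop

universe u v

/-- the row `PSp 4 q`, `q` even -/
theorem supp_PSp4_even {F : Type v} [Field F] [Fintype F] [CharP F 2] (hF : 4 ≤ Fintype.card F)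
    [IsSimpleGroup (Cfsg.PSp 2 F)] (hns : ¬ Group.IsSolvable (Cfsg.PSp 2 F)) : Supp.{u} 3 (Cfsg.PSp 2 F) := by
  have : Fact (Nat.Prime 2) := ⟨Nat.prime_two⟩
  have h := Cfsg.Agent.Omega.ML.Ex.Typ.typ_PSp (F := F) (m := 2) (by norm_num) (p := 2)
  have hc : Subgroup.center (Matrix.symplecticGroup (Fin 2) F) = ⊥ := by
    rw [← Subgroup.card_eq_one, S0246.result rfl 2 (by norm_num)]
    obtain ⟨f, hf, hqf⟩ := exists_pow (F := F) (p := 2)
    rw [hqf, Nat.gcd_comm]
    exact (Nat.coprime_comm.1 ((Nat.Prime.coprime_iff_not_dvd Nat.prime_two).2 (not_dvd_sub Nat.prime_two hf)))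
  let e : Cfsg.PSp 2 F ≃* Matrix.symplecticGroup (Fin 2) F :=
    (QuotientGroup.quotientMulEquivOfEq hc).trans QuotientGroup.quotientBot
  have : IsSimpleGroup (Matrix.symplecticGroup (Fin 2) F) := e.symm.isSimpleGroup
  refine supp_of_noHall hns h (by norm_num) (NoHall.of_equiv e (noHall_Sp4 hF ?_))
  intro hs
  exact hns (Group.isSolvable_of_isSolvable_injective (f := e.toMonoidHom) e.injective)

end sp

end Cfsg.Agent.H288.BnSp
end

-- part: H288/BnMer
section
/-!
# `SL 3 p`, `p = 2 ^ m - 1 ≥ 7` prime, has no subgroup of index `p ^ 3` and order prime to `p` (helper288, S5907)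
-/

set_option autoImplicit false
set_option linter.unusedSectionVars false

namespace Cfsg.Agent.H288.BnMer

open Matrix
open scoped commutatorElement

variable {F : Type*} [Field F]

local notation "SL3" => Matrix.SpecialLinearGroup (Fin 3) F
local notation "SL2" => Matrix.SpecialLinearGroup (Fin 2) F

/-- block matrices -/
def im (A : Matrix (Fin 2) (Fin 2) F) (d a b : F) : Matrix (Fin 3) (Fin 3) F :=
  !![A 0 0, A 0 1, a; A 1 0, A 1 1, b; 0, 0, d]

theorem im_mul (A B : Matrix (Fin 2) (Fin 2) F) (d a b d' a' b' : F) :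
    im A d a b * im B d' a' b' =
      im (A * B) (d * d') (A 0 0 * a' + A 0 1 * b' + a * d') (A 1 0 * a' + A 1 1 * b' + b * d') := by
  ext i j
  (revert i j; simp only [im, Matrix.mul_apply, Fin.sum_univ_succ, add_assoc, _root_.Fin.forall_fin_succ, Fin.isValue, _root_.Matrix.of_apply, _root_.Matrix.cons_val', _root_.Matrix.cons_val_fin_one, _root_.Matrix.cons_val_zero, _root_.Matrix.cons_val_succ, _root_.Finset.univ_unique, _root_.Fin.default_eq_zero, _root_.Finset.sum_const, _root_.Finset.card_singleton, _root_.one_smul, _root_.Finset.sum_singleton, _root_.Fin.succ_zero_eq_one, _root_.MulZeroClass.mul_zero, _root_.add_zero, _root_.forall_const, _root_.and_self, _root_.MulZeroClass.zero_mul, _root_.zero_add, _root_.implies_true])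

theorem im_one : im (1 : Matrix (Fin 2) (Fin 2) F) 1 0 0 = 1 := by
  ext i j
  (revert i j; simp only [im, _root_.Fin.forall_fin_succ, _root_.Matrix.one_apply_eq, Fin.isValue, _root_.ne_eq, _root_.zero_ne_one, _root_.not_false_eq_true, _root_.Matrix.one_apply_ne, _root_.one_ne_zero, _root_.Matrix.of_apply, _root_.Matrix.cons_val', _root_.Matrix.cons_val_fin_one, _root_.Matrix.cons_val_zero, _root_.Matrix.cons_val_succ, _root_.IsEmpty.forall_iff, _root_.and_true, Nat.reduceAdd, _root_.Fin.succ_zero_eq_one, _root_.Fin.succ_one_eq_two, Fin.reduceEq, _root_.and_self, _root_.Fin.succ_ne_zero, _root_.true_and])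

theorem det_im (A : Matrix (Fin 2) (Fin 2) F) (d a b : F) : (im A d a b).det = A.det * d := by
  rw [Matrix.det_fin_three, Matrix.det_fin_two]
  simp [im]
  ring

/-- the embedding `GL 2 → SL 3` -/
noncomputable def iota : GL (Fin 2) F →* SL3 where
  toFun A := ⟨im A.1 (A.1.det)⁻¹ 0 0, by
    rw [det_im, mul_inv_cancel₀ (Matrix.isUnits_det_units A).ne_zero]⟩
  map_one' := by
    apply Subtype.ext
    change im (1 : Matrix (Fin 2) (Fin 2) F) ((1 : Matrix (Fin 2) (Fin 2) F).det)⁻¹ 0 0 = 1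
    rw [Matrix.det_one, inv_one, im_one]
  map_mul' A B := by
    apply Subtype.ext
    change im (A.1 * B.1) ((A.1 * B.1).det)⁻¹ 0 0 = im A.1 (A.1.det)⁻¹ 0 0 * im B.1 (B.1.det)⁻¹ 0 0
    rw [im_mul, Matrix.det_mul, _root_.mul_inv_rev, mul_comm (B.1.det)⁻¹]
    simp

/-- the unipotent radical -/
def vv (a b : F) : SL3 := ⟨im 1 1 a b, by rw [det_im, Matrix.det_one, one_mul]⟩

theorem vv_mul (a b c d : F) : vv a b * vv c d = vv (a + c) (b + d) := by
  apply Subtype.ext
  change im 1 1 a b * im 1 1 c d = im 1 1 (a + c) (b + d)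
  rw [im_mul]
  simp [add_comm]

theorem vv_zero : vv (0 : F) 0 = 1 := Subtype.ext im_one

theorem vv_inv (a b : F) : (vv a b)⁻¹ = vv (-a) (-b) := by
  rw [inv_eq_iff_mul_eq_one, vv_mul, add_neg_cancel, add_neg_cancel, vv_zero]

theorem vv_injective {a b c d : F} (h : vv a b = vv c d) : a = c ∧ b = d := by
  have h1 := congrArg Subtype.val h
  have h2 := congrFun (congrFun h1 0) 2
  have h3 := congrFun (congrFun h1 1) 2
  exact ⟨h2, h3⟩

theorem iota_vv (A : GL (Fin 2) F) (a b : F) : ∃ c d, iota A * vv a b = vv c d * iota A := by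
  have h : A.1.det ≠ 0 := (Matrix.isUnits_det_units A).ne_zero
  refine ⟨(A.1 0 0 * a + A.1 0 1 * b) * A.1.det, (A.1 1 0 * a + A.1 1 1 * b) * A.1.det, ?_⟩
  apply Subtype.ext
  change im A.1 (A.1.det)⁻¹ 0 0 * im 1 1 a b = im 1 1 _ _ * im A.1 (A.1.det)⁻¹ 0 0
  rw [im_mul, im_mul, mul_one, mul_one, one_mul, one_mul]
  congr 1 <;> simp only [mul_assoc, mul_inv_cancel₀ h, _root_.Fin.isValue, _root_.mul_one, _root_.add_zero, _root_.Matrix.one_apply_eq, _root_.MulZeroClass.mul_zero, _root_.ne_eq, _root_.zero_ne_one, _root_.not_false_eq_true, _root_.Matrix.one_apply_ne, _root_.mul_assoc, _root_.zero_add, _root_.one_ne_zero]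

/-- unipotent matrices -/
theorem im_unip (A : Matrix (Fin 2) (Fin 2) F) (h10 : A 1 0 = 0) (h00 : A 0 0 = 1) (h11 : A 1 1 = 1) (a b : F) :
    (im A 1 a b - 1) ^ 3 = 0 := by
  rw [pow_succ, pow_two]
  ext i j
  fin_cases i <;> fin_cases j <;> simp [im, Matrix.mul_apply, Fin.sum_univ_three, h10, h00, h11]

theorem vv_unip (a b : F) : ((vv a b).1 - 1) ^ 3 = 0 := by
  change (im 1 1 a b - 1) ^ 3 = 0
  exact im_unip 1 (by simp) (by simp) (by simp) a b

section main

variable [Fintype F] {p m : ℕ}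

/-- elements of `H` conjugates of order prime to `p` -/
theorem eq_one_of_unip {H : Subgroup SL3} (hp : p.Prime) (hF : Fintype.card F = p) (hp3 : 3 ≤ p)
    (hH : ¬ p ∣ Nat.card H) {z : SL3} (hz : (z.1 - 1) ^ 3 = 0) {g : SL3} (hg : g⁻¹ * z * g ∈ H) : z = 1 := by
  have : Fact p.Prime := ⟨hp⟩
  have hchar : CharP F p := by
    obtain ⟨r, hr⟩ := CharP.exists F
    obtain ⟨n, hrp, hn⟩ := FiniteField.card F r
    rw [hF] at hn
    have h1 := (Nat.prime_dvd_prime_iff_eq hrp hp).1 (hn ▸ dvd_pow_self r n.ne_zero)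
    exact h1 ▸ hr
  have h1 : z ^ p = 1 := by
    apply Subtype.ext
    have h2 : (z.1 - 1) ^ p = 0 := by
      obtain ⟨k, rfl⟩ := Nat.exists_eq_add_of_le hp3
      rw [pow_add, hz, zero_mul]
    have h3 : (z.1 - 1) ^ p = z.1 ^ p - 1 ^ p := sub_pow_char_of_commute p (Commute.one_right _)
    rw [h2, one_pow] at h3
    have h4 : z.1 ^ p = 1 := (sub_eq_zero.1 h3.symm)
    have h5 : ∀ k : ℕ, (z ^ k).1 = z.1 ^ k := fun k => by
      induction k with
      | zero => rw [pow_zero, pow_zero]; rfl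
      | succ k ih => rw [pow_succ, pow_succ, ← ih]; rfl
    rw [h5, h4]
    rfl
  have h2 : (g⁻¹ * z * g) ^ p = 1 := by
    have e : (g⁻¹ * z * g) = g⁻¹ * z * (g⁻¹)⁻¹ := by group
    rw [e, conj_pow, h1]
    group
  have h3 : orderOf (g⁻¹ * z * g) ∣ p := orderOf_dvd_of_pow_eq_one h2
  rcases (Nat.dvd_prime hp).1 h3 with h4 | h4
  · have h5 := orderOf_eq_one_iff.1 h4
    have e : z = g * (g⁻¹ * z * g) * g⁻¹ := by group
    rw [e, h5]
    group
  · exfalso
    apply hH
    rw [← h4]
    exact Subgroup.orderOf_dvd_natCard H hg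

/-- the relation: same `V`-orbit -/
def Rel (H : Subgroup SL3) (x y : SL3 ⧸ H) : Prop := ∃ a b : F, y = vv a b • x

theorem Rel.refl {H : Subgroup SL3} (x : SL3 ⧸ H) : Rel H x x := ⟨0, 0, by rw [vv_zero, one_smul]⟩

theorem Rel.symm {H : Subgroup SL3} {x y : SL3 ⧸ H} (h : Rel H x y) : Rel H y x := by
  obtain ⟨a, b, rfl⟩ := h
  exact ⟨-a, -b, by rw [← vv_inv, inv_smul_smul]⟩

theorem Rel.trans {H : Subgroup SL3} {x y z : SL3 ⧸ H} (h : Rel H x y) (h' : Rel H y z) : Rel H x z := by
  obtain ⟨a, b, rfl⟩ := h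
  obtain ⟨c, d, rfl⟩ := h'
  exact ⟨c + a, d + b, by rw [← vv_mul, mul_smul]⟩

theorem Rel.iota {H : Subgroup SL3} {x y : SL3 ⧸ H} (h : Rel H x y) (A : GL (Fin 2) F) :
    (Rel H (iota A • x) (iota A • y) :) := by
  obtain ⟨a, b, rfl⟩ := h
  obtain ⟨c, d, e⟩ := iota_vv A a b
  exact ⟨c, d, by rw [← mul_smul, e, mul_smul]⟩

/-- the kernel of the action on the `V`-orbits -/
def KK (H : Subgroup SL3) : Subgroup (GL (Fin 2) F) where
  carrier := {A | ∀ x : SL3 ⧸ H, (Rel H x (iota A • x) :)}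
  one_mem' := fun x => by rw [map_one, one_smul]; exact Rel.refl x
  mul_mem' := fun {A B} hA hB x => by
    rw [map_mul, mul_smul]
    exact (hB x).trans (hA _)
  inv_mem' := fun {A} hA x => by
    have h1 := hA (BnMer.iota A⁻¹ • x)
    rw [← mul_smul, ← map_mul, mul_inv_cancel, map_one, one_smul] at h1
    exact h1.symm

theorem KK_normal (H : Subgroup SL3) : (KK H).Normal := by
  refine ⟨fun A hA B x => ?_⟩
  have h1 := ((hA (BnMer.iota B⁻¹ • x)).iota B :)
  rw [← mul_smul, ← mul_smul, ← mul_smul, ← map_mul, ← map_mul, ← map_mul, mul_inv_cancel, map_one, one_smul] at h1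
  exact h1

/-- pigeonhole: `p + 1` points, two in the same orbit -/
theorem exists_rel {H : Subgroup SL3} (hp : p.Prime) (hF : Fintype.card F = p) (hp3 : 3 ≤ p)
    (hH : ¬ p ∣ Nat.card H) (hidx : H.index = p ^ 3) (f : Fin (p + 1) → SL3 ⧸ H) :
    ∃ i j, i < j ∧ Rel H (f i) (f j) := by
  classical
  by_contra hcon
  push Not at hcon
  let φ : Fin (p + 1) × F × F → SL3 ⧸ H := fun t => vv t.2.1 t.2.2 • f t.1
  have hφ : Function.Injective φ := by
    rintro ⟨i, a, b⟩ ⟨j, c, d⟩ h
    have h' : vv a b • f i = vv c d • f j := h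
    have hij : i = j := by
      by_contra hne
      have h1 : Rel H (f i) (f j) := by
        refine ⟨-c + a, -d + b, ?_⟩
        rw [← vv_mul, mul_smul, h', ← vv_inv, inv_smul_smul]
      rcases lt_or_gt_of_ne hne with h2 | h2
      · exact hcon i j h2 h1
      · exact hcon j i h2 h1.symm
    subst hij
    obtain ⟨g, hg⟩ := QuotientGroup.mk_surjective (f i)
    have h2 : (vv (-c + a) (-d + b)) • f i = f i := by
      rw [← vv_mul, mul_smul, h', ← vv_inv, inv_smul_smul]
    rw [← hg] at h2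
    have h3 : ((vv (-c + a) (-d + b) * g : SL3) : SL3 ⧸ H) = (g : SL3 ⧸ H) := h2
    have h4 : g⁻¹ * vv (-c + a) (-d + b) * g ∈ H := by
      rw [eq_comm, QuotientGroup.eq] at h3
      rwa [mul_assoc]
    have h5 := eq_one_of_unip hp hF hp3 hH (vv_unip _ _) h4
    rw [← vv_zero] at h5
    obtain ⟨h6, h7⟩ := vv_injective h5
    have h8 : a = c := by linear_combination h6
    have h9 : b = d := by linear_combination h7
    rw [h8, h9]
  have : Finite (SL3 ⧸ H) := inferInstance
  have hle := Nat.card_le_card_of_injective φ hφ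
  rw [Nat.card_prod, Nat.card_prod, Nat.card_eq_fintype_card (α := F), hF, Nat.card_eq_fintype_card (α := Fin (p + 1)),
    Fintype.card_fin] at hle
  have h1 : Nat.card (SL3 ⧸ H) = p ^ 3 := hidx
  rw [h1] at hle
  nlinarith only [hp3, hle]

/-- an element of order `2 ^ (m + 1)` acts with `2 ^ (m - 1)`-th power trivial on the orbits -/
theorem pow_mem_KK {H : Subgroup SL3} (hp : p.Prime) (hF : Fintype.card F = p) (hp3 : 3 ≤ p)
    (hH : ¬ p ∣ Nat.card H) (hidx : H.index = p ^ 3) (hm : p + 1 = 2 ^ m) {g : GL (Fin 2) F}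
    (hg : orderOf g = 2 ^ (m + 1)) : g ^ 2 ^ (m - 1) ∈ KK H := by
  intro x
  obtain ⟨i, j, hij, hR⟩ := exists_rel hp hF hp3 hH hidx (fun i => iota (g ^ (i : ℕ)) • x)
  -- the subgroup of exponents
  let E : AddSubgroup ℤ :=
    { carrier := {n | ∀ y : SL3 ⧸ H, Rel H x y → (Rel H x (iota (g ^ n) • y) :)}
      zero_mem' := fun y hy => by rwa [_root_.zpow_zero, map_one, one_smul]
      add_mem' := fun {a b} ha hb y hy => by
        rw [_root_.zpow_add, map_mul, mul_smul]
        exact ha _ (hb y hy)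
      neg_mem' := fun {a} ha y hy => by
        have h1 := (ha x (Rel.refl x)).symm.trans hy
        have h2 := h1.iota (g ^ (-a))
        rw [← mul_smul, ← map_mul, ← _root_.zpow_add, neg_add_cancel, _root_.zpow_zero, map_one, one_smul] at h2
        exact h2 }
  have hlt : (i : ℕ) < (j : ℕ) := hij
  have h1 : ((j : ℕ) - (i : ℕ) : ℤ) ∈ E := by
    intro y hy
    have h2 := hR.iota (g ^ (-((i : ℕ) : ℤ)))
    rw [← mul_smul, ← mul_smul, ← map_mul, ← map_mul, ← _root_.zpow_natCast, ← _root_.zpow_natCast, ← _root_.zpow_add, ← _root_.zpow_add,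
      neg_add_cancel, _root_.zpow_zero, map_one, one_smul, neg_add_eq_sub] at h2
    exact h2.trans (hy.iota _)
  have h2 : ((2 ^ (m + 1) : ℕ) : ℤ) ∈ E := by
    intro y hy
    rwa [_root_.zpow_natCast, ← hg, pow_orderOf_eq_one, map_one, one_smul]
  have h3 : ((Nat.gcd (j - i) (2 ^ (m + 1)) : ℕ) : ℤ) ∈ E := by
    rw [Nat.gcd_eq_gcd_ab]
    refine E.add_mem ?_ ?_
    · rw [mul_comm, ← smul_eq_mul]
      apply E.zsmul_mem
      rwa [Nat.cast_sub hlt.le]
    · rw [mul_comm, ← smul_eq_mul]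
      exact E.zsmul_mem h2 _
  have h4 : Nat.gcd (j - i) (2 ^ (m + 1)) ∣ 2 ^ (m - 1) := by
    obtain ⟨a, ha, ha2⟩ := (Nat.dvd_prime_pow Nat.prime_two).1 (Nat.gcd_dvd_right ((j : ℕ) - i) (2 ^ (m + 1)))
    rw [ha2]
    apply pow_dvd_pow
    have h5 : 2 ^ a ≤ (j : ℕ) - i := by
      rw [← ha2]
      exact Nat.gcd_le_left _ (by omega)
    have h6 : 2 ^ a < 2 ^ m := by
      have := j.2
      omega
    have h7 := (Nat.pow_lt_pow_iff_right (by norm_num : 1 < 2)).1 h6
    omega
  obtain ⟨c, hc⟩ := h4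
  have h5 : ((2 ^ (m - 1) : ℕ) : ℤ) ∈ E := by
    rw [hc, mul_comm, Nat.cast_mul, ← smul_eq_mul]
    exact E.zsmul_mem h3 _
  have h6 := h5 x (Rel.refl x)
  rwa [_root_.zpow_natCast] at h6

theorem noIndex {H : Subgroup SL3} (hp : p.Prime) (hF : Fintype.card F = p)
    (hH : ¬ p ∣ Nat.card H) (hidx : H.index = p ^ 3) (hm : p + 1 = 2 ^ m) (hm3 : 3 ≤ m) : False := by
  have hp7 : 7 ≤ p := by
    have : 2 ^ 3 ≤ 2 ^ m := Nat.pow_le_pow_right (by norm_num) hm3
    omega
  -- an element of order `2 ^ (m + 1)`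
  obtain ⟨K, _, _, hK, φ, hφ⟩ := Cfsg.Agent.LieExceptional.CyclicSylow.exists_singer F 2
  obtain ⟨u, hu⟩ := IsCyclic.exists_generator (α := Kˣ)
  have hou : orderOf u = p ^ 2 - 1 := by
    rw [orderOf_eq_card_of_forall_mem_zpowers hu, Nat.card_units, hK, Nat.card_eq_fintype_card, hF]
  have hfac : p ^ 2 - 1 = (p - 1) * (p + 1) := by
    have := Nat.sq_sub_sq p 1
    rw [one_pow] at this
    rw [this, mul_comm]
  obtain ⟨c, hc⟩ : ∃ c, p - 1 = 2 * c ∧ Odd c := by
    refine ⟨2 ^ (m - 1) - 1, ?_, ?_⟩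
    · obtain ⟨k, rfl⟩ : ∃ k, m = k + 1 := ⟨m - 1, by omega⟩
      rw [Nat.add_sub_cancel, Nat.mul_sub, ← pow_succ']
      omega
    · apply Nat.Even.sub_odd (Nat.one_le_two_pow) _ odd_one
      exact (even_two).pow_of_ne_zero (by omega)
  have hdvd : 2 ^ (m + 1) ∣ orderOf u := by
    rw [hou, hfac, hm, hc.1, pow_succ]
    exact ⟨c, by ring⟩
  have hg0 : orderOf (u ^ (orderOf u / 2 ^ (m + 1))) = 2 ^ (m + 1) :=
    orderOf_pow_orderOf_div (orderOf_pos u).ne' hdvd
  obtain ⟨g, hg⟩ : ∃ g : GL (Fin 2) F, orderOf g = 2 ^ (m + 1) :=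
    ⟨φ (u ^ (orderOf u / 2 ^ (m + 1))), by rw [orderOf_injective φ hφ, hg0]⟩
  have hyK := pow_mem_KK hp hF (by omega) hH hidx hm hg
  set y : GL (Fin 2) F := g ^ 2 ^ (m - 1) with hy
  have hy2 : y ^ 2 ≠ 1 := by
    rw [hy, ← pow_mul, ← pow_succ, Nat.sub_add_cancel (by omega)]
    intro h
    have h1 := orderOf_dvd_of_pow_eq_one h
    rw [hg] at h1
    have := Nat.le_of_dvd (by positivity) h1
    rw [pow_succ] at this
    have : 0 < 2 ^ m := by positivity
    omega
  -- determinant one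
  have hdet : y.1.det = 1 := by
    let δ : Fˣ := Matrix.GeneralLinearGroup.det g
    have h1 : δ ^ 2 ^ (m + 1) = 1 := by rw [← map_pow, ← hg, pow_orderOf_eq_one, map_one]
    have h2 : δ ^ (p - 1) = 1 := by
      have := pow_card_eq_one' (x := δ)
      rwa [Nat.card_units, Nat.card_eq_fintype_card, hF] at this
    have h3 : δ ^ 2 = 1 := by
      rw [← orderOf_dvd_iff_pow_eq_one] at h1 h2 ⊢
      rw [hc.1] at h2
      obtain ⟨a, -, ha⟩ := (Nat.dvd_prime_pow Nat.prime_two).1 h1
      rw [ha] at h2 ⊢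
      have h4 : Nat.Coprime (2 ^ (a - 1)) c := Nat.Coprime.pow_left _ ((Nat.coprime_two_left).2 hc.2)
      rcases Nat.eq_zero_or_pos a with rfl | ha0
      · simp
      · obtain ⟨b, rfl⟩ : ∃ b, a = b + 1 := ⟨a - 1, by omega⟩
        rw [Nat.add_sub_cancel] at h4
        rw [pow_succ, mul_comm] at h2 ⊢
        have h5 := (Nat.mul_dvd_mul_iff_left (by norm_num : 0 < 2)).1 h2
        have h6 : 2 ^ b ∣ 1 := h4 ▸ Nat.dvd_gcd dvd_rfl h5
        rw [Nat.dvd_one.1 h6, mul_one]
    have h4 : Matrix.GeneralLinearGroup.det y = 1 := by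
      rw [hy, map_pow]
      change δ ^ _ = 1
      obtain ⟨k, rfl⟩ : ∃ k, m = k + 2 := ⟨m - 2, by omega⟩
      have e : 2 ^ (k + 2 - 1) = 2 * 2 ^ k := by
        rw [show k + 2 - 1 = k + 1 by omega, pow_succ, mul_comm]
      rw [e, pow_mul, h3, one_pow]
    exact congrArg Units.val h4
  -- the normal subgroup of `SL 2`
  let j : SL2 →* GL (Fin 2) F := Matrix.SpecialLinearGroup.toGL
  let N : Subgroup SL2 := (KK H).comap j
  have hKn : (KK H).Normal := KK_normal H
  have hNn : N.Normal := Subgroup.Normal.comap hKn j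
  let y' : SL2 := ⟨y.1, hdet⟩
  have hjy : j y' = y := Units.ext rfl
  have hy'N : y' ∈ N := by
    change j y' ∈ KK H
    rw [hjy]
    exact hyK
  have hy'c : y' ∉ Subgroup.center SL2 := by
    intro h
    obtain ⟨s, hs, hs2⟩ := Matrix.SpecialLinearGroup.mem_center_iff.1 h
    apply hy2
    apply Units.ext
    rw [Units.val_pow_eq_pow_val, Units.val_one]
    change y'.1 ^ 2 = 1
    rw [← hs2, ← map_pow, ← Fintype.card_fin 2]
    rw [hs, map_one]
  have h4F : 3 < Fintype.card F := by omega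
  have hsimp := Cfsg.Agent.TwoFusion.SLTwoFacts.isSimpleGroup_psl h4F
  have hperf := Cfsg.Agent.TwoFusion.SLTwoFacts.commutator_eq_top h4F
  have hNt : N = ⊤ := by
    let π : SL2 →* Matrix.ProjectiveSpecialLinearGroup (Fin 2) F := QuotientGroup.mk' _
    have hπ : Function.Surjective π := QuotientGroup.mk'_surjective _
    have h1 : (N.map π).Normal := hNn.map π hπ
    rcases h1.eq_bot_or_eq_top with h2 | h2
    · exfalso
      apply hy'c
      have h3 : π y' ∈ N.map π := ⟨y', hy'N, rfl⟩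
      rw [h2, Subgroup.mem_bot] at h3
      exact (QuotientGroup.eq_one_iff y').1 h3
    · have h3 : N ⊔ Subgroup.center SL2 = ⊤ := by
        rw [eq_top_iff]
        intro a _
        have h4 : π a ∈ N.map π := by rw [h2]; exact Subgroup.mem_top _
        obtain ⟨b, hb, hab⟩ := h4
        have h5 : b⁻¹ * a ∈ Subgroup.center SL2 := QuotientGroup.eq.1 hab
        have e : a = b * (b⁻¹ * a) := by group
        rw [e]
        exact mul_mem (Subgroup.mem_sup_left hb) (Subgroup.mem_sup_right h5)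
      rw [eq_top_iff, ← hperf, commutator_def, ← h3]
      rw [Subgroup.commutator_le]
      intro a ha b hb
      obtain ⟨a1, ha1, z1, hz1, rfl⟩ := Subgroup.mem_sup_of_normal_left.1 ha
      obtain ⟨b1, hb1, z2, hz2, rfl⟩ := Subgroup.mem_sup_of_normal_left.1 hb
      have e : ⁅a1 * z1, b1 * z2⁆ = ⁅a1, b1⁆ := by
        have c1 : ∀ g, z1 * g = g * z1 := fun g => (Subgroup.mem_center_iff.1 hz1 g).symm
        have c2 : ∀ g, z2 * g = g * z2 := fun g => (Subgroup.mem_center_iff.1 hz2 g).symm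
        rw [commutatorElement_def, commutatorElement_def]
        calc a1 * z1 * (b1 * z2) * (a1 * z1)⁻¹ * (b1 * z2)⁻¹
            = a1 * (z1 * (b1 * z2)) * (z1⁻¹ * a1⁻¹) * (z2⁻¹ * b1⁻¹) := by group
          _ = a1 * (b1 * (z2 * (a1⁻¹ * z2⁻¹))) * b1⁻¹ := by rw [c1]; group
          _ = a1 * b1 * a1⁻¹ * b1⁻¹ := by rw [c2]; group
      rw [e]
      rw [commutatorElement_def]
      exact mul_mem (mul_mem (mul_mem ha1 hb1) (inv_mem ha1)) (inv_mem hb1)
  -- a transvection
  let t : SL2 := ⟨!![1, 1; 0, 1], by rw [Matrix.det_fin_two]; simp⟩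
  have htN : j t ∈ KK H := by
    have : t ∈ N := by rw [hNt]; exact Subgroup.mem_top t
    exact this
  obtain ⟨a, b, hab⟩ := htN ((1 : SL3) : SL3 ⧸ H)
  have h1 : ((iota (j t) * 1 : SL3) : SL3 ⧸ H) = ((vv a b * 1 : SL3) : SL3 ⧸ H) := hab
  rw [mul_one, mul_one, eq_comm, QuotientGroup.eq, vv_inv] at h1
  have hz : ((vv (-a) (-b) * iota (j t)).1 - 1) ^ 3 = 0 := by
    have e : (vv (-a) (-b) * iota (j t)).1 = im (1 : Matrix (Fin 2) (Fin 2) F) 1 (-a) (-b) *
        im t.1 (t.1.det)⁻¹ 0 0 := rfl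
    rw [e, im_mul, t.2, inv_one, mul_one, one_mul]
    exact im_unip _ (by simp [t]) (by simp [t]) (by simp [t]) _ _
  have h2 := eq_one_of_unip (g := 1) hp hF (by omega) hH hz (by
    rw [inv_one, one_mul, mul_one]
    exact h1)
  have h3 := congrFun (congrFun (congrArg Subtype.val h2) 0) 1
  have e : (vv (-a) (-b) * iota (j t)).1 = im (1 : Matrix (Fin 2) (Fin 2) F) 1 (-a) (-b) *
      im t.1 (t.1.det)⁻¹ 0 0 := rfl
  rw [e, im_mul] at h3
  simp [im, t] at h3

end main

end Cfsg.Agent.H288.BnMer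
end

-- part: H288/BnPsl
section
/-!
# The index trick: `PSL 3 q` (helper288, S5907)
-/

set_option autoImplicit false
set_option linter.unusedSectionVars false

namespace Cfsg.Agent.H288.BnPsl

open Subgroup Cfsg.Agent.H339.MaxCl Cfsg.Agent.H288.BnHall Cfsg.Agent.H163.PG Cfsg.Agent.H288.BnNum
  Cfsg.Agent.H288.BnSp

theorem not_dvd_card {p : ℕ} {K : Type*} [Group K] [Finite K] {H : Subgroup K} (hp : p.Prime) {g N m : ℕ}
    (hk : H.index = p ^ N) (hc : g * Nat.card K = p ^ N * m) (hm : ¬ p ∣ m) : ¬ p ∣ Nat.card H := by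
  intro h
  apply hm
  have h1 := H.card_mul_index
  rw [hk] at h1
  rw [← h1] at hc
  have h2 : p ^ N * (g * Nat.card H) = p ^ N * m := by rw [← hc]; ring
  rw [← Nat.eq_of_mul_eq_mul_left (pow_pos hp.pos N) h2]
  exact h.mul_left g

section psl

variable {F : Type*} [Field F] [Fintype F]

local notation "PSL3" => Matrix.ProjectiveSpecialLinearGroup (Fin 3) F
local notation "SL3" => Matrix.SpecialLinearGroup (Fin 3) F

theorem noHall_PSL3 (hns : ¬ Group.IsSolvable PSL3) {p : ℕ} [hp : Fact p.Prime] [CharP F p] : NoHall p PSL3 := by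
  intro H hH
  obtain ⟨k, hk0, hk⟩ := hH.1
  obtain ⟨f, hf, hqf⟩ := exists_pow (F := F) (p := p)
  have hq2 : 2 ≤ Fintype.card F := Fintype.one_lt_card
  have hc := S0243.result (F := F) (q := Fintype.card F) rfl 3 (by norm_num)
  simp only [Fin.prod_univ_three, Fin.val_zero, Fin.val_one, Fin.val_two, pow_zero, pow_one] at hc
  set q := Fintype.card F with hq
  have hc2 : (Nat.gcd 3 (q - 1) * (q - 1)) * Nat.card PSL3 = q ^ 3 * ((q ^ 3 - 1) * (q ^ 2 - 1) * (q - 1)) := by
    rw [mul_assoc, hc]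
    have e1 : q ^ 3 - q = q * (q ^ 2 - 1) := by rw [Nat.mul_sub, mul_one]; congr 1; ring
    have e2 : q ^ 3 - q ^ 2 = q ^ 2 * (q - 1) := by rw [Nat.mul_sub, mul_one]; congr 1
    rw [e1, e2]
    ring
  have hpm : ¬ p ∣ (q ^ 3 - 1) * (q ^ 2 - 1) * (q - 1) := by
    rw [hp.out.dvd_mul, hp.out.dvd_mul, hqf, ← pow_mul, ← pow_mul]
    push Not
    exact ⟨⟨not_dvd_sub hp.out (by omega), not_dvd_sub hp.out (by omega)⟩, not_dvd_sub hp.out hf⟩
  have hc3 : (Nat.gcd 3 (q - 1) * (q - 1)) * Nat.card PSL3 = p ^ (3 * f) * ((q ^ 3 - 1) * (q ^ 2 - 1) * (q - 1)) := by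
    rw [hc2]
    congr 1
    rw [hqf, ← pow_mul, mul_comm f]
  have hle : k ≤ 3 * f := Hall.le hp.out hk hc3 hpm
  -- primes dividing the order
  have hdiv : ∀ r : ℕ, r.Prime → ¬ r ∣ q - 1 → (r ∣ q ^ 3 - 1 ∨ r ∣ q ^ 2 - 1) → r ∣ Nat.card PSL3 := by
    intro r hr h1 h2
    have h3 : r ∣ (Nat.gcd 3 (q - 1) * (q - 1)) * Nat.card PSL3 := by
      rw [hc2]
      apply Dvd.dvd.mul_left
      apply Dvd.dvd.mul_right
      rcases h2 with h2 | h2
      · exact h2.mul_right _
      · exact h2.mul_left _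
    rcases hr.dvd_mul.1 h3 with h4 | h4
    · rcases hr.dvd_mul.1 h4 with h5 | h5
      · exact absurd (h5.trans (Nat.gcd_dvd_right _ _)) h1
      · exact absurd h5 h1
    · exact h4
  by_cases h26 : p = 2 ∧ 3 * f = 6
  · -- `q = 4`
    obtain ⟨h2, h6⟩ := h26
    subst h2
    have hf2 : f = 2 := by omega
    subst hf2
    have hq4 : q = 4 := by rw [hqf]; norm_num
    have h5 : 5 ∣ 2 ^ k - 1 := Hall.modEq hH hk (by norm_num) (by norm_num)
      (hdiv 5 (by norm_num) (by rw [hq4]; norm_num) (Or.inr (by rw [hq4]; norm_num)))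
    have h7 : 7 ∣ 2 ^ k - 1 := Hall.modEq hH hk (by norm_num) (by norm_num)
      (hdiv 7 (by norm_num) (by rw [hq4]; norm_num) (Or.inl (by rw [hq4]; norm_num)))
    interval_cases k <;> omega
  · obtain ⟨r, hr⟩ := Ppd.exists (p := p) (n := 3 * f) hp.out.two_le (by omega) h26
    have hrK : r ∣ Nat.card PSL3 := by
      refine hdiv r hr.prime ?_ (Or.inl ?_)
      · rw [hqf, hr.dvd_iff hp.out.one_lt.le]
        intro h
        have := Nat.le_of_dvd (by omega) h
        omega
      · rw [hqf, ← pow_mul, hr.dvd_iff hp.out.one_lt.le, mul_comm]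
    have h3f := Hall.dvd hp.out hH hk hr (by omega) hrK
    have hk3 : k = 3 * f := le_antisymm hle (Nat.le_of_dvd hk0 h3f)
    -- the second prime
    have hs : ¬ ∃ s, Ppd p (2 * f) s := by
      rintro ⟨s, hs⟩
      have hsK : s ∣ Nat.card PSL3 := by
        refine hdiv s hs.prime ?_ (Or.inr ?_)
        · rw [hqf, hs.dvd_iff hp.out.one_lt.le]
          intro h
          have := Nat.le_of_dvd (by omega) h
          omega
        · rw [hqf, ← pow_mul, hs.dvd_iff hp.out.one_lt.le, mul_comm]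
      have h1 := Hall.dvd hp.out hH hk hs (by omega) hsK
      rw [hk3] at h1
      have h2 := (Nat.mul_dvd_mul_iff_right (by omega : 0 < f)).1 h1
      omega
    by_cases h8 : p = 2 ∧ 2 * f = 6
    · obtain ⟨h2, h6⟩ := h8
      subst h2
      have hf3 : f = 3 := by omega
      subst hf3
      have hq8 : q = 8 := by rw [hqf]; norm_num
      have h3 : 3 ∣ 2 ^ k - 1 := Hall.modEq hH hk (by norm_num) (by norm_num)
        (hdiv 3 (by norm_num) (by rw [hq8]; norm_num) (Or.inr (by rw [hq8]; norm_num)))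
      rw [hk3] at h3
      norm_num at h3
    · have hf1 : f = 1 := by
        by_contra hne
        exact hs (Ppd.exists (p := p) (n := 2 * f) hp.out.two_le (by omega) h8)
      subst hf1
      rw [pow_one] at hqf
      obtain ⟨m, hm⟩ : ∃ m, p + 1 = 2 ^ m := by
        by_contra hne
        exact hs (Ppd.exists_two hp.out.two_le hne)
      have hm2 : 2 ≤ m := by
        have h1 := hp.out.two_le
        rcases m with _ | _ | m
        · simp at hm; omega
        · simp at hm; omega
        · omega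
      rw [mul_one] at hk3 hc3
      rw [hk3] at hk
      have hHp := not_dvd_card hp.out hk hc3 hpm
      rcases Nat.lt_or_ge m 3 with hm3 | hm3
      · -- `p = 3`
        have : m = 2 := by omega
        subst this
        have hp3 : p = 3 := by omega
        subst hp3
        have hcen : Subgroup.center SL3 = ⊥ := by
          rw [eq_bot_iff]
          intro z hz
          obtain ⟨s, hs1, hs2⟩ := Matrix.SpecialLinearGroup.mem_center_iff.1 hz
          rw [Fintype.card_fin, ← hqf, hq, FiniteField.pow_card] at hs1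
          rw [hs1, map_one] at hs2
          exact Subtype.ext hs2.symm
        let e : PSL3 ≃* SL3 := (QuotientGroup.quotientMulEquivOfEq hcen).trans QuotientGroup.quotientBot
        let ρ : PSL3 →* Matrix.GeneralLinearGroup (Fin 3) F :=
          (Matrix.SpecialLinearGroup.toGL : SL3 →* Matrix.GeneralLinearGroup (Fin 3) F).comp e.toMonoidHom
        have hρ : Function.Injective ρ := by
          intro a b hab
          have h1 := congrArg Units.val hab
          apply e.injective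
          exact Subtype.ext h1
        have := Fact.mk hr.prime
        obtain ⟨R, hR⟩ := hH.2 r (hr.ne (by omega)) hrK
        have hcop : (Nat.card (normalizer ((R : Subgroup PSL3) : Set PSL3))).Coprime 3 := by
          have h1 : ¬ 3 ∣ Nat.card (normalizer ((R : Subgroup PSL3) : Set PSL3)) :=
            fun h => hHp (h.trans (Subgroup.card_dvd_of_le hR))
          exact ((Nat.Prime.coprime_iff_not_dvd (by norm_num)).2 h1).symm
        have hsimp : IsSimpleGroup PSL3 := S0249.result 3 le_rfl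
        have ho : orderOf ((3 : ℕ) : ZMod r) = 3 := by
          have := hr.ord
          rwa [mul_one] at this
        exact Gal.simple_false hns R hrK (Gal.normalizer_le_centralizer (p := 3) (q := 3) (by rw [← hqf, hq]) (by norm_num)
          hr.prime (hr.ne (by omega)) ho ρ hρ R hrK hcop)
      · have hp7 : 7 ≤ p := by
          have : 2 ^ 3 ≤ 2 ^ m := Nat.pow_le_pow_right (by norm_num) hm3
          omega
        have hsurj : Function.Surjective (QuotientGroup.mk' (Subgroup.center SL3)) := QuotientGroup.mk'_surjective _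
        refine BnMer.noIndex (F := F) (H := H.comap (QuotientGroup.mk' (Subgroup.center SL3))) hp.out
          (by rw [← hq, hqf]) ?_ ?_ hm hm3
        · intro hd
          obtain ⟨z, hz⟩ := exists_prime_orderOf_dvd_card' p hd
          have hz1 : orderOf (z : SL3) = p := by rw [Subgroup.orderOf_coe, hz]
          have h1 : QuotientGroup.mk' (Subgroup.center SL3) (z : SL3) = 1 := by
            have h2 : orderOf (QuotientGroup.mk' (Subgroup.center SL3) (z : SL3)) ∣ p := by
              rw [← hz1]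
              exact orderOf_map_dvd _ _
            rcases (Nat.dvd_prime hp.out).1 h2 with h3 | h3
            · exact orderOf_eq_one_iff.1 h3
            · exfalso
              apply hHp
              rw [← h3]
              exact Subgroup.orderOf_dvd_natCard H z.2
          have h2 : (z : SL3) ∈ Subgroup.center SL3 := (QuotientGroup.eq_one_iff (z : SL3)).1 h1
          obtain ⟨s, hs1, hs2⟩ := Matrix.SpecialLinearGroup.mem_center_iff.1 h2
          have h3 : (z : SL3) ^ 3 = 1 := by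
            apply Subtype.ext
            rw [Matrix.SpecialLinearGroup.coe_pow, ← hs2, ← map_pow]
            rw [Fintype.card_fin] at hs1
            rw [hs1, map_one]
            rfl
          have h4 := orderOf_dvd_of_pow_eq_one h3
          rw [hz1] at h4
          have := Nat.le_of_dvd (by norm_num) h4
          omega
        · rw [Subgroup.index_comap_of_surjective _ hsurj, hk]

universe u v

/-- the row `PSL 3 q` -/
theorem supp_PSL3 {F : Type v} [Field F] [Fintype F]
    (hns : ¬ Group.IsSolvable (Matrix.ProjectiveSpecialLinearGroup (Fin 3) F)) :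
    Supp.{u} 3 (Matrix.ProjectiveSpecialLinearGroup (Fin 3) F) := by
  obtain ⟨p, hp⟩ := CharP.exists F
  have : Fact p.Prime := ⟨CharP.char_is_prime F p⟩
  have h := Cfsg.Agent.Omega.ML.Ex.Typ.typ_PSL (F := F) 2 (p := p)
  have hsimp : IsSimpleGroup (Matrix.ProjectiveSpecialLinearGroup (Fin 3) F) := S0249.result 3 le_rfl
  exact supp_of_noHall hns h (by norm_num) (noHall_PSL3 hns)

end psl

end Cfsg.Agent.H288.BnPsl
end

-- part: H288/BnSplit
section
/-!
# Split (B,N)-pairs of rank one and two: supplements (helper288, S5907)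
-/

set_option autoImplicit false
set_option linter.unusedSectionVars false

namespace Cfsg.Agent.H288.BnSplit

open Subgroup Cfsg.Agent.H339.MaxCl Cfsg.Agent.H288.BnAbs Cfsg.Agent.H288.BnHall Cfsg.Agent.Schreier.BNSch
  Cfsg.Agent.FixBN Cfsg.Agent.H288.BnTwo

universe u v

section transport

variable {S K : Type*} [Group S] [Group K]

theorem map_conj_map (e : S ≃* K) (g : S) (Q : Subgroup S) :
    (Q.map (MulAut.conj g).toMonoidHom).map e.toMonoidHom = (Q.map e.toMonoidHom).map (MulAut.conj (e g)).toMonoidHom := by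
  rw [Subgroup.map_map, Subgroup.map_map]
  congr 1
  ext x
  simp only [_root_.MulEquiv.toMonoidHom_eq_coe, _root_.MonoidHom.coe_comp, _root_.MonoidHom.coe_coe, _root_.Function.comp_apply, _root_.MulAut.conj_apply, _root_.map_mul, _root_.map_inv]

theorem Spread.transport {p : ℕ} (e : S ≃* K) {U : Sylow p S} (h : Spread p U) {U' : Sylow p K}
    (hU' : (U' : Subgroup K) = (U : Subgroup S).map e.toMonoidHom) : Spread p U' := by
  intro r _ hrp R hR
  obtain ⟨R0, hR0⟩ := _root_.Cfsg.Agent.H288.BnTwo.exists_sylow_map e.symm R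
  have hN : (normalizer ((U : Subgroup S) : Set S)).map e.toMonoidHom = normalizer ((U' : Subgroup K) : Set K) := by
    rw [hU', ← map_normalizer]
  have h1 : (R0 : Subgroup S) ≤ normalizer ((U : Subgroup S) : Set S) := by
    rw [← map_le_iff e, hR0, BnTwo.map_map_symm, hN]
    exact hR
  obtain ⟨g, hg, hRg⟩ := h r hrp R0 h1
  refine ⟨e g, ?_, ?_⟩
  · rw [hU', ← map_conj_map]
    intro h2
    exact hg (Subgroup.map_injective e.injective h2)
  · rw [← hN, ← map_conj_map]
    have h3 := Subgroup.map_mono (f := e.toMonoidHom) hRg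
    rwa [hR0, BnTwo.map_map_symm] at h3

end transport

section crit

variable {K : Type v} [Group K] [Finite K] [IsSimpleGroup K] {p : ℕ} [Fact p.Prime] {U : Sylow p K}
  {I : Type*} [Finite I] {P : Set I → Subgroup K}

/-- the index trick -/
theorem supp_of_noHall' [Nonempty I] (hns : ¬ Group.IsSolvable K) (hP : ParSys p U P) (hs : Spread p U)
    (hno : NoHall p K) : Supp.{u} 3 K := by
  rintro X _ _ S _ ⟨f⟩ - - - -
  have hS : IsSimpleGroup ↥S := f.isSimpleGroup
  have hns' : ¬ Group.IsSolvable ↥S := fun h =>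
    hns (Group.isSolvable_of_isSolvable_injective (f := f.symm.toMonoidHom) f.symm.injective)
  obtain ⟨U', hU'⟩ := _root_.Cfsg.Agent.H288.BnTwo.exists_sylow_map f.symm U
  have hP' := ParSys.transport f.symm hP hU'
  have hs' := Spread.transport f.symm hs hU'
  by_contra hcl
  have hpS : p ∣ Nat.card ↥S := by
    by_contra hpS
    have h1 : (U' : Subgroup ↥S) = ⊥ := by
      rw [← Subgroup.card_eq_one]
      obtain ⟨m, hm⟩ := (IsPGroup.iff_card (p := p)).1 U'.2
      rcases Nat.eq_zero_or_pos m with rfl | hm0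
      · rw [hm, pow_zero]
      · exfalso
        apply hpS
        have h3 : p ∣ Nat.card (U' : Subgroup ↥S) := by rw [hm]; exact dvd_pow_self p hm0.ne'
        exact h3.trans (Subgroup.card_subgroup_dvd_card _)
    obtain ⟨V, hV, hVU, -⟩ := hP'.rad ∅ (Set.empty_ne_univ)
    apply hV
    rw [eq_bot_iff, ← h1]
    exact hVU
  obtain ⟨H, hH⟩ := exists_hall hS hns' hP' hs' hpS hcl
  exact hno.of_equiv f H hH

/-- an invariant node -/
theorem supp_of_node (hP : ParSys p U P) {i : I} (hi : ({i} : Set I) ≠ Set.univ)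
    (h : ∀ j, j ≠ i → ∀ α : MulAut K, (U : Subgroup K).map α.toMonoidHom = U → (P {i}).map α.toMonoidHom ≠ P {j}) :
    Supp.{u} 3 K := by
  rintro X _ _ S _ ⟨f⟩ - - - -
  have hS : IsSimpleGroup ↥S := f.isSimpleGroup
  obtain ⟨U', hU'⟩ := _root_.Cfsg.Agent.H288.BnTwo.exists_sylow_map f.symm U
  have hP' := ParSys.transport f.symm hP hU'
  refine hP'.nCl_three (J := {i}) ⟨i, rfl⟩ hi ?_
  intro x hx
  obtain ⟨j, hj⟩ := hP'.exists_atom _ hx i
  rw [hj]
  by_cases hji : j = i
  · rw [hji]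
  · exfalso
    let β : MulAut ↥S := MulAut.conjNormal x
    have hc : ∀ Q : Subgroup K, (Q.map ((f.symm.trans β).trans f : MulAut K).toMonoidHom) =
        ((Q.map f.symm.toMonoidHom).map β.toMonoidHom).map f.toMonoidHom := by
      intro Q
      rw [map_map_equiv, map_map_equiv]
      rfl
    refine h j hji ((f.symm.trans β).trans f : MulAut K) ?_ ?_
    · rw [hc, ← hU']
      have h1 : (U' : Subgroup ↥S).map β.toMonoidHom = U' := hx
      rw [h1, hU', BnTwo.map_map_symm]
    · rw [hc]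
      have h1 : ((P {i}).map f.symm.toMonoidHom).map β.toMonoidHom = (P {j}).map f.symm.toMonoidHom := hj
      rw [h1, BnTwo.map_map_symm]

end crit

section split

variable {K : Type v} [Group K] [Finite K] {p : ℕ} [Fact p.Prime] {Q : Cfsg.BNPair K} {U : Subgroup K}

/-- the parabolic system of a split (B,N)-pair -/
theorem parSys_split (h : Split Q p U) {U' : Sylow p K} (hU' : (U' : Subgroup K) = U)
    (hrad : ∀ J : Set Q.S, J ≠ Set.univ → ∃ V : Subgroup K, V ≠ ⊥ ∧ V ≤ U ∧
      Q.parabolic (Subtype.val '' J) ≤ normalizer (V : Set K)) :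
    ParSys p U' (fun J : Set Q.S => Q.parabolic (Subtype.val '' J)) where
  le_iff J L := by
    rw [parabolic_le_iff Q (Subtype.coe_image_subset _ _) (Subtype.coe_image_subset _ _)]
    exact Set.image_subset_image_iff Subtype.val_injective
  norm_le J := by
    rw [hU', h.normalizer_eq]
    exact B_le_parabolic Q _
  surj M hM := by
    rw [hU', h.normalizer_eq] at hM
    obtain ⟨J, hJ, hMJ⟩ := Cfsg.Agent.S0311.result Q M hM
    refine ⟨Subtype.val ⁻¹' J, ?_⟩
    rw [Subtype.image_preimage_coe, Set.inter_eq_right.2 hJ]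
    exact hMJ
  rad J hJ := by
    obtain ⟨V, h1, h2, h3⟩ := hrad J hJ
    exact ⟨V, h1, by rwa [hU'], h3⟩

theorem node_le_normalizer {s : K} {V : Subgroup K} (hN : Node Q U s V) :
    Q.parabolic {s} ≤ normalizer (V : Set K) := by
  intro g hg
  rw [mem_normalizer_iff]
  intro v
  constructor
  · intro hv
    have := hN.conj_mem (inv_mem hg) hv
    rwa [inv_inv] at this
  · intro hv
    have := hN.conj_mem hg hv
    have e : g⁻¹ * (g * v * g⁻¹) * g = v := by group
    rwa [e] at this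

/-- the radical of the panel is determined by the panel -/
theorem node_map {s t : K} (hUB : U ≤ Q.B) {V V' : Subgroup K} (hN : Node Q U s V) (hN' : Node Q U t V')
    {α : MulAut K} (hα : U.map α.toMonoidHom = U) (hst : (Q.parabolic {s}).map α.toMonoidHom = Q.parabolic {t}) :
    V.map α.toMonoidHom ≤ V' := by
  rintro _ ⟨v, hv, rfl⟩
  have h1 : α v ∈ U := by rw [← hα]; exact ⟨v, hN.le hv, rfl⟩
  apply hN'.stab _ h1
  have h2 : t ∈ (Q.parabolic {s}).map α.toMonoidHom := by rw [hst]; exact mem_parabolic_self Q t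
  obtain ⟨g, hg, hgt⟩ := h2
  have h3 : α g = t := hgt
  have h4 := hN.conj_mem hg hv
  have h5 : t⁻¹ * α v * t = α (g⁻¹ * v * g) := by rw [map_mul, map_mul, map_inv, h3]
  change t⁻¹ * α v * t ∈ Q.B
  rw [h5]
  apply hUB
  rw [← hα]
  exact ⟨_, hN.le h4, rfl⟩

theorem card_B (h : Split Q p U) : Nat.card Q.B = Nat.card (Q.B ⊓ Q.N : Subgroup K) * Nat.card U := by
  have hle : Nat.card Q.B ≤ Nat.card (Q.B ⊓ Q.N : Subgroup K) * Nat.card U := by
    rw [← Nat.card_prod]
    refine Nat.card_le_card_of_surjective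
      (fun x : ↥(Q.B ⊓ Q.N : Subgroup K) × ↥U =>
        (⟨x.2 * x.1, mul_mem (h.le x.2.2) (mem_inf.1 x.1.2).1⟩ : ↥Q.B)) ?_
    rintro ⟨b, hb⟩
    obtain ⟨u, hu, t, ht, e⟩ := h.cover' hb
    exact ⟨(⟨t, ht⟩, ⟨u, hu⟩), Subtype.ext e.symm⟩
  refine le_antisymm hle (Nat.le_of_dvd Nat.card_pos ?_)
  refine Nat.Coprime.mul_dvd_of_dvd_of_dvd ?_ (Subgroup.card_dvd_of_le inf_le_left) (Subgroup.card_dvd_of_le h.le)
  obtain ⟨n, hn⟩ := (IsPGroup.iff_card (p := p)).1 h.isP
  rw [hn]
  apply Nat.Coprime.pow_right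
  rw [Nat.coprime_comm, Nat.Prime.coprime_iff_not_dvd Fact.out]
  intro hd
  obtain ⟨m, hm, hH⟩ := h.tor
  obtain ⟨x, hx⟩ := exists_prime_orderOf_dvd_card' p hd
  apply hm
  rw [← hx]
  apply orderOf_dvd_of_pow_eq_one
  apply Subtype.ext
  exact hH x (mem_inf.1 x.2).1 (mem_inf.1 x.2).2

/-- Sylow subgroups of `B` normalise another Sylow `p`-subgroup -/
theorem spread_split (h : Split Q p U) {U' : Sylow p K} (hU' : (U' : Subgroup K) = U) (hS : Q.S.Nonempty) :
    Spread p U' := by
  intro r hr hrp R hR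
  rw [hU', h.normalizer_eq] at hR
  have hcard := card_B h
  set T : Subgroup K := Q.B ⊓ Q.N with hT
  have hTB : T ≤ Q.B := inf_le_left
  let Q0 : Sylow r ↥T := default
  have h1 : ¬ r ∣ ((Q0 : Subgroup ↥T).map T.subtype).index := by
    intro hdvd
    have e1 : Nat.card ((Q0 : Subgroup ↥T).map T.subtype) = Nat.card (Q0 : Subgroup ↥T) :=
      Subgroup.card_map_of_injective T.subtype_injective
    have e2 : Nat.card ((Q0 : Subgroup ↥T).map T.subtype) * ((Q0 : Subgroup ↥T).map T.subtype).index = Nat.card K :=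
      Subgroup.card_mul_index _
    have e3 : Nat.card Q.B * Q.B.index = Nat.card K := Subgroup.card_mul_index _
    have e4 : Nat.card (Q0 : Subgroup ↥T) * (Q0 : Subgroup ↥T).index = Nat.card T := Subgroup.card_mul_index _
    have e5 : Nat.card (Q0 : Subgroup ↥T) * ((Q0 : Subgroup ↥T).map T.subtype).index =
        Nat.card (Q0 : Subgroup ↥T) * ((Q0 : Subgroup ↥T).index * Nat.card U * Q.B.index) := by
      rw [← e1, e2, ← e3, hcard, ← e4, e1]
      ring
    rw [Nat.eq_of_mul_eq_mul_left Nat.card_pos e5] at hdvd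
    rcases hr.out.dvd_mul.1 hdvd with h2 | h2
    · rcases hr.out.dvd_mul.1 h2 with h3 | h3
      · exact Q0.not_dvd_index h3
      · obtain ⟨m, hm⟩ := (IsPGroup.iff_card (p := p)).1 h.isP
        rw [hm] at h3
        exact hrp ((Nat.prime_dvd_prime_iff_eq hr.out Fact.out).1 (hr.out.dvd_of_dvd_pow h3))
    · exact R.not_dvd_index (h2.trans (Subgroup.index_dvd_of_le hR))
  have hQ1 : IsPGroup r ((Q0 : Subgroup ↥T).map T.subtype) := Q0.2.map _
  let Q1 : Sylow r K := hQ1.toSylow h1
  have hQ1T : (Q1 : Subgroup K) ≤ T := by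
    rintro _ ⟨a, -, rfl⟩
    exact a.2
  obtain ⟨c, hc, hcQ⟩ := exists_conj_le Q1 R (hQ1T.trans hTB) hR
  obtain ⟨s, hs⟩ := hS
  have hsB : s ∉ Q.B := not_mem_B Q hs
  have hTs : T ≤ Q.B.map (MulAut.conj s).toMonoidHom := by
    intro t ht
    rw [mem_map_conj]
    have := Q.conj_mem s⁻¹ (Q.N.inv_mem (Q.subset hs)) t ht
    rwa [inv_inv] at this
  refine ⟨c⁻¹ * s, ?_, ?_⟩
  · intro e
    have h3 : c⁻¹ * s ∈ normalizer ((U' : Subgroup K) : Set K) := mem_normalizer_iff_conj.2 e
    rw [hU', h.normalizer_eq] at h3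
    apply hsB
    have h4 := mul_mem hc h3
    rwa [mul_inv_cancel_left] at h4
  · rw [hU', h.normalizer_eq, ← map_conj_mul]
    have h4 : (R : Subgroup K) = (Q1 : Subgroup K).map (MulAut.conj c⁻¹).toMonoidHom := by
      rw [← hcQ, map_conj_mul, inv_mul_cancel, map_conj_one]
    rw [h4]
    exact Subgroup.map_mono (hQ1T.trans hTs)

/-- rank one -/
theorem supp_rank_one [IsSimpleGroup K] (hns : ¬ Group.IsSolvable K) (h : Split Q p U) {s : K} (hS : Q.S = {s})
    (hno : NoHall p K) : Supp.{u} 3 K := by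
  obtain ⟨U', hU'⟩ := Cfsg.Agent.H580.BN.exists_sylow_of_split h
  have hs : s ∈ Q.S := by rw [hS]; rfl
  have : Nonempty Q.S := ⟨⟨s, hs⟩⟩
  have hsub : ∀ a : Q.S, a = ⟨s, hs⟩ := by
    rintro ⟨a, ha⟩
    apply Subtype.ext
    rw [hS] at ha
    exact ha
  have hss : Subsingleton Q.S := ⟨fun a b => (hsub a).trans (hsub b).symm⟩
  have hfin : Finite Q.S := inferInstance
  have hP := parSys_split h hU' (by
    intro J hJ
    have hJ0 : J = ∅ := by
      rw [Set.eq_empty_iff_forall_notMem]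
      intro a ha
      apply hJ
      rw [Set.eq_univ_iff_forall]
      intro b
      rw [hsub b, ← hsub a]
      exact ha
    subst hJ0
    refine ⟨U, ?_, le_rfl, ?_⟩
    · rintro rfl
      obtain ⟨V, hV⟩ := h.node s hs
      obtain ⟨u, hu, huV⟩ := hV.ne
      rw [Subgroup.mem_bot] at hu
      subst hu
      exact huV (one_mem V)
    · rw [Set.image_empty, parabolic_empty, h.normalizer_eq])
  exact supp_of_noHall' hns hP (spread_split h hU' ⟨s, hs⟩) hno

/-- rank two, different panels -/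
theorem supp_rank_two [IsSimpleGroup K] (h : Split Q p U) {s t : K} (hS : Q.S = {s, t}) (hst : s ≠ t)
    {V V' : Subgroup K} (hN : Node Q U s V) (hN' : Node Q U t V') (hV : V ≠ ⊥) (hV' : V' ≠ ⊥)
    (hc : Nat.card V' < Nat.card V) : Supp.{u} 3 K := by
  obtain ⟨U', hU'⟩ := Cfsg.Agent.H580.BN.exists_sylow_of_split h
  have hs : s ∈ Q.S := by rw [hS]; exact Or.inl rfl
  have ht : t ∈ Q.S := by rw [hS]; exact Or.inr rfl
  have hall : ∀ a : Q.S, a = ⟨s, hs⟩ ∨ a = ⟨t, ht⟩ := by
    rintro ⟨a, ha⟩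
    rw [hS] at ha
    rcases ha with rfl | ha
    · exact Or.inl rfl
    · rw [Set.mem_singleton_iff] at ha
      subst ha
      exact Or.inr rfl
  have hfin : Finite Q.S := by
    have : Q.S.Finite := by rw [hS]; exact Set.toFinite _
    exact this
  have hP := parSys_split h hU' (by
    intro J hJ
    by_cases h1 : (⟨s, hs⟩ : Q.S) ∈ J
    · have h2 : (⟨t, ht⟩ : Q.S) ∉ J := fun h2 => hJ (Set.eq_univ_iff_forall.2 fun a => by
        rcases hall a with rfl | rfl
        · exact h1
        · exact h2)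
      have h3 : J = {⟨s, hs⟩} := by
        ext a
        rcases hall a with rfl | rfl
        · simp [h1]
        · simp only [Set.mem_singleton_iff, Subtype.mk.injEq]
          exact ⟨fun h4 => absurd h4 h2, fun h4 => absurd h4.symm hst⟩
      subst h3
      refine ⟨V, hV, hN.le, ?_⟩
      rw [Set.image_singleton]
      exact node_le_normalizer hN
    · by_cases h2 : (⟨t, ht⟩ : Q.S) ∈ J
      · have h3 : J = {⟨t, ht⟩} := by
          ext a
          rcases hall a with rfl | rfl
          · simp only [Set.mem_singleton_iff, Subtype.mk.injEq]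
            exact ⟨fun h4 => absurd h4 h1, fun h4 => absurd h4 hst⟩
          · simp [h2]
        subst h3
        refine ⟨V', hV', hN'.le, ?_⟩
        rw [Set.image_singleton]
        exact node_le_normalizer hN'
      · have h3 : J = ∅ := by
          rw [Set.eq_empty_iff_forall_notMem]
          intro a ha
          rcases hall a with rfl | rfl
          · exact h1 ha
          · exact h2 ha
        subst h3
        refine ⟨U, fun e => hV (by rw [eq_bot_iff, ← e]; exact hN.le), le_rfl, ?_⟩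
        rw [Set.image_empty, parabolic_empty, h.normalizer_eq])
  refine supp_of_node hP (i := ⟨s, hs⟩) ?_ ?_
  · intro e
    have h1 : (⟨t, ht⟩ : Q.S) ∈ ({⟨s, hs⟩} : Set Q.S) := e ▸ Set.mem_univ _
    rw [Set.mem_singleton_iff, Subtype.mk.injEq] at h1
    exact hst h1.symm
  · intro j hj α hα hα2
    rcases hall j with rfl | rfl
    · exact hj rfl
    · rw [Set.image_singleton, Set.image_singleton] at hα2
      rw [hU'] at hα
      have h1 := node_map h.le hN hN' hα hα2
      have h2 := Nat.card_le_card_of_injective _ (Subgroup.inclusion_injective h1)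
      rw [Subgroup.card_map_of_injective (f := α.toMonoidHom) (MulEquiv.injective α)] at h2
      omega

end split

end Cfsg.Agent.H288.BnSplit
end

private theorem dce_a7143ffec7de : _root_.True := by
  try have : _root_.True := by simp only [_root_.Matrix.ProjectiveSpecialLinearGroup.congr_simp]
  try have : _root_.True := by simp only [_root_.Cfsg.Agent.H288.BnMer.im.eq_1]
  exact _root_.True.intro
end

-- part: H339/RowKnown_mg
section
set_option linter.all false
open scoped Cfsg.Agent.FastGrp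

-- part: H339/MaxOne
section
/-!
# Rank one groups have three classes of supplements (helper339, S5907)

`supp_rank_one` : `K` simple, the normalizer of a Sylow `p`-subgroup `P` is maximal of index `|P| + 1`, and no `p ^ k > 1` dividing `|P|` is
`1` modulo all the primes `r ≠ p` dividing `|K|`.
-/

set_option autoImplicit false
set_option linter.unusedSectionVars false

namespace Cfsg.Agent.H339.MaxCl

open Subgroup

universe u v

theorem supp_rank_one' {K : Type v} [Group K] [Finite K] (hsimp : IsSimpleGroup K) (hns : ¬ Group.IsSolvable K)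
    {p : ℕ} [hp : Fact p.Prime] (hpK : p ∣ Nat.card K) (P : Sylow p K)
    (hco : IsCoatom (normalizer ((P : Subgroup K) : Set K)))
    (hidx : (normalizer ((P : Subgroup K) : Set K)).index = Nat.card P + 1)
    (hk : ∀ k : ℕ, 1 ≤ k → p ^ k ∣ Nat.card P → (∃ H : Subgroup K, H.index = p ^ k) →
      ∃ r : ℕ, r.Prime ∧ r ≠ p ∧ r ∣ Nat.card K ∧ p ^ k % r ≠ 1) :
    Supp.{u} 3 K := by
  rintro X _ _ S _ ⟨f⟩ _ _ _ _
  have h1 : IsSimpleGroup ↥S := f.isSimpleGroup
  have h2 : ¬ Group.IsSolvable ↥S := fun h =>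
    hns (Group.isSolvable_of_isSolvable_injective (f := f.symm.toMonoidHom) f.symm.injective)
  have hcard : Nat.card S = Nat.card K := Nat.card_congr f.toEquiv
  by_contra hcon
  obtain ⟨M, hM, -, hR⟩ := exists_indices h1 h2 (n := 2) (by norm_num) hcon
  have hMS : ∀ i, M i ⊔ S = ⊤ := fun i => sup_eq_top_of_coatom (hM i).1 (hM i).2
  have hidx' : ∀ i, (M i).index = ((M i).subgroupOf S).index := fun i => index_eq (hMS i)
  have hne1 : ∀ i, (M i).index ≠ 1 := fun i e => (hM i).1.1 (Subgroup.index_eq_one.1 e)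
  have hdvd : ∀ i, (M i).index ∣ Nat.card K := fun i => by
    rw [hidx' i, ← hcard]; exact Subgroup.index_dvd_card _
  -- the one containing `N(P)`
  obtain ⟨i, Q, hQ⟩ := hR p (by rw [hcard]; exact hpK)
  have hi : (M i).index = Nat.card P + 1 := by
    -- transport the Sylow subgroup
    let Q' : Sylow p K := Q.mapSurjective (f := f.toMonoidHom) f.surjective
    have hQ' : (Q' : Subgroup K) = (Q : Subgroup ↥S).map f.toMonoidHom := rfl
    obtain ⟨g, hg⟩ := MulAction.exists_smul_eq K P Q'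
    have h3 : (Q' : Subgroup K) = (P : Subgroup K).map (MulAut.conj g).toMonoidHom := by
      rw [← hg, Sylow.coe_subgroup_smul]
      rfl
    have h4 : Cj (normalizer ((P : Subgroup K) : Set K)) (normalizer ((Q' : Subgroup K) : Set K)) := by
      refine ⟨g, ?_⟩
      rw [h3]
      exact Subgroup.map_equiv_normalizer_eq (P : Subgroup K) (MulAut.conj g)
    have hcoQ : IsCoatom (normalizer ((Q' : Subgroup K) : Set K)) := h4.isCoatom hco
    have hle : normalizer ((Q' : Subgroup K) : Set K) ≤ ((M i).subgroupOf S).map f.toMonoidHom := by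
      intro x hx
      refine ⟨f.symm x, ?_, f.apply_symm_apply x⟩
      show ((f.symm x : ↥S) : X) ∈ M i
      apply hQ
      rw [mem_normalizer_iff] at hx ⊢
      have key : ∀ y : ↥S, y ∈ (Q : Subgroup ↥S) ↔ f.symm x * y * (f.symm x)⁻¹ ∈ (Q : Subgroup ↥S) := by
        intro y
        have h5 := hx (f y)
        have h6 : ∀ z : ↥S, f z ∈ (Q' : Subgroup K) ↔ z ∈ (Q : Subgroup ↥S) := by
          intro z
          rw [hQ']
          constructor
          · rintro ⟨w, hw, hwz⟩
            have : w = z := f.injective hwz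
            rwa [← this]
          · intro hz
            exact ⟨z, hz, rfl⟩
        rw [h6] at h5
        have h7 : x * f y * x⁻¹ = f (f.symm x * y * (f.symm x)⁻¹) := by simp
        rw [h7, h6] at h5
        exact h5
      intro y
      constructor
      · rintro ⟨z, hz, rfl⟩
        exact ⟨f.symm x * z * (f.symm x)⁻¹, (key z).1 hz, rfl⟩
      · rintro ⟨z, hz, hzy⟩
        have e : y = (((f.symm x)⁻¹ * z * f.symm x : ↥S) : X) := by
          show y = ((f.symm x : ↥S) : X)⁻¹ * (z : X) * ((f.symm x : ↥S) : X)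
          have : (z : X) = ((f.symm x : ↥S) : X) * y * ((f.symm x : ↥S) : X)⁻¹ := hzy
          rw [this]; group
        rw [e]
        refine ⟨(f.symm x)⁻¹ * z * f.symm x, (key _).2 ?_, rfl⟩
        have e2 : f.symm x * ((f.symm x)⁻¹ * z * f.symm x) * (f.symm x)⁻¹ = z := by group
        rw [e2]; exact hz
    have hmt : ((M i).subgroupOf S).map f.toMonoidHom ≠ ⊤ := by
      refine map_equiv_ne_top f ?_
      rw [Ne, subgroupOf_eq_top]
      exact (hM i).2
    have heq : normalizer ((Q' : Subgroup K) : Set K) = ((M i).subgroupOf S).map f.toMonoidHom := by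
      by_contra hne
      exact hmt (hcoQ.2 _ (lt_of_le_of_ne hle hne))
    have h8 : (normalizer ((Q' : Subgroup K) : Set K)).index = (normalizer ((P : Subgroup K) : Set K)).index := by
      have hc := h4.card_eq
      have h9 : Nat.card (normalizer ((P : Subgroup K) : Set K)) * (normalizer ((P : Subgroup K) : Set K)).index = Nat.card K :=
        Subgroup.card_mul_index _
      have h10 : Nat.card (normalizer ((Q' : Subgroup K) : Set K)) * (normalizer ((Q' : Subgroup K) : Set K)).index = Nat.card K :=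
        Subgroup.card_mul_index _
      rw [← h9, hc] at h10
      exact Nat.eq_of_mul_eq_mul_left Nat.card_pos h10
    rw [hidx' i, ← hidx, ← h8, heq]
    exact (Subgroup.index_map_of_bijective (f := f.toMonoidHom) f.bijective _).symm
  obtain ⟨k0, hk0⟩ := IsPGroup.iff_card.1 P.2
  -- the other one
  have hfin : ∀ r : ℕ, r.Prime → r ∣ Nat.card K → r ≠ p → ∃ j, j ≠ i ∧ (M j).index % r = 1 := by
    intro r hr hrK hrp
    have := Fact.mk hr
    obtain ⟨j, R, hRj⟩ := hR r (by rw [hcard]; exact hrK)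
    have h4 := index_modEq (hMS j) R hRj
    have h5 : (M j).index % r = 1 := by
      rw [h4]
      exact Nat.mod_eq_of_lt hr.one_lt
    refine ⟨j, ?_, h5⟩
    rintro rfl
    rw [hi] at h4
    have h6 : Nat.card P ≡ 0 [MOD r] := Nat.ModEq.add_right_cancel' 1 h4
    have h7 : r ∣ p ^ k0 := by rw [← hk0]; exact (Nat.modEq_zero_iff_dvd).1 h6
    exact hrp ((Nat.prime_dvd_prime_iff_eq hr hp.out).1 (hr.dvd_of_dvd_pow h7))
  obtain ⟨j, hj⟩ : ∃ j : Fin 2, ∀ j' : Fin 2, j' ≠ i → j' = j := by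
    fin_cases i
    · exact ⟨1, by decide⟩
    · exact ⟨0, by decide⟩
  have hmod : ∀ r : ℕ, r.Prime → r ∣ Nat.card K → r ≠ p → (M j).index % r = 1 := by
    intro r hr hrK hrp
    obtain ⟨j', hj', h⟩ := hfin r hr hrK hrp
    rwa [hj j' hj'] at h
  -- the index is a power of `p`
  have hpow : ∃ k : ℕ, (M j).index = p ^ k := by
    refine ⟨_, Nat.eq_prime_pow_of_unique_prime_dvd (Subgroup.index_ne_zero_of_finite) ?_⟩
    intro r hr hrM
    by_contra hrp
    have h9 := hmod r hr (hrM.trans (hdvd j)) hrp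
    rw [Nat.mod_eq_zero_of_dvd hrM] at h9
    exact absurd h9 (by norm_num)
  obtain ⟨k, hkk⟩ := hpow
  have hk1 : 1 ≤ k := by
    rcases Nat.eq_zero_or_pos k with h | h
    · rw [h, pow_zero] at hkk
      exact absurd hkk (hne1 j)
    · exact h
  have hkP : p ^ k ∣ Nat.card P := by
    rw [Sylow.card_eq_multiplicity]
    refine pow_dvd_pow p ?_
    have := hdvd j
    rw [hkk] at this
    exact (hp.out.pow_dvd_iff_le_factorization Nat.card_pos.ne').1 this
  obtain ⟨r, hr, hrp, hrK, hr1⟩ := hk k hk1 hkP ⟨((M j).subgroupOf S).map f.toMonoidHom, by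
    rw [Subgroup.index_map_of_bijective (f := f.toMonoidHom) f.bijective, ← hidx' j, hkk]⟩
  apply hr1
  rw [← hkk]
  exact hmod r hr hrK hrp

end Cfsg.Agent.H339.MaxCl
end

-- part: H339/RowPsl
section
/-!
# Row `L₂(q)` of S5907 (helper339)

`supp_psl2` : `Supp 3 (PSL₂(F))` for `4 ≤ |F|`.
-/

set_option autoImplicit false
set_option linter.unusedSectionVars false

namespace Cfsg.Agent.H339.RowPsl

open Subgroup Cfsg.Agent.H339.MaxCl Cfsg.Agent.ClassicalGeometry Cfsg.Agent.LieClassical.SLTwoUnipotent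

universe u v

variable {F : Type v} [Field F] [Fintype F]

theorem uni_eq (b : F) : SL2Borel.uni b = u b := by
  apply SL2Line.sl_ext <;> simp [SL2Borel.uni, SL2Line.mk_00, SL2Line.mk_01, SL2Line.mk_10, SL2Line.mk_11, coe_u]

theorem isCoatom_norm (p : ℕ) [Fact p.Prime] [CharP F p] :
    IsCoatom (normalizer ((H260.Psl.P₀ F p : Subgroup (Matrix.ProjectiveSpecialLinearGroup (Fin 2) F)) :
      Set (Matrix.ProjectiveSpecialLinearGroup (Fin 2) F))) := by
  classical
  refine ⟨fun h => ?_, fun H hH => ?_⟩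
  · have h1 := H436.TT.index_normalizer (F := F) p (H260.Psl.P₀ F p)
    rw [h, Subgroup.index_top] at h1
    have := Fintype.card_pos (α := F)
    omega
  · have h1 : ∀ b : F, SL2Borel.uni b ∈ H.comap (H260.Psl.pr F) := by
      intro b
      rw [mem_comap, uni_eq]
      exact hH.le (Subgroup.le_normalizer ((H260.Psl.mem_P₀ p _).2 ⟨b, rfl⟩))
    rcases MinIndexPSL2.eq_top_or _ h1 with h2 | h2
    · rw [eq_top_iff]
      intro x _
      obtain ⟨y, rfl⟩ := H260.Psl.pr_surj x
      have : y ∈ H.comap (H260.Psl.pr F) := by rw [h2]; exact mem_top _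
      exact this
    · exfalso
      apply hH.not_ge
      intro x hx
      obtain ⟨y, rfl⟩ := H260.Psl.pr_surj x
      have h3 := h2 y hx
      have h4 : y ∈ normalizer (upperUnipSL F : Set (Matrix.SpecialLinearGroup (Fin 2) F)) := by
        rw [mem_normalizer_upperUnipSL_iff]
        exact h3
      exact Subgroup.le_normalizer_map (H260.Psl.pr F) (mem_map_of_mem _ h4)

theorem not_solv (hs : IsSimpleGroup (Matrix.ProjectiveSpecialLinearGroup (Fin 2) F)) :
    ¬ Group.IsSolvable (Matrix.ProjectiveSpecialLinearGroup (Fin 2) F) := by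
  intro h
  obtain ⟨p, hpc⟩ := CharP.exists F
  obtain ⟨f, hp, hF⟩ := FiniteField.card F p
  have : Fact p.Prime := ⟨hp⟩
  have h1 : IsMulCommutative (Matrix.ProjectiveSpecialLinearGroup (Fin 2) F) :=
    ⟨⟨IsSimpleGroup.comm_iff_isSolvable.mpr h⟩⟩
  apply (isCoatom_norm (F := F) p).1
  rw [eq_top_iff]
  intro x _
  rw [mem_normalizer_iff]
  intro y
  have e : x * y * x⁻¹ = y := by rw [mul_comm' x y]; group
  rw [e]

/-- all `q` but `7` -/
theorem supp_ne_seven (h4 : 4 ≤ Fintype.card F) (h7 : Fintype.card F ≠ 7)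
    (hs : IsSimpleGroup (Matrix.ProjectiveSpecialLinearGroup (Fin 2) F)) :
    Supp.{u} 3 (Matrix.ProjectiveSpecialLinearGroup (Fin 2) F) := by
  obtain ⟨p, hpc⟩ := CharP.exists F
  obtain ⟨f, hp, hF⟩ := FiniteField.card F p
  have : Fact p.Prime := ⟨hp⟩
  have hcP := H260.Psl.card_P₀ (F := F) p
  have hcard := PSL2Basic.card_PSL2_gcd (F := F)
  have hidx := H436.TT.index_normalizer (F := F) p (H260.Psl.P₀ F p)
  refine supp_rank_one' hs (not_solv hs) ?_ (H260.Psl.P₀ F p) (isCoatom_norm p) ?_ ?_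
  · have h1 : p ∣ Nat.card (H260.Psl.P₀ F p) := by
      rw [hcP, hF]
      exact dvd_pow_self p f.pos.ne'
    exact h1.trans (Subgroup.card_subgroup_dvd_card _)
  · rw [hidx, hcP]
  · intro k hk hkP hH
    rw [hcP] at hkP
    have hle : p ^ k ≤ Fintype.card F := Nat.le_of_dvd (by omega) hkP
    have h1k : 1 < p ^ k := Nat.one_lt_pow (by omega) hp.one_lt
    obtain ⟨H, hH⟩ := hH
    by_cases hq : Fintype.card F ∈ ({2, 3, 5, 7, 9, 11} : Finset ℕ)
    · simp only [Finset.mem_insert, Finset.mem_singleton] at hq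
      have hq' : Fintype.card F = 5 ∨ Fintype.card F = 9 ∨ Fintype.card F = 11 := by omega
      have hpk : ∀ (ℓ j : ℕ), ℓ.Prime → Fintype.card F = ℓ ^ j → p = ℓ := by
        intro ℓ j hℓ h
        rw [hF] at h
        have h5 : p ∣ ℓ ^ j := by rw [← h]; exact dvd_pow_self p f.pos.ne'
        exact (Nat.prime_dvd_prime_iff_eq hp hℓ).1 (hp.dvd_of_dvd_pow h5)
      rcases hq' with h | h | h
      · have hp5 := hpk 5 1 (by norm_num) (by rw [h]; norm_num)
        rw [h] at hcard hkP
        have h6 : Nat.card (Matrix.ProjectiveSpecialLinearGroup (Fin 2) F) = 60 := by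
          have : Nat.gcd 2 (5 - 1) = 2 := by norm_num
          rw [this] at hcard
          omega
        refine ⟨3, by norm_num, by rw [hp5]; norm_num, by rw [h6]; norm_num, ?_⟩
        have h7 : p ^ k ≤ 5 := Nat.le_of_dvd (by norm_num) hkP
        rw [hp5] at h7 h1k hkP ⊢
        have h8 : 5 ^ k = 1 ∨ 5 ^ k = 5 := (Nat.dvd_prime (by norm_num)).1 hkP
        rcases h8 with h8 | h8
        · omega
        · rw [h8]; norm_num
      · have hp3 := hpk 3 2 (by norm_num) (by rw [h]; norm_num)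
        rw [h] at hcard hkP
        have h6 : Nat.card (Matrix.ProjectiveSpecialLinearGroup (Fin 2) F) = 360 := by
          have : Nat.gcd 2 (9 - 1) = 2 := by norm_num
          rw [this] at hcard
          omega
        refine ⟨5, by norm_num, by rw [hp3]; norm_num, by rw [h6]; norm_num, ?_⟩
        have h7 : p ^ k ≤ 9 := Nat.le_of_dvd (by norm_num) hkP
        rw [hp3] at h7 h1k hkP ⊢
        have h8 : k ≤ 2 := by
          by_contra hcon
          have : 3 ^ 3 ≤ 3 ^ k := Nat.pow_le_pow_right (by norm_num) (by omega)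
          omega
        interval_cases k
        · norm_num
        · norm_num
      · have hp5 := hpk 11 1 (by norm_num) (by rw [h]; norm_num)
        rw [h] at hcard hkP
        have h6 : Nat.card (Matrix.ProjectiveSpecialLinearGroup (Fin 2) F) = 660 := by
          have : Nat.gcd 2 (11 - 1) = 2 := by norm_num
          rw [this] at hcard
          omega
        refine ⟨3, by norm_num, by rw [hp5]; norm_num, by rw [h6]; norm_num, ?_⟩
        have h7 : p ^ k ≤ 11 := Nat.le_of_dvd (by norm_num) hkP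
        rw [hp5] at h7 h1k hkP ⊢
        have h8 : 11 ^ k = 1 ∨ 11 ^ k = 11 := (Nat.dvd_prime (by norm_num)).1 hkP
        rcases h8 with h8 | h8
        · omega
        · rw [h8]; norm_num
    · exfalso
      have h1 := (S0806.result (F := F) rfl hq).1 H (fun h => by rw [h, Subgroup.index_top] at hH; omega)
      omega

end Cfsg.Agent.H339.RowPsl
end

-- part: H339/RowPslSeven
section
/-!
# Row `L₂(7)` of S5907 (helper339)
-/

set_option autoImplicit false
set_option linter.unusedSectionVars false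

namespace Cfsg.Agent.H339.RowPsl

open Subgroup Cfsg.Agent.H339.MaxCl Cfsg.Agent.ClassicalGeometry Cfsg.Agent.LieClassical.SLTwoUnipotent
open Cfsg.Agent.ClassicalGeometry.AutPSL.Auto Cfsg.Agent.ClassicalGeometry.AutPSL.Main Cfsg.Agent.ClassicalGeometry.AutPSL.Root

universe u v

section aut

variable {F : Type v} [Field F] [Fintype F]

theorem ker_Psi : (H199.PslAut.Psi 2 F).ker = Subgroup.center (GL (Fin 2) F) := by
  ext C
  rw [MonoidHom.mem_ker]
  constructor
  · intro h
    have h1 : lift (cj C * fld (1 : F ≃+* F)) = lift (fld (1 : F ≃+* F)) := by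
      rw [map_one, mul_one, map_one]
      exact h
    obtain ⟨⟨r, hr⟩, -⟩ := injective_aux h1
    rw [Subgroup.mem_center_iff]
    intro g
    apply Units.ext
    change g.1 * (C : Matrix (Fin 2) (Fin 2) F) = (C : Matrix (Fin 2) (Fin 2) F) * g.1
    rw [← hr]
    exact (Matrix.scalar_commute (n := Fin 2) r (Commute.all r) g.1).symm
  · intro h
    rw [Matrix.GeneralLinearGroup.center_eq_range_scalar] at h
    obtain ⟨r, rfl⟩ := h
    have h2 : cj (Matrix.GeneralLinearGroup.scalar (Fin 2) r) = 1 :=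
      cj_eq_one_of_scalar (r := (r : F)) rfl
    show lift (cj (Matrix.GeneralLinearGroup.scalar (Fin 2) r)) = 1
    rw [h2, map_one]

theorem surj_Psi (p : ℕ) [Fact p.Prime] (hF : Fintype.card F = p) : Function.Surjective (H199.PslAut.Psi 2 F) := by
  have hsub : Subsingleton (F ≃+* F) := by
    have h1 := Lib.FieldAutCard.card_ringAut (F := F) (p := p) (f := 1) le_rfl (by rw [hF, pow_one])
    exact (Nat.card_eq_one_iff_unique.1 h1).1
  have hchar : CharP F p := by
    obtain ⟨q, hq⟩ := CharP.exists F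
    obtain ⟨n, hqp, hn⟩ := FiniteField.card F q
    have hpp : p.Prime := Fact.out
    have : q ∣ p := by
      rw [← hF, hn]
      exact dvd_pow_self q n.pos.ne'
    rw [(Nat.prime_dvd_prime_iff_eq hqp hpp).1 this] at hq
    exact hq
  intro α
  obtain ⟨A, σ, h⟩ := surj_two p α
  refine ⟨A, ?_⟩
  rw [h, Subsingleton.elim σ 1, map_one, mul_one]
  rfl

/-- `PGL₂(p)` is the automorphism group -/
noncomputable def eP (p : ℕ) [Fact p.Prime] (hF : Fintype.card F = p) :
    Matrix.ProjGenLinGroup (Fin 2) F ≃* MulAut (Matrix.ProjectiveSpecialLinearGroup (Fin 2) F) :=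
  (QuotientGroup.quotientMulEquivOfEq (ker_Psi (F := F)).symm).trans
    (QuotientGroup.quotientKerEquivOfSurjective _ (surj_Psi p hF))

theorem eP_mk (p : ℕ) [Fact p.Prime] (hF : Fintype.card F = p) (g : GL (Fin 2) F) :
    eP p hF (Matrix.ProjGenLinGroup.mk g) = H199.PslAut.Psi 2 F g := rfl

theorem exists_equiv (p : ℕ) [Fact p.Prime] (hp2 : p ≠ 2) (hF : Fintype.card F = p) {X : Type u} [Group X] [Finite X]
    (S : Subgroup X) [S.Normal] (f : ↥S ≃* Matrix.ProjectiveSpecialLinearGroup (Fin 2) F)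
    (hC : centralizer (S : Set X) = ⊥) (hne : S ≠ ⊤) :
    ∃ e : X ≃* Matrix.ProjGenLinGroup (Fin 2) F,
      S.map e.toMonoidHom ≤ (Matrix.ProjGenLinGroup.mk.comp Matrix.SpecialLinearGroup.toGL).range := by
  have hfinA : Finite (MulAut (Matrix.ProjectiveSpecialLinearGroup (Fin 2) F)) :=
    Finite.of_injective (fun a x => a x) fun a b h => MulEquiv.ext (congrFun h)
  let φ : X →* MulAut (Matrix.ProjectiveSpecialLinearGroup (Fin 2) F) :=
    (MulAut.congr f).toMonoidHom.comp (MulAut.conjNormal (H := S))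
  have hφ : ∀ (x : X) (y : Matrix.ProjectiveSpecialLinearGroup (Fin 2) F),
      φ x y = f (MulAut.conjNormal x (f.symm y)) := fun x y => rfl
  have hinj : Function.Injective φ := by
    rw [← MonoidHom.ker_eq_bot_iff, eq_bot_iff, ← hC]
    intro x hx
    rw [MonoidHom.mem_ker] at hx
    rw [mem_centralizer_iff]
    intro s hs
    have h1 := hφ x (f ⟨s, hs⟩)
    rw [hx, f.symm_apply_apply] at h1
    have h2 : (⟨s, hs⟩ : ↥S) = MulAut.conjNormal x ⟨s, hs⟩ := f.injective h1
    have h3 : s = x * s * x⁻¹ := congrArg Subtype.val h2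
    calc s * x = (x * s * x⁻¹) * x := by rw [← h3]
      _ = x * s := by group
  have hcardA : Nat.card (MulAut (Matrix.ProjectiveSpecialLinearGroup (Fin 2) F)) =
      Nat.card (Matrix.ProjGenLinGroup (Fin 2) F) := (Nat.card_congr (eP p hF).toEquiv).symm
  have hcS : Nat.card S = Nat.card (Matrix.ProjectiveSpecialLinearGroup (Fin 2) F) := Nat.card_congr f.toEquiv
  have h2 : Nat.card (Matrix.ProjectiveSpecialLinearGroup (Fin 2) F) * 2 = Nat.card (Matrix.ProjGenLinGroup (Fin 2) F) := by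
    rw [PSL2Basic.card_PGL2, ← PSL2Basic.card_PSL2_gcd, hF]
    congr 1
    have hodd : Odd p := (Fact.out : p.Prime).odd_of_ne_two hp2
    obtain ⟨m, hm⟩ := hodd
    rw [hm, show 2 * m + 1 - 1 = 2 * m by omega]
    simp
  have hle : Nat.card (MulAut (Matrix.ProjectiveSpecialLinearGroup (Fin 2) F)) ≤ Nat.card X := by
    rw [hcardA, ← h2, ← hcS, ← Subgroup.card_mul_index S]
    refine Nat.mul_le_mul_left _ ?_
    have h3 : S.index ≠ 0 := Subgroup.index_ne_zero_of_finite
    have h4 : S.index ≠ 1 := fun h => hne (Subgroup.index_eq_one.1 h)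
    omega
  have hbij : Function.Bijective φ := (Nat.bijective_iff_injective_and_card φ).2
    ⟨hinj, le_antisymm (Nat.card_le_card_of_injective φ hinj) hle⟩
  refine ⟨(MulEquiv.ofBijective φ hbij).trans (eP p hF).symm, ?_⟩
  rintro _ ⟨x, hx, rfl⟩
  obtain ⟨s, hs⟩ : ∃ s : Matrix.SpecialLinearGroup (Fin 2) F, pr s = f ⟨x, hx⟩ := QuotientGroup.mk'_surjective _ _
  refine ⟨s, ?_⟩
  show Matrix.ProjGenLinGroup.mk (s : GL (Fin 2) F) = (eP p hF).symm (φ x)
  rw [MulEquiv.eq_symm_apply, eP_mk, H199.PslAut.Psi_coe, hs]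
  apply MulEquiv.ext
  intro y
  rw [hφ, MulAut.conj_apply]
  have h5 : MulAut.conjNormal x (f.symm y) = (⟨x, hx⟩ : ↥S) * f.symm y * (⟨x, hx⟩ : ↥S)⁻¹ := rfl
  rw [h5, map_mul, map_mul, map_inv, f.apply_symm_apply]

end aut

theorem supp_seven {F : Type v} [Field F] [Fintype F] (h7 : Fintype.card F = 7)
    (hs : IsSimpleGroup (Matrix.ProjectiveSpecialLinearGroup (Fin 2) F)) :
    Supp.{u} 3 (Matrix.ProjectiveSpecialLinearGroup (Fin 2) F) := by
  have hp7 : Fact (Nat.Prime 7) := ⟨by norm_num⟩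
  rintro X _ _ S _ ⟨f⟩ hC hne _ _
  have h1 : IsSimpleGroup ↥S := f.isSimpleGroup
  have h2 : ¬ Group.IsSolvable ↥S := fun h =>
    not_solv hs (Group.isSolvable_of_isSolvable_injective (f := f.symm.toMonoidHom) f.symm.injective)
  obtain ⟨e, he⟩ := exists_equiv 7 (by norm_num) h7 S f hC hne
  have hcG : Nat.card (Matrix.ProjGenLinGroup (Fin 2) F) = 336 := by
    rw [PSL2Basic.card_PGL2, h7]; norm_num
  have hcX : Nat.card X = 336 := by rw [Nat.card_congr e.toEquiv, hcG]
  have hcS : Nat.card S = 168 := by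
    have h3 := PSL2Basic.card_PSL2_gcd (F := F)
    rw [h7] at h3
    have h4 : Nat.gcd 2 (7 - 1) = 2 := by norm_num
    rw [h4] at h3
    rw [Nat.card_congr f.toEquiv]
    omega
  by_contra hcon
  obtain ⟨M, hM, -, hR⟩ := exists_indices h1 h2 (n := 2) (by norm_num) hcon
  have hidx : ∀ i, (M i).index = 8 ∨ (M i).index = 28 ∨ (M i).index = 21 := by
    intro i
    have hco : IsCoatom ((M i).map e.toMonoidHom) := (OrderIso.isCoatom_iff e.mapSubgroup (M i)).2 (hM i).1
    have hL : ¬ (Matrix.ProjGenLinGroup.mk.comp Matrix.SpecialLinearGroup.toGL).range ≤ (M i).map e.toMonoidHom := by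
      intro h
      apply (hM i).2
      intro x hx
      obtain ⟨y, hy, hyx⟩ := h (he ⟨x, hx, rfl⟩)
      have : y = x := e.injective hyx
      rwa [← this]
    have hodd : Odd (Fintype.card F) := by rw [h7]; decide
    have hcm : Nat.card ((M i).map e.toMonoidHom) = Nat.card (M i) := Subgroup.card_map_of_injective e.injective
    have hmul : Nat.card (M i) * (M i).index = 336 := by rw [Subgroup.card_mul_index, hcX]
    rcases S5891.result hodd (by omega) _ hco hL with h | ⟨-, ⟨g⟩⟩ | ⟨⟨g⟩⟩ | ⟨-, h, -⟩ | ⟨F₀, _, _, r, hr, hro, hF0, -⟩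
    · rw [hcm, h7] at h
      rw [h] at hmul
      omega
    · have h3 := Nat.card_congr g.toEquiv
      rw [hcm, DihedralGroup.nat_card, h7] at h3
      rw [h3] at hmul
      omega
    · have h3 := Nat.card_congr g.toEquiv
      rw [hcm, DihedralGroup.nat_card, h7] at h3
      rw [h3] at hmul
      omega
    · omega
    · exfalso
      rw [h7] at hF0
      have h3 : 2 ≤ Fintype.card F₀ := Fintype.one_lt_card
      have h4 : 3 ≤ r := by
        have := hr.two_le
        obtain ⟨m, hm⟩ := hro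
        omega
      have h5 : 2 ^ 3 ≤ Fintype.card F₀ ^ r := (Nat.pow_le_pow_left h3 3).trans (Nat.pow_le_pow_right (by omega) h4)
      omega
  have hr : ∀ r : ℕ, r.Prime → r ∣ 168 → ∃ i : Fin 2, (M i).index % r = 1 := by
    intro r hr hr168
    have := Fact.mk hr
    obtain ⟨i, R, hRi⟩ := hR r (by rw [hcS]; exact hr168)
    have h4 := index_modEq (sup_eq_top_of_coatom (hM i).1 (hM i).2) R hRi
    exact ⟨i, by rw [h4]; exact Nat.mod_eq_of_lt hr.one_lt⟩
  obtain ⟨i2, h2'⟩ := hr 2 (by norm_num) (by norm_num)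
  obtain ⟨i3, h3'⟩ := hr 3 (by norm_num) (by norm_num)
  obtain ⟨i7, h7'⟩ := hr 7 (by norm_num) (by norm_num)
  have k2 : (M i2).index = 21 := by rcases hidx i2 with h | h | h <;> omega
  have k3 : (M i3).index = 28 := by rcases hidx i3 with h | h | h <;> omega
  have k7 : (M i7).index = 8 := by rcases hidx i7 with h | h | h <;> omega
  have n1 : i2 ≠ i3 := by rintro rfl; omega
  have n2 : i2 ≠ i7 := by rintro rfl; omega
  have n3 : i3 ≠ i7 := by rintro rfl; omega
  omega

/-- **the row `L₂(q)`** -/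
theorem supp_psl2 {F : Type v} [Field F] [Fintype F] (h4 : 4 ≤ Fintype.card F)
    (hs : IsSimpleGroup (Matrix.ProjectiveSpecialLinearGroup (Fin 2) F)) :
    Supp.{u} 3 (Matrix.ProjectiveSpecialLinearGroup (Fin 2) F) := by
  by_cases h7 : Fintype.card F = 7
  · exact supp_seven h7 hs
  · exact supp_ne_seven h4 h7 hs

end Cfsg.Agent.H339.RowPsl
end

-- part: H339/RowAlt
section
/-!
# Row `A_n`, `n ≥ 7`, of S5907 (helper339)
-/

set_option autoImplicit false
set_option linter.unusedSectionVars false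

namespace Cfsg.Agent.H339.RowAlt

open Subgroup MulAction Cfsg.Agent.H339.MaxCl
open scoped Pointwise

universe u v

variable {n : ℕ}

theorem index_stab (hn : 3 ≤ n) {k : ℕ} (s : Set.powersetCard (Fin n) k) :
    (stabilizer (alternatingGroup (Fin n)) s).index = n.choose k := by
  have h3 : 3 ≤ Nat.card (Fin n) := by rw [Nat.card_eq_fintype_card, Fintype.card_fin]; exact hn
  have := Set.powersetCard.isPretransitive_alternatingGroup (α := Fin n) (n := k) h3
  rw [MulAction.index_stabilizer, MulAction.orbit_eq_univ, Set.ncard_univ, Set.powersetCard.card,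
    Nat.card_eq_fintype_card, Fintype.card_fin]

theorem isCoatom_stab {k : ℕ} (hk : 1 ≤ k) (hkn : k < n) (h2 : n ≠ 2 * k) (s : Set.powersetCard (Fin n) k) :
    IsCoatom (stabilizer (alternatingGroup (Fin n)) s) := by
  have e : stabilizer (alternatingGroup (Fin n)) s =
      stabilizer (alternatingGroup (Fin n)) ((s : Finset (Fin n)) : Set (Fin n)) := Set.powersetCard.stabilizer_coe s
  rw [e]
  have hc : ((s : Finset (Fin n)) : Set (Fin n)).ncard = k := by
    rw [Set.ncard_coe_finset]; exact s.2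
  have hcn := Set.ncard_add_ncard_compl ((s : Finset (Fin n)) : Set (Fin n))
  rw [hc, Nat.card_eq_fintype_card, Fintype.card_fin] at hcn
  apply alternatingGroup.isCoatom_stabilizer
  · rw [← Set.ncard_pos, hc]; exact hk
  · rw [← Set.ncard_pos]; omega
  · rw [hc, Nat.card_eq_fintype_card, Fintype.card_fin]
    exact h2

theorem autInv_stab (hn : 7 ≤ n) {k : ℕ} (s : Set.powersetCard (Fin n) k) :
    AutInv (stabilizer (alternatingGroup (Fin n)) s) := by
  have h3 : 3 ≤ Nat.card (Fin n) := by rw [Nat.card_eq_fintype_card, Fintype.card_fin]; omega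
  have htr := Set.powersetCard.isPretransitive_alternatingGroup (α := Fin n) (n := k) h3
  intro α
  obtain ⟨σ, hσ⟩ := (S2119.result n (by omega) (by omega)).2 α
  obtain ⟨g, hg⟩ := htr.exists_smul_eq s (σ • s)
  refine ⟨g, ?_⟩
  have hco : ∀ (x : alternatingGroup (Fin n)) (t : Set.powersetCard (Fin n) k), x • t = (x : Equiv.Perm (Fin n)) • t :=
    fun x t => rfl
  ext x
  rw [mem_map_conj]
  have h1 : x ∈ (stabilizer (alternatingGroup (Fin n)) s).map α.toMonoidHom ↔
      α.symm x ∈ stabilizer (alternatingGroup (Fin n)) s := by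
    constructor
    · rintro ⟨y, hy, rfl⟩
      show α.symm (α y) ∈ _
      rw [α.symm_apply_apply]
      exact hy
    · intro h
      exact ⟨α.symm x, h, α.apply_symm_apply x⟩
  have h2 : ((α.symm x : alternatingGroup (Fin n)) : Equiv.Perm (Fin n)) = σ⁻¹ * x * σ := by
    have h4 : α (α.symm x) = x := α.apply_symm_apply x
    have h5 : ((α (α.symm x) : alternatingGroup (Fin n)) : Equiv.Perm (Fin n)) =
        σ * (α.symm x : alternatingGroup (Fin n)) * σ⁻¹ := by
      rw [← hσ]
      rfl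
    rw [h4] at h5
    rw [h5]
    group
  rw [h1, mem_stabilizer_iff, mem_stabilizer_iff, hco, hco (α.symm x), h2]
  rw [hco] at hg
  have e1 : ((g⁻¹ * x * g : alternatingGroup (Fin n)) : Equiv.Perm (Fin n)) =
      (g : Equiv.Perm (Fin n))⁻¹ * (x : Equiv.Perm (Fin n)) * (g : Equiv.Perm (Fin n)) := rfl
  rw [e1, mul_smul, mul_smul, mul_smul, mul_smul, hg, inv_smul_eq_iff, inv_smul_eq_iff, hg]

theorem exists_set {k : ℕ} (hk : k ≤ n) : Nonempty (Set.powersetCard (Fin n) k) := by
  obtain ⟨s, -, hs⟩ := Finset.exists_subset_card_eq (s := (Finset.univ : Finset (Fin n))) (n := k)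
    (by rw [Finset.card_univ, Fintype.card_fin]; exact hk)
  exact ⟨⟨s, hs⟩⟩

theorem sepInv_alt (hn : 7 ≤ n) : SepInv 3 (alternatingGroup (Fin n)) := by
  have hex : ∀ i : Fin 3, Nonempty (Set.powersetCard (Fin n) ((i : ℕ) + 1)) := fun i =>
    exists_set (by have := i.2; omega)
  let s : ∀ i : Fin 3, Set.powersetCard (Fin n) ((i : ℕ) + 1) := fun i => (hex i).some
  have hco : ∀ i : Fin 3, IsCoatom (stabilizer (alternatingGroup (Fin n)) (s i)) := fun i =>
    isCoatom_stab (by omega) (by have := i.2; omega) (by have := i.2; omega) _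
  have hidx : ∀ i : Fin 3, (stabilizer (alternatingGroup (Fin n)) (s i)).index = n.choose ((i : ℕ) + 1) := fun i =>
    index_stab (by omega) _
  have h1 : n.choose 1 = n := Nat.choose_one_right n
  have h2 : n.choose 2 * 2 = n * (n - 1) := by
    rw [Nat.choose_two_right]
    exact Nat.div_mul_cancel (Nat.even_mul_pred_self n).two_dvd
  have h3 : n.choose 3 * 3 = n.choose 2 * (n - 2) := Nat.choose_succ_right_eq n 2
  have hinj : ∀ i j : Fin 3, n.choose ((i : ℕ) + 1) = n.choose ((j : ℕ) + 1) → i = j := by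
    have l12 : n.choose 1 < n.choose 2 := by
      rw [h1]
      have : n * 6 ≤ n * (n - 1) := Nat.mul_le_mul_left _ (by omega)
      omega
    have l23 : n.choose 2 < n.choose 3 := by
      have : n.choose 2 * 5 ≤ n.choose 2 * (n - 2) := Nat.mul_le_mul_left _ (by omega)
      omega
    intro i j h
    fin_cases i <;> fin_cases j <;> simp at h ⊢ <;> omega
  refine ⟨fun i => stabilizer (alternatingGroup (Fin n)) (s i), fun i => ⟨(hco i).1, fun hb => ?_, autInv_stab hn _⟩, ?_⟩
  · -- if trivial, then the group has prime order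
    have h4 := hidx i
    have hb' : stabilizer (alternatingGroup (Fin n)) (s i) = ⊥ := hb
    rw [hb', Subgroup.index_bot] at h4
    have h5 := hco i
    rw [hb'] at h5
    have h6 : ∀ j : Fin 3, n.choose ((j : ℕ) + 1) ≤ Nat.card (alternatingGroup (Fin n)) := fun j => by
      rw [← hidx j]
      exact Nat.le_of_dvd Nat.card_pos (Subgroup.index_dvd_card _)
    have h7 : ∀ j : Fin 3, n.choose ((j : ℕ) + 1) = Nat.card (alternatingGroup (Fin n)) → j = i := fun j hj =>
      hinj j i (hj.trans h4)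
    obtain ⟨j, hj⟩ : ∃ j : Fin 3, j ≠ i := exists_ne i
    have h8 : stabilizer (alternatingGroup (Fin n)) (s j) ≠ ⊥ := by
      intro h9
      apply hj
      apply h7
      rw [← hidx j, h9, Subgroup.index_bot]
    exact (hco j).1 (h5.2 _ (bot_lt_iff_ne_bot.2 h8))
  · intro i j hij H hi g hj
    by_contra hH
    have e1 : stabilizer (alternatingGroup (Fin n)) (s i) = H := by
      by_contra hne
      exact hH ((hco i).2 _ (lt_of_le_of_ne hi hne))
    have hcj : IsCoatom ((stabilizer (alternatingGroup (Fin n)) (s j)).map (MulAut.conj g).toMonoidHom) :=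
      Cj.isCoatom ⟨g, rfl⟩ (hco j)
    have e2 : (stabilizer (alternatingGroup (Fin n)) (s j)).map (MulAut.conj g).toMonoidHom = H := by
      by_contra hne
      exact hH (hcj.2 _ (lt_of_le_of_ne hj hne))
    apply hij
    apply hinj
    rw [← hidx i, ← hidx j, e1, ← e2]
    exact Subgroup.index_map_of_bijective (f := (MulAut.conj g).toMonoidHom) (MulAut.conj g).bijective _

/-- **the row `A_n`** -/
theorem supp_alt (hn : 7 ≤ n) : Supp.{u} 3 (alternatingGroup (Fin n)) :=
  (sepInv_alt hn).supp (alternatingGroup.isSimpleGroup (by rw [Nat.card_eq_fintype_card, Fintype.card_fin]; omega))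

end Cfsg.Agent.H339.RowAlt
end

-- part: H288/BnTwF
section
/-!
# `²F₄(q)`: three classes of supplements (helper288, S5907)
-/

set_option autoImplicit false

namespace Cfsg.Agent.H288.BnTwF

open Cfsg Subgroup Cfsg.Agent.H339.MaxCl Cfsg.Agent.H288.BnSplit

universe u v

/-- the row `²F₄(q)` -/
theorem supp_twF4 {K : Type v} [Field K] [Fintype K] {m : ℕ} (hm : 1 ≤ m) (hK : Fintype.card K = 2 ^ (2 * m + 1))
    [IsSimpleGroup ↥(Lie.twistedF4 K (2 ^ m))] : Supp.{u} 3 ↥(Lie.twistedF4 K (2 ^ m)) := by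
  have : Fact (Nat.Prime 2) := ⟨Nat.prime_two⟩
  obtain ⟨Q, UE, s, t, V, V', hsp, hS, -, nV, nV', iV, iV', cU, -⟩ := H69.OctTwF.exists_pair (K := K) hm hK
  set q : ℕ := 2 ^ (2 * m + 1) with hq
  have hq1 : 1 < q := Nat.one_lt_two_pow (by omega)
  have h1 : Nat.card V * q = q ^ 12 := by
    have := Subgroup.relIndex_mul_relIndex ⊥ V UE bot_le nV.le
    rwa [relIndex_bot_left, relIndex_bot_left, iV, cU] at this
  have h2 : Nat.card V' * q ^ 2 = q ^ 12 := by
    have := Subgroup.relIndex_mul_relIndex ⊥ V' UE bot_le nV'.le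
    rwa [relIndex_bot_left, relIndex_bot_left, iV', cU] at this
  have h3 : Nat.card V = q ^ 11 := Nat.eq_of_mul_eq_mul_right (by omega : 0 < q) (by rw [h1]; ring)
  have h4 : Nat.card V' = q ^ 10 := Nat.eq_of_mul_eq_mul_right (by positivity : 0 < q ^ 2) (by rw [h2]; ring)
  have h5 : Nat.card V' < Nat.card V := by
    rw [h3, h4]
    exact Nat.pow_lt_pow_right hq1 (by norm_num)
  refine supp_rank_two hsp hS ?_ nV nV' ?_ ?_ h5
  · rintro rfl
    have h6 : V ≤ V' := fun v hv => nV'.stab v (nV.le hv) (hsp.le (nV.le (nV.conj_s v hv)))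
    have h7 := Nat.card_le_card_of_injective _ (Subgroup.inclusion_injective h6)
    omega
  · rintro rfl
    rw [Subgroup.card_bot] at h3
    have := Nat.one_lt_pow (by norm_num : (11 : ℕ) ≠ 0) hq1
    omega
  · rintro rfl
    rw [Subgroup.card_bot] at h4
    have := Nat.one_lt_pow (by norm_num : (10 : ℕ) ≠ 0) hq1
    omega

end Cfsg.Agent.H288.BnTwF
end

-- part: H288/BnTwD
section
/-!
# `³D₄(q)`: three classes of supplements (helper288, S5907)
-/

set_option autoImplicit false

namespace Cfsg.Agent.H288.BnTwD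

open Cfsg Cfsg.Agent.H339.MaxCl Cfsg.Agent.H288.BnTwo

universe u v

/-- the row `³D₄(q)` -/
theorem supp_twD4 {K : Type v} [Field K] [Fintype K] {q : ℕ} (hq : IsPrimePow q) (hK : Fintype.card K = q ^ 3)
    [IsSimpleGroup ↥(Lie.twistedD4 K q)] : Supp.{u} 3 ↥(Lie.twistedD4 K q) := by
  obtain ⟨p, hp⟩ := CharP.exists K
  have : Fact p.Prime := ⟨CharP.char_is_prime K p⟩
  obtain ⟨φ, hφ⟩ := ChevalleyStructure.D4Fixed.exists_frob hq hK
  have : Finite CoxeterMatrix.G₂.Group :=
    Nodes.RGDFold.finite_W (hp := Nodes.RGDTwD4.hp) CoxeterMatrix.G₂.toCoxeterSystem Nodes.RGDTwD4.isCartan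
      Nodes.RGDTwD4.foldData
  refine NoSwap.supp (p := p) (noSwap_of_card (Nodes.RGDTwD4.rgd _ hK hφ p) (Nodes.RGDTwD4.G1_eq_top _ hK hφ) ?_)
  exact (Cfsg.Agent.KFacts.TwDFour.Out.card_ne hφ hK hq.one_lt).symm

end Cfsg.Agent.H288.BnTwD
end

-- part: H339/RowKnown
section
/-!
# `Supp 3 K` for the known simple groups, up to `G₂`, Suzuki, Ree, Tits and sporadic groups (helper339, S5907)
-/

set_option autoImplicit false
set_option linter.unusedSectionVars false

namespace Cfsg.Agent.H339.RowKnown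

open Cfsg Cfsg.Agent.H339.MaxCl
open CoxeterSystem Cfsg.Agent.ChevalleyStructure.CoxeterGeom Cfsg.Agent.Tits.Roots Cfsg.Agent.Tits.Core
  Cfsg.Agent.Nodes.Comb Cfsg.Agent.Nodes.Reps Cfsg.Agent.Nodes.BNOf Cfsg.Agent.FixBN
  Cfsg.Agent.Nodes.RGDLib Cfsg.Agent.Nodes.RGDChev Cfsg.Agent.LieRecognition.BNCox
  Cfsg.Agent.TitsThree Cfsg.Agent.Omega.ML.Ex.Typ

universe u v

section

variable {G : Type v} [Group G] [Finite G] [IsSimpleGroup G]

/-- a known simple group of large rank -/
theorem big (hnc : ∃ a b : G, a * b ≠ b * a) (hG : IsKnownSimple' G) :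
    Supp.{u} 3 G ∨ IsAlternating G ∨ H938.SmallRank G ∨ IsSporadicGroup G := by
  have sB : ∀ {p l : ℕ} {M : CoxeterMatrix (Fin l)}, p.Prime → HasRGDT p M G → 3 ≤ l → Supp.{u} 3 G := by
    intro p l M hp h hl
    have : Fact p.Prime := ⟨hp⟩
    exact H288.BnRgd.supp_three hnc h hl
  rcases hG with h | h | h | h | h | h | h | h | h | h
  · exfalso
    have : Fact (Nat.card G).Prime := ⟨h⟩
    have hc : IsCyclic G := isCyclic_of_prime_card rfl
    obtain ⟨a, b, hab⟩ := hnc
    exact hab ((IsCyclic.isMulCommutative (α := G)).is_comm.comm a b)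
  · exact Or.inr (Or.inl h)
  · -- PSL
    obtain ⟨F, i1, i2, n, hn, h23, ⟨e⟩⟩ := h
    obtain ⟨r, hr, hc⟩ := H938.exists_char F
    have : Fact r.Prime := ⟨hr⟩
    rcases Nat.lt_or_ge n 4 with h4 | h4
    · refine Or.inr (Or.inr (Or.inl ?_))
      interval_cases n
      · refine Or.inl ⟨F, i1, i2, ?_, ⟨e⟩⟩
        exact h23 rfl
      · exact Or.inr (Or.inl ⟨F, i1, i2, ⟨e⟩⟩)
    · obtain ⟨n, rfl⟩ : ∃ k, n = k + 1 := ⟨n - 1, by omega⟩
      exact Or.inl (sB hr ((typ_PSL n).of_equiv e.symm) (by omega))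
  · -- PSp
    obtain ⟨F, i1, i2, m, hm, h2, ⟨e⟩⟩ := h
    obtain ⟨r, hr, hc⟩ := H938.exists_char F
    have : Fact r.Prime := ⟨hr⟩
    rcases Nat.eq_or_lt_of_le hm with rfl | h3
    · exact Or.inr (Or.inr (Or.inl (Or.inr (Or.inr (Or.inl ⟨F, i1, i2, h2 rfl, ⟨e⟩⟩)))))
    · exact Or.inl (sB hr ((typ_PSp (by omega)).of_equiv e.symm) (by omega))
  · -- PSU
    obtain ⟨F, i1, i2, n, q, hF, hn, hq, ⟨e⟩⟩ := h
    obtain ⟨r, hr, hc⟩ := H938.exists_char F
    have : Fact r.Prime := ⟨hr⟩
    rcases Nat.lt_or_ge n 6 with h6 | h6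
    · refine Or.inr (Or.inr (Or.inl ?_))
      interval_cases n
      · exact Or.inr (Or.inr (Or.inr (Or.inl ⟨F, i1, i2, q, hF, fun h => hq ⟨rfl, h⟩, ⟨e⟩⟩)))
      · exact Or.inr (Or.inr (Or.inr (Or.inr (Or.inl ⟨F, i1, i2, q, hF, ⟨e⟩⟩))))
      · exact Or.inr (Or.inr (Or.inr (Or.inr (Or.inr (Or.inl ⟨F, i1, i2, q, hF, ⟨e⟩⟩)))))
    · obtain ⟨m, hm, h⟩ := typ_PSU (p := r) hF hn
      exact Or.inl (sB hr (h.of_equiv e.symm) (by omega))
  · -- odd orthogonal
    obtain ⟨F, i1, i2, m, hm, hodd, ⟨e⟩⟩ := h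
    obtain ⟨r, hr, hc⟩ := H938.exists_char F
    have : Fact r.Prime := ⟨hr⟩
    have h2 : (2 : F) ≠ 0 := by
      intro h2
      have h3 : CharP F 2 := CharTwo.of_one_ne_zero_of_two_eq_zero one_ne_zero h2
      obtain ⟨k, -, hk⟩ := FiniteField.card F 2
      rw [hk] at hodd
      exact absurd hodd (by
        rw [Nat.not_odd_iff_even]
        exact (even_two).pow_of_ne_zero k.ne_zero)
    exact Or.inl (sB hr ((H938.typ_PO_odd h2 (by omega)).of_equiv e.symm) hm)
  · obtain ⟨F, i1, i2, m, hm, ⟨e⟩⟩ := h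
    obtain ⟨r, hr, hc⟩ := H938.exists_char F
    have : Fact r.Prime := ⟨hr⟩
    obtain ⟨n, rfl⟩ : ∃ n, m = n + 3 := ⟨m - 3, by omega⟩
    exact Or.inl (sB hr ((typ_PO_plus n).of_equiv e.symm) (by omega))
  · obtain ⟨F, i1, i2, m, a, b, hm, hab, ⟨e⟩⟩ := h
    obtain ⟨r, hr, hc⟩ := H938.exists_char F
    have : Fact r.Prime := ⟨hr⟩
    exact Or.inl (sB hr ((typ_PO_minus hab (by omega)).of_equiv e.symm) (by omega))
  · -- exceptional
    have key : ∀ {D : Lie.ChevalleyDatum} {l : ℕ} {M : CoxeterMatrix (Fin l)}, IsType D l M → 3 ≤ l →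
        D.IsGroupOver G → Supp.{u} 3 G := by
      intro D l M hp hl h
      obtain ⟨F, i1, i2, ⟨e⟩⟩ := h
      obtain ⟨r, hr, hc⟩ := H938.exists_char F
      exact sB hr ((typ_group hp F r).of_equiv e.symm) hl
    rcases h with h | h | h | h | h | h | h | h | h | h | h
    · exact Or.inr (Or.inr (Or.inl (Or.inr (Or.inr (Or.inr (Or.inr (Or.inr (Or.inr (Or.inl h)))))))))
    · exact Or.inl (key (l := 4) (M := CoxeterMatrix.F₄) (by simp [IsType, typeList]) (by norm_num) h)
    · exact Or.inl (key (l := 6) (M := CoxeterMatrix.E₆) (by simp [IsType, typeList]) (by norm_num) h)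
    · exact Or.inl (key (l := 7) (M := CoxeterMatrix.E₇) (by simp [IsType, typeList]) (by norm_num) h)
    · exact Or.inl (key (l := 8) (M := CoxeterMatrix.E₈) (by simp [IsType, typeList]) (by norm_num) h)
    · obtain ⟨K, i1, i2, q, hq, hK, ⟨e⟩⟩ := h
      obtain ⟨r, hr, hc⟩ := H938.exists_char K
      exact Or.inl (sB hr ((typ_twE6 hq hK r).of_equiv e.symm) (by norm_num))
    · exact Or.inr (Or.inr (Or.inl (Or.inr (Or.inr (Or.inr (Or.inr (Or.inr (Or.inr (Or.inr (Or.inl h))))))))))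
    · exact Or.inr (Or.inr (Or.inl (Or.inr (Or.inr (Or.inr (Or.inr (Or.inr (Or.inr (Or.inr (Or.inr
        (Or.inl h)))))))))))
    · exact Or.inr (Or.inr (Or.inl (Or.inr (Or.inr (Or.inr (Or.inr (Or.inr (Or.inr (Or.inr (Or.inr
        (Or.inr (Or.inl h))))))))))))
    · exact Or.inr (Or.inr (Or.inl (Or.inr (Or.inr (Or.inr (Or.inr (Or.inr (Or.inr (Or.inr (Or.inr
        (Or.inr (Or.inr (Or.inl h)))))))))))))
    · exact Or.inr (Or.inr (Or.inl (Or.inr (Or.inr (Or.inr (Or.inr (Or.inr (Or.inr (Or.inr (Or.inr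
        (Or.inr (Or.inr (Or.inr h)))))))))))))
  · exact Or.inr (Or.inr (Or.inr h))

end

/-- the groups not treated here -/
structure Rem (G : Type v) [Group G] : Prop where
  g2 : Lie.IsoChevG2 G → Supp.{u} 3 G
  sz : Lie.IsoSuzuki G → Supp.{u} 3 G
  ree : Lie.IsoRee G → Supp.{u} 3 G
  tits : Lie.IsoTits G → Supp.{u} 3 G
  spor : IsSporadicGroup G → Supp.{u} 3 G

theorem supp_known {G : Type v} [Group G] [Finite G] (hs : IsSimpleGroup G) (hns : ¬ Group.IsSolvable G)
    (hG : IsKnownSimple' G) (R : Rem.{u} G) : Supp.{u} 3 G := by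
  have hnc : ∃ a b : G, a * b ≠ b * a := by
    by_contra hcon
    push Not at hcon
    exact hns (IsSimpleGroup.comm_iff_isSolvable.mp hcon)
  have tr : ∀ {M : Type} [Group M] (e : G ≃* M), ¬ Group.IsSolvable M := fun {M} _ e h =>
    hns (Group.isSolvable_of_isSolvable_injective (f := e.toMonoidHom) e.injective)
  rcases big.{u} hnc hG with h | h | h | h
  · exact h
  · obtain ⟨n, hn, ⟨e⟩⟩ := h
    rcases Nat.lt_or_ge n 7 with h7 | h7
    · have : n = 5 ∨ n = 6 := by omega
      rcases this with rfl | rfl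
      · obtain ⟨F, i1, i2, hF⟩ : ∃ (F : Type) (_ : Field F) (_ : Fintype F), Fintype.card F = 4 := by
          have : Fact (Nat.Prime 2) := ⟨Nat.prime_two⟩
          letI : Fintype (GaloisField 2 2) := Fintype.ofFinite _
          exact ⟨GaloisField 2 2, inferInstance, inferInstance, by
            rw [← Nat.card_eq_fintype_card, GaloisField.card 2 2 (by norm_num)]; norm_num⟩
        obtain ⟨f⟩ := S0252.result hF
        exact (RowPsl.supp_psl2 (by omega) ((e.trans f.symm).symm.isSimpleGroup)).congr (e.trans f.symm).symm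
      · obtain ⟨F, i1, i2, hF⟩ : ∃ (F : Type) (_ : Field F) (_ : Fintype F), Fintype.card F = 9 := by
          have : Fact (Nat.Prime 3) := ⟨Nat.prime_three⟩
          letI : Fintype (GaloisField 3 2) := Fintype.ofFinite _
          exact ⟨GaloisField 3 2, inferInstance, inferInstance, by
            rw [← Nat.card_eq_fintype_card, GaloisField.card 3 2 (by norm_num)]; norm_num⟩
        obtain ⟨f⟩ := S0254.result hF
        exact (RowPsl.supp_psl2 (by omega) ((e.trans f.symm).symm.isSimpleGroup)).congr (e.trans f.symm).symm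
    · exact (RowAlt.supp_alt h7).congr e.symm
  · rcases h with ⟨F, i1, i2, h4, ⟨e⟩⟩ | ⟨F, i1, i2, ⟨e⟩⟩ | ⟨F, i1, i2, h3, ⟨e⟩⟩ | ⟨F, i1, i2, q, hF, hq, ⟨e⟩⟩ |
      ⟨F, i1, i2, q, hF, ⟨e⟩⟩ | ⟨F, i1, i2, q, hF, ⟨e⟩⟩ | h | h | h | h | h | h
    · exact (RowPsl.supp_psl2 h4 (e.symm.isSimpleGroup)).congr e.symm
    · exact (H288.BnPsl.supp_PSL3 (tr e)).congr e.symm
    · have hs' : IsSimpleGroup (PSp 2 F) := e.symm.isSimpleGroup
      by_cases h2 : (2 : F) = 0
      · have hc : CharP F 2 := CharTwo.of_one_ne_zero_of_two_eq_zero one_ne_zero h2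
        have h4 : 4 ≤ Fintype.card F := by
          obtain ⟨n, -, hn⟩ := FiniteField.card F 2
          rcases Nat.lt_or_ge (n : ℕ) 2 with h5 | h5
          · have h6 : (n : ℕ) ≤ 1 := by omega
            have h8 : 2 ^ (n : ℕ) ≤ 2 ^ 1 := Nat.pow_le_pow_right (by norm_num) h6
            omega
          · have h8 : 2 ^ 2 ≤ 2 ^ (n : ℕ) := Nat.pow_le_pow_right (by norm_num) h5
            omega
        exact (H288.BnSp.supp_PSp4_even h4 (tr e)).congr e.symm
      · exact (H288.BnWitt.supp_PSp4 h2 hs').congr e.symm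
    · have hs' : IsSimpleGroup (PSU 3 F q) := e.symm.isSimpleGroup
      have hq2 : 2 < q := by
        have h6 : 1 < Fintype.card F := Fintype.one_lt_card
        have h8 : q ≠ 0 := by rintro rfl; rw [hF] at h6; norm_num at h6
        have h9 : q ≠ 1 := by rintro rfl; rw [hF] at h6; norm_num at h6
        omega
      exact (H288.BnNum.supp_PSU3 hF hq2 (tr e)).congr e.symm
    · exact (H288.BnWitt.supp_PSU4 hF (e.symm.isSimpleGroup)).congr e.symm
    · exact (H288.BnWitt.supp_PSU5 hF (e.symm.isSimpleGroup)).congr e.symm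
    · exact R.g2 h
    · obtain ⟨K, i1, i2, q, hq, hK, ⟨e⟩⟩ := h
      have hs' : IsSimpleGroup ↥(Lie.twistedD4 K q) := e.symm.isSimpleGroup
      exact (H288.BnTwD.supp_twD4 hq hK).congr e.symm
    · exact R.sz h
    · exact R.ree h
    · obtain ⟨K, i1, i2, m, hm, hK, ⟨e⟩⟩ := h
      have hs' : IsSimpleGroup ↥(Lie.twistedF4 K (2 ^ m)) := e.symm.isSimpleGroup
      exact (H288.BnTwF.supp_twF4 hm hK).congr e.symm
    · exact R.tits h
  · exact R.spor h

end Cfsg.Agent.H339.RowKnown
end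

-- part: H339/MaxNum
section
/-!
# Two coprime indices: the numerical check (helper339, S5907)

`check l b a` : with `l` the factorization of `n` (the prime `2` excluded, exponent `a`), there are no divisors `d, e ≥ b` of `n` such that
each prime divisor `r` of `n` has `d ≡ 1` or `e ≡ 1` mod `r`.
-/

set_option autoImplicit false

namespace Cfsg.Agent.H339.MaxNum

open Cfsg.Agent.OrdDiv Cfsg.Agent.H339.MaxCl

universe u v

def powAll (p : ℕ) (Q : ℕ → Bool) : ℕ → ℕ → Bool
  | 0, m => Q m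
  | e + 1, m => bif Q m then powAll p Q e (Nat.mul m p) else false

def allD (Q : ℕ → Bool) : List (ℕ × ℕ) → ℕ → Bool
  | [], m => Q m
  | x :: l, m => powAll x.1 (allD Q l) x.2 m

def anyNe (e : ℕ) : List ℕ → Bool
  | [] => false
  | p :: l => bif Nat.beq (Nat.mod e p) 1 then anyNe e l else true

def splitD (d : ℕ) (k : List ℕ → List (ℕ × ℕ) → Bool) : List (ℕ × ℕ) → List ℕ → List (ℕ × ℕ) → Bool
  | [], bs, gs => k bs gs
  | x :: l, bs, gs => bif Nat.beq (Nat.mod d x.1) 1 then splitD d k l bs (x :: gs) else splitD d k l (x.1 :: bs) gs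

/-- membership -/
def memB (e : ℕ) : List ℕ → Bool
  | [] => false
  | p :: l => bif Nat.beq e p then true else memB e l

def inner (l : List (ℕ × ℕ)) (b : ℕ) (dead : List ℕ) (d : ℕ) : Bool :=
  bif Nat.blt d b then true else bif memB d dead then true else
    splitD d (fun bs gs => allD (fun e => bif Nat.blt e b then true else bif anyNe e bs then true else memB e dead) gs 1)
      l [] []

def check (l : List (ℕ × ℕ)) (b a : ℕ) (dead : List ℕ) : Bool := allD (inner ((2, a) :: l) b dead) l 1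

section sound

theorem powAll_sound {p : ℕ} {Q : ℕ → Bool} : ∀ {e m : ℕ}, powAll p Q e m = true → ∀ k, k ≤ e → Q (m * p ^ k) = true := by
  intro e
  induction e with
  | zero =>
    intro m h k hk
    have : k = 0 := by omega
    rw [this, pow_zero, mul_one]
    exact h
  | succ e ih =>
    intro m h k hk
    unfold powAll at h
    cases hQ : Q m with
    | false => rw [hQ, cond_false] at h; exact absurd h Bool.false_ne_true
    | true =>
      rw [hQ, cond_true] at h
      cases k with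
      | zero => rw [pow_zero, mul_one]; exact hQ
      | succ k =>
        have h1 := ih h k (by omega)
        have e1 : m * p ^ (k + 1) = Nat.mul m p * p ^ k := by
          show m * p ^ (k + 1) = m * p * p ^ k
          ring
        rw [e1]
        exact h1

theorem allD_sound {Q : ℕ → Bool} : ∀ {l : List (ℕ × ℕ)} {m : ℕ}, allD Q l m = true → (∀ x ∈ l, (x.1).Prime) →
    ∀ d, d ∣ prodl l → Q (m * d) = true := by
  intro l
  induction l with
  | nil =>
    intro m h _ d hd
    have : d = 1 := Nat.dvd_one.1 hd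
    rw [this, mul_one]
    exact h
  | cons x l ih =>
    intro m h hp d hd
    have h1 : prodl (x :: l) = x.1 ^ x.2 * prodl l := by
      unfold prodl
      rw [List.map_cons, List.prod_cons]
    rw [h1] at hd
    obtain ⟨a, b, ha, hb, rfl⟩ := (Nat.dvd_mul).1 hd
    obtain ⟨k, hk, rfl⟩ := (Nat.dvd_prime_pow (hp x List.mem_cons_self)).1 ha
    have h2 := powAll_sound h k hk
    have h3 := ih h2 (fun y hy => hp y (List.mem_cons_of_mem _ hy)) b hb
    rw [← mul_assoc]
    exact h3

theorem anyNe_sound {e : ℕ} : ∀ {l : List ℕ}, anyNe e l = true → ∃ p ∈ l, e % p ≠ 1 := by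
  intro l
  induction l with
  | nil => intro h; exact absurd h Bool.false_ne_true
  | cons p l ih =>
    intro h
    unfold anyNe at h
    cases hb : Nat.beq (Nat.mod e p) 1 with
    | false =>
      refine ⟨p, List.mem_cons_self, fun h1 => ?_⟩
      have h2 : Nat.mod e p = 1 := h1
      rw [h2] at hb
      exact absurd hb (by decide)
    | true =>
      rw [hb, cond_true] at h
      obtain ⟨q, hq, hq'⟩ := ih h
      exact ⟨q, List.mem_cons_of_mem _ hq, hq'⟩

theorem memB_sound {e : ℕ} : ∀ {l : List ℕ}, memB e l = true → e ∈ l := by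
  intro l
  induction l with
  | nil => intro h; exact absurd h Bool.false_ne_true
  | cons p l ih =>
    intro h
    unfold memB at h
    cases hb : Nat.beq e p with
    | true =>
      rw [Nat.eq_of_beq_eq_true hb]
      exact List.mem_cons_self
    | false =>
      rw [hb, cond_false] at h
      exact List.mem_cons_of_mem _ (ih h)

theorem splitD_sound {d : ℕ} {k : List ℕ → List (ℕ × ℕ) → Bool} : ∀ {l : List (ℕ × ℕ)} {bs : List ℕ} {gs : List (ℕ × ℕ)},
    splitD d k l bs gs = true → ∃ (bs' : List ℕ) (gs' : List (ℕ × ℕ)), k bs' gs' = true ∧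
      (∀ p ∈ bs', p ∈ bs ∨ ∃ x ∈ l, x.1 = p ∧ d % p ≠ 1) ∧ (∀ x ∈ gs', x ∈ gs ∨ x ∈ l) ∧
      ∀ e, e ∣ prodl l * prodl gs → (∀ x ∈ l, d % x.1 ≠ 1 → Nat.Coprime e x.1) → e ∣ prodl gs' := by
  intro l
  induction l with
  | nil =>
    intro bs gs h
    refine ⟨bs, gs, h, fun p hp => Or.inl hp, fun x hx => Or.inl hx, fun e he _ => ?_⟩
    simpa [prodl] using he
  | cons x l ih =>
    intro bs gs h
    unfold splitD at h
    have hx : prodl (x :: l) = x.1 ^ x.2 * prodl l := by
      unfold prodl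
      rw [List.map_cons, List.prod_cons]
    cases hb : Nat.beq (Nat.mod d x.1) 1 with
    | true =>
      rw [hb, cond_true] at h
      obtain ⟨bs', gs', h1, h2, h3, h4⟩ := ih h
      refine ⟨bs', gs', h1, ?_, ?_, ?_⟩
      · intro p hp
        rcases h2 p hp with h | ⟨y, hy, hy'⟩
        · exact Or.inl h
        · exact Or.inr ⟨y, List.mem_cons_of_mem _ hy, hy'⟩
      · intro y hy
        rcases h3 y hy with h | h
        · rcases List.mem_cons.1 h with h | h
          · exact Or.inr (by rw [h]; exact List.mem_cons_self)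
          · exact Or.inl h
        · exact Or.inr (List.mem_cons_of_mem _ h)
      · intro e he hc
        refine h4 e ?_ fun y hy => hc y (List.mem_cons_of_mem _ hy)
        have hg : prodl (x :: gs) = x.1 ^ x.2 * prodl gs := by
          unfold prodl
          rw [List.map_cons, List.prod_cons]
        rw [hg]
        rw [hx] at he
        have e1 : prodl l * (x.1 ^ x.2 * prodl gs) = x.1 ^ x.2 * prodl l * prodl gs := by ring
        rw [e1]
        exact he
    | false =>
      rw [hb, cond_false] at h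
      have hd : d % x.1 ≠ 1 := by
        intro h1
        have h2 : Nat.mod d x.1 = 1 := h1
        rw [h2] at hb
        exact absurd hb (by decide)
      obtain ⟨bs', gs', h1, h2, h3, h4⟩ := ih h
      refine ⟨bs', gs', h1, ?_, ?_, ?_⟩
      · intro p hp
        rcases h2 p hp with h | ⟨y, hy, hy'⟩
        · rcases List.mem_cons.1 h with h | h
          · exact Or.inr ⟨x, List.mem_cons_self, h.symm, by rw [h]; exact hd⟩
          · exact Or.inl h
        · exact Or.inr ⟨y, List.mem_cons_of_mem _ hy, hy'⟩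
      · intro y hy
        rcases h3 y hy with h | h
        · exact Or.inl h
        · exact Or.inr (List.mem_cons_of_mem _ h)
      · intro e he hc
        refine h4 e ?_ fun y hy => hc y (List.mem_cons_of_mem _ hy)
        rw [hx, mul_assoc] at he
        have h5 : Nat.Coprime e (x.1 ^ x.2) := Nat.Coprime.pow_right _ (hc x List.mem_cons_self hd)
        exact h5.dvd_of_dvd_mul_left he

theorem no_pair {l : List (ℕ × ℕ)} {n b a : ℕ} {dead : List ℕ} (hv : valid ((2, a) :: l) n = true)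
    (hpos : ((2, a) :: l).all (fun x => Nat.blt 0 x.2) = true) (hb : ¬ n ∣ (b - 1).factorial) (hc : check l b a dead = true) {d e : ℕ} (hd1 : d ≠ 1)
    (he1 : e ≠ 1) (hdd : d ∉ dead) (hde : e ∉ dead) (hd : d ∣ n) (he : e ∣ n) (hdf : n ∣ d.factorial) (hef : n ∣ e.factorial) :
    ∃ r : ℕ, r.Prime ∧ r ∣ n ∧ d % r ≠ 1 ∧ e % r ≠ 1 := by
  by_contra hcon
  push Not at hcon
  have hpr := valid_prime hv
  have hn : prodl ((2, a) :: l) = n := valid_prod hv
  have hx : prodl ((2, a) :: l) = 2 ^ a * prodl l := by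
    unfold prodl
    rw [List.map_cons, List.prod_cons]
  have hpos' : ∀ x ∈ ((2, a) :: l : List (ℕ × ℕ)), x.2 ≠ 0 := by
    intro x hx
    have := (List.all_eq_true.1 hpos) x hx
    rw [Nat.blt_eq] at this
    omega
  have ha : a ≠ 0 := hpos' (2, a) List.mem_cons_self
  have h2n : 2 ∣ n := by
    rw [← hn, hx]
    exact (dvd_pow_self 2 (by omega)).trans (dvd_mul_right _ _)
  have hge : ∀ c : ℕ, n ∣ c.factorial → b ≤ c := by
    intro c hcf
    by_contra hlt
    exact hb (hcf.trans (Nat.factorial_dvd_factorial (by omega)))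
  have hdvd : ∀ x ∈ ((2, a) :: l : List (ℕ × ℕ)), x.2 ≠ 0 → x.1 ∣ n := by
    intro x hxl hx2
    rw [← hn]
    have h1 : x.1 ^ x.2 ∣ prodl ((2, a) :: l) := List.dvd_prod (List.mem_map_of_mem hxl)
    exact (dvd_pow_self _ hx2).trans h1
  -- one direction
  have key : ∀ d e : ℕ, d ≠ 1 → e ≠ 1 → d ∉ dead → e ∉ dead → d ∣ n → e ∣ n → b ≤ d → b ≤ e → d % 2 = 1 →
      (∀ r : ℕ, r.Prime → r ∣ n → d % r ≠ 1 → e % r = 1) → False := by
    intro d e hd1 he1 hdd hde hd he hdb heb hd2 hr
    have hdl : d ∣ prodl l := by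
      have h1 : Nat.Coprime d (2 ^ a) := by
        apply Nat.Coprime.pow_right
        rw [Nat.coprime_comm, Nat.Prime.coprime_iff_not_dvd Nat.prime_two]
        omega
      rw [← hn, hx] at hd
      exact h1.dvd_of_dvd_mul_left hd
    have h1 := allD_sound hc (fun x hx => hpr x (List.mem_cons_of_mem _ hx)) d hdl
    rw [one_mul] at h1
    unfold inner at h1
    have hblt : Nat.blt d b = false := by
      rw [← Bool.not_eq_true, Nat.blt_eq]
      omega
    have hmd : memB d dead = false := by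
      rw [← Bool.not_eq_true]
      exact fun h => hdd (memB_sound h)
    rw [hblt, cond_false, hmd, cond_false] at h1
    obtain ⟨bs, gs, h2, h3, h4, h5⟩ := splitD_sound h1
    have hebl : ∀ x ∈ ((2, a) :: l : List (ℕ × ℕ)), d % x.1 ≠ 1 → x.2 ≠ 0 → e % x.1 = 1 := fun x hxl hdx hx2 =>
      hr x.1 (hpr x hxl) (hdvd x hxl hx2) hdx
    have hpos2 : ∀ x ∈ ((2, a) :: l : List (ℕ × ℕ)), x.2 = 0 → Nat.Coprime e x.1 := by
      intro x hxl hx2
      rw [Nat.coprime_comm, Nat.Prime.coprime_iff_not_dvd (hpr x hxl)]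
      intro hxe
      have h6 := valid_exact hv x hxl
      rw [hx2, zero_add, pow_one] at h6
      exact h6 (hxe.trans he)
    have heg : e ∣ prodl gs := by
      refine h5 e ?_ ?_
      · rw [hn]
        exact he.trans (dvd_mul_right _ _)
      · intro x hxl hdx
        by_cases hx2 : x.2 = 0
        · exact hpos2 x hxl hx2
        · rw [Nat.coprime_comm, Nat.Prime.coprime_iff_not_dvd (hpr x hxl)]
          intro hxe
          have h6 := hebl x hxl hdx hx2
          rw [Nat.mod_eq_zero_of_dvd hxe] at h6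
          exact absurd h6 (by norm_num)
    have hgp : ∀ x ∈ gs, (x.1).Prime := by
      intro x hx
      rcases h4 x hx with h | h
      · exact absurd h List.not_mem_nil
      · exact hpr x h
    have h6 := allD_sound h2 hgp e heg
    rw [one_mul] at h6
    have hblt' : Nat.blt e b = false := by
      rw [← Bool.not_eq_true, Nat.blt_eq]
      omega
    rw [hblt', cond_false] at h6
    have hany : anyNe e bs = true := by
      cases ha : anyNe e bs with
      | true => rfl
      | false =>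
        rw [ha, cond_false] at h6
        exact absurd (memB_sound h6) hde
    obtain ⟨p, hp, hp'⟩ := anyNe_sound hany
    rcases h3 p hp with h | ⟨x, hxl, rfl, hdx⟩
    · exact absurd h List.not_mem_nil
    · exact hp' (hebl x hxl hdx (hpos' x hxl))
  have hr2 := hcon 2 Nat.prime_two h2n
  by_cases h2 : d % 2 = 1
  · exact key d e hd1 he1 hdd hde hd he (hge d hdf) (hge e hef) h2 fun r hr hrn hdr => hcon r hr hrn hdr
  · refine key e d he1 hd1 hde hdd he hd (hge e hef) (hge d hdf) (hr2 h2) fun r hr hrn her => ?_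
    by_contra h
    exact her (hcon r hr hrn h)

end sound

/-- **rows by arithmetic** -/
theorem supp_of_check {K : Type v} [Group K] [Finite K] (hsimp : IsSimpleGroup K) (hns : ¬ Group.IsSolvable K)
    {l : List (ℕ × ℕ)} {n b a : ℕ} (dead : List ℕ) (hn : Nat.card K = n) (hv : valid ((2, a) :: l) n = true)
    (hpos : ((2, a) :: l).all (fun x => Nat.blt 0 x.2) = true) (hb : ¬ n ∣ (b - 1).factorial)
    (hc : check l b a dead = true) (hdead : ∀ H : Subgroup K, H.index ∉ dead) : Supp.{u} 3 K := by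
  rintro X _ _ S _ ⟨f⟩ _ _ _ _
  have h1 : IsSimpleGroup ↥S := f.isSimpleGroup
  have h2 : ¬ Group.IsSolvable ↥S := fun h =>
    hns (Group.isSolvable_of_isSolvable_injective (f := f.symm.toMonoidHom) f.symm.injective)
  have hcard : Nat.card S = n := by rw [← hn]; exact Nat.card_congr f.toEquiv
  by_contra hcon
  obtain ⟨M, hM, -, hR⟩ := exists_indices h1 h2 (n := 2) (by norm_num) hcon
  have hidx : ∀ i, (M i).index = ((M i).subgroupOf S).index := fun i =>
    index_eq (sup_eq_top_of_coatom (hM i).1 (hM i).2)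
  have hnd : ∀ i, (M i).index ∉ dead := by
    intro i h
    rw [hidx i] at h
    refine hdead (((M i).subgroupOf S).map f.toMonoidHom) ?_
    rwa [Subgroup.index_map_of_bijective (f := f.toMonoidHom) f.bijective]
  have h3 : ∀ i, (M i).index ≠ 1 ∧ (M i).index ∣ n ∧ n ∣ ((M i).index).factorial := by
    intro i
    refine ⟨fun e => (hM i).1.1 (Subgroup.index_eq_one.1 e), ?_, ?_⟩
    · rw [hidx i, ← hcard]
      exact Subgroup.index_dvd_card _
    · rw [hidx i, ← hcard]
      refine Cfsg.Agent.H940.MaxCls.card_dvd_factorial ?_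
      rw [Ne, Subgroup.subgroupOf_eq_top]
      exact (hM i).2
  obtain ⟨r, hr1, hr2, hr3, hr4⟩ := no_pair hv hpos hb hc (h3 0).1 (h3 1).1 (hnd 0) (hnd 1) (h3 0).2.1 (h3 1).2.1
    (h3 0).2.2 (h3 1).2.2
  have := Fact.mk hr1
  obtain ⟨i, R, hRi⟩ := hR r (by rw [hcard]; exact hr2)
  have h4 := index_modEq (sup_eq_top_of_coatom (hM i).1 (hM i).2) R hRi
  have h5 : (M i).index % r = 1 := by
    rw [h4]
    exact Nat.mod_eq_of_lt hr1.one_lt
  fin_cases i
  · exact hr3 h5
  · exact hr4 h5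

end Cfsg.Agent.H339.MaxNum
end

-- part: H339/SupCtx
section
/-!
# `Supp 3` from a context of the engine, and from `|Out| = 1` (helper339, S5907)
-/

set_option autoImplicit false

namespace Cfsg.Agent.H339.MaxNum

open Cfsg.Agent.OrdDiv Cfsg.Agent.H339.MaxCl Cfsg.Agent.H940.Eng

universe u v

/-- rows by arithmetic, the indices in `dead` being excluded by the local data -/
theorem supp_of_ctx {K : Type v} [Group K] {l : List (ℕ × ℕ)} {n b a : ℕ} {ords : List ℕ} {loc : List LD}
    (c : Ctx K ((2, a) :: l) n ords loc) (hns : ¬ Group.IsSolvable K) (dead : List ℕ)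
    (hpos : ((2, a) :: l).all (fun x => Nat.blt 0 x.2) = true) (hb : ¬ n ∣ (b - 1).factorial)
    (hc : check l b a dead = true)
    (hdead : (dead.all fun d => d != 1 && d != 0 && bad ((2, a) :: l) n [] 0 loc ords (n / d)) = true) :
    ∃ _ : Finite K, Supp.{u} 3 K := by
  have := c.fin
  have hs := c.simple
  refine ⟨this, supp_of_check hs hns dead c.card c.val hpos hb hc fun H hH => ?_⟩
  rw [List.all_eq_true] at hdead
  have h1 := hdead _ hH
  rw [Bool.and_eq_true, Bool.and_eq_true, bne_iff_ne, bne_iff_ne] at h1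
  obtain ⟨⟨h2, h3⟩, h4⟩ := h1
  have hne : H ≠ ⊤ := fun h => h2 (Subgroup.index_eq_one.2 h)
  have h5 := not_bad (full := []) (bd := 0) c.val c.card c.ords c.loc (H := H)
    (fun p hp => absurd hp List.not_mem_nil) hne
  have h6 : n / H.index = Nat.card H := by
    rw [← c.card]
    exact Nat.div_eq_of_eq_mul_left (Nat.pos_of_ne_zero Subgroup.index_ne_zero_of_finite) (Subgroup.card_mul_index H).symm
  rw [h6, h5] at h4
  exact Bool.false_ne_true h4

/-- vacuous rows -/
theorem supp_of_out {n : ℕ} {K : Type v} [Group K] (h : Nat.card (Cfsg.Out K) = 1) : Supp.{u} n K := by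
  rintro X _ _ S hSn ⟨f⟩ hC hne _ _
  exfalso
  apply hne
  rw [eq_top_iff]
  intro x _
  have hsub : Subsingleton (Cfsg.Out K) := (Nat.card_eq_one_iff_unique.1 h).1
  -- the automorphism of `K` induced by `x`
  let φ : MulAut K := (f.symm.trans (MulAut.conjNormal x : MulAut ↥S)).trans f
  have h1 : φ ∈ Cfsg.Inn K := by
    rw [← QuotientGroup.eq_one_iff]
    exact Subsingleton.elim _ _
  obtain ⟨k, hk⟩ := h1
  have hk' : ∀ y : K, k * y * k⁻¹ = φ y := by
    intro y
    rw [← hk]
    rfl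
  have h2 : ((f.symm k : ↥S) : X)⁻¹ * x ∈ Subgroup.centralizer (S : Set X) := by
    rw [Subgroup.mem_centralizer_iff]
    intro s hs
    have h3 := hk' (f ⟨s, hs⟩)
    have h4 : φ (f ⟨s, hs⟩) = f (MulAut.conjNormal x ⟨s, hs⟩) := by
      show f (MulAut.conjNormal x (f.symm (f ⟨s, hs⟩))) = _
      rw [f.symm_apply_apply]
    rw [h4] at h3
    have h5 : f.symm k * ⟨s, hs⟩ * (f.symm k)⁻¹ = MulAut.conjNormal x ⟨s, hs⟩ := by
      apply f.injective
      rw [← h3, map_mul, map_mul, map_inv, f.apply_symm_apply]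
    have h6 : ((f.symm k : ↥S) : X) * s * ((f.symm k : ↥S) : X)⁻¹ = x * s * x⁻¹ := congrArg Subtype.val h5
    have h7 : s * (((f.symm k : ↥S) : X)⁻¹ * x) = ((f.symm k : ↥S) : X)⁻¹ * (((f.symm k : ↥S) : X) * s *
        ((f.symm k : ↥S) : X)⁻¹) * x := by group
    rw [h7, h6]
    group
  rw [hC, Subgroup.mem_bot] at h2
  have h3 : x = ((f.symm k : ↥S) : X) := by
    rw [← inv_mul_eq_one, ← inv_inj, mul_inv_rev, inv_inv, inv_one]
    exact h2
  rw [h3]
  exact (f.symm k).2

end Cfsg.Agent.H339.MaxNum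
end

-- part: H339/RowSpor
section
/-!
# Sporadic rows of S5907 by arithmetic (helper339)
-/

set_option autoImplicit false

namespace Cfsg.Agent.H339.RowSpor

open Subgroup Cfsg.Agent.OrdDiv Cfsg.Agent.H339.MaxCl Cfsg.Agent.H339.MaxNum Cfsg.Agent.H940.Eng Cfsg.Agent.H393.Iso

universe u v

theorem not_comm_of_card {K : Type v} [Group K] [Finite K] (hs : IsSimpleGroup K) {n : ℕ} (hn : Nat.card K = n)
    (h : (n % 2 == 0 && !(n == 2)) = true) : ¬ ∀ a b : K, a * b = b * a := by
  intro hc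
  rw [Bool.and_eq_true, beq_iff_eq, Bool.not_eq_true', beq_eq_false_iff_ne] at h
  let _ : CommGroup K := { ‹Group K› with mul_comm := hc }
  have h1 : (Nat.card K).Prime := IsSimpleGroup.prime_card
  rw [hn] at h1
  rcases h1.eq_one_or_self_of_dvd 2 (Nat.dvd_of_mod_eq_zero h.1) with h2 | h2
  · omega
  · exact h.2 h2.symm

theorem not_solv_of_card {K : Type v} [Group K] [Finite K] (hs : IsSimpleGroup K) {n : ℕ} (hn : Nat.card K = n)
    (h : (n % 2 == 0 && !(n == 2)) = true) : ¬ Group.IsSolvable K := by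
  intro hc
  exact not_comm_of_card hs hn h (IsSimpleGroup.comm_iff_isSolvable.mpr hc)

section num

variable {K : Type v} [Group K] [Finite K]

theorem m22 (hs : IsSimpleGroup K) (hn : Nat.card K = 443520) : Supp.{u} 3 K :=
  supp_of_check hs (not_solv_of_card hs hn (by decide)) (l := [(3, 2), (5, 1), (7, 1), (11, 1)]) (b := 11) (a := 7) [] hn
    (by decide +kernel) (by decide +kernel) (by decide +kernel) (by decide +kernel) fun _ => List.not_mem_nil

theorem j3 (hs : IsSimpleGroup K) (hn : Nat.card K = 50232960) : Supp.{u} 3 K :=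
  supp_of_check hs (not_solv_of_card hs hn (by decide)) (l := [(3, 5), (5, 1), (17, 1), (19, 1)]) (b := 19) (a := 7) [] hn
    (by decide +kernel) (by decide +kernel) (by decide +kernel) (by decide +kernel) fun _ => List.not_mem_nil

theorem hs (hs : IsSimpleGroup K) (hn : Nat.card K = 44352000) : Supp.{u} 3 K :=
  supp_of_check hs (not_solv_of_card hs hn (by decide)) (l := [(3, 2), (5, 3), (7, 1), (11, 1)]) (b := 15) (a := 9) [] hn
    (by decide +kernel) (by decide +kernel) (by decide +kernel) (by decide +kernel) fun _ => List.not_mem_nil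

private theorem _root_.Cfsg.Agent.KOa661e27.e0.{ku, kv} {α : Type kv} {M : List α → Sort ku} (φ : ∀ l, M l) {z : M List.nil} {s : ∀ a l, M l → M (List.cons a l)} (h0 : φ List.nil = z) (hs : ∀ a l, φ (List.cons a l) = s a l (φ l)) (l : List α) : φ l = @List.rec α M z s l := List.rec h0 (fun a l ih => (hs a l).trans (congrArg (s a l) ih)) l
private theorem _root_.Cfsg.Agent.KOa661e27.e1.{ku} {M : Nat → Sort ku} (φ : ∀ n, M n) {z : M Nat.zero} {s : ∀ n, M n → M (Nat.succ n)} (h0 : φ Nat.zero = z) (hs : ∀ n, φ (Nat.succ n) = s n (φ n)) (n : Nat) : φ n = @Nat.rec M z s n := Nat.rec h0 (fun n ih => (hs n).trans (congrArg (s n) ih)) n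
private noncomputable def _root_.Cfsg.Agent.KOa661e27.k2 : (by first | exact type_of% @Cfsg.Agent.H339.MaxNum.powAll | exact Unit : Sort _) := by first | (refine @Subtype.val _ (fun g => @Cfsg.Agent.H339.MaxNum.powAll = @g) (@Subtype.mk _ _ (@(fun x0 x1 x2 x3 => @Nat.rec.{1} @(fun x4 => ℕ → @Bool) @(fun x4 => @x1 @x4) @(fun x4 x5 x6 => @Bool.rec.{1} @(fun x7 => @Bool) @Bool.false (@x5 (@Nat.mul @x6 @x0)) (@x1 @x6)) @x2 @x3)) ?_); funext a0 a1 a2 a3; refine (congrFun (_root_.Cfsg.Agent.KOa661e27.e1 (fun a2 a3 => @Cfsg.Agent.H339.MaxNum.powAll a0 a1 a2 a3) ?_ (fun c0 => ?_) a2) a3 :) <;> (rfl')) | exact @Cfsg.Agent.H339.MaxNum.powAll | exact ()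
private theorem _root_.Cfsg.Agent.KOa661e27.e2 : (by first | exact @Cfsg.Agent.H339.MaxNum.powAll = @_root_.Cfsg.Agent.KOa661e27.k2 | exact True : Prop) := by first | (delta _root_.Cfsg.Agent.KOa661e27.k2; exact @Subtype.property _ (fun g => @Cfsg.Agent.H339.MaxNum.powAll = @g) _) | rfl | trivial
private noncomputable def _root_.Cfsg.Agent.KOa661e27.k3 : (by first | exact type_of% @Cfsg.Agent.H339.MaxNum.allD | exact Unit : Sort _) := by first | (refine @Subtype.val _ (fun g => @Cfsg.Agent.H339.MaxNum.allD = @g) (@Subtype.mk _ _ (@(fun x0 x1 x2 => @List.rec.{1, 0} (ℕ × ℕ) @(fun x3 => ℕ → @Bool) @(fun x3 => @x0 @x3) @(fun x3 x4 x5 x6 => @Cfsg.Agent.KOa661e27.k2 (@Prod.fst.{0, 0} _ _ @x3) @(fun x7 => @x5 @x7) (@Prod.snd.{0, 0} _ _ @x3) @x6) @x1 @x2)) ?_); rewrite [← Cfsg.Agent.KOa661e27.e2]; funext a0 a1 a2; refine (congrFun (_root_.Cfsg.Agent.KOa661e27.e0 (fun a1 a2 => @Cfsg.Agent.H339.MaxNum.allD a0 a1 a2) ?_ (fun c0 c1 => ?_) a1) a2 :) <;> ((try delta Cfsg.Agent.H339.MaxNum.allD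 Cfsg.Agent.H339.MaxNum.allD._f); (try generalize @Cfsg.Agent.H339.MaxNum.powAll = g0); rfl')) | exact @Cfsg.Agent.H339.MaxNum.allD | exact ()
private theorem _root_.Cfsg.Agent.KOa661e27.e3 : (by first | exact @Cfsg.Agent.H339.MaxNum.allD = @_root_.Cfsg.Agent.KOa661e27.k3 | exact True : Prop) := by first | (delta _root_.Cfsg.Agent.KOa661e27.k3; exact @Subtype.property _ (fun g => @Cfsg.Agent.H339.MaxNum.allD = @g) _) | rfl | trivial
private noncomputable def _root_.Cfsg.Agent.KOa661e27.k4 : (by first | exact type_of% @Cfsg.Agent.H339.MaxNum.splitD | exact Unit : Sort _) := by first | (refine @Subtype.val _ (fun g => @Cfsg.Agent.H339.MaxNum.splitD = @g) (@Subtype.mk _ _ (@(fun x0 x1 x2 x3 x4 => @List.rec.{1, 0} (ℕ × ℕ) @(fun x5 => (@List.{0} ℕ) → (@List.{0} (ℕ × ℕ)) → @Bool) @(fun x5 x6 => @x1 @x5 @x6) @(fun x5 x6 x7 x8 x9 => @Bool.rec.{1} @(fun x10 => @Bool) (@x7 ((@Prod.fst.{0, 0} _ _ @x5) :: @x8) @x9) (@x7 @x8 (@x5 :: @x9)) (@Nat.beq (@Nat.mod @x0 (@Prod.fst.{0,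 0} _ _ @x5)) (nat_lit 1))) @x2 @x3 @x4)) ?_); funext a0 a1 a2 a3 a4; refine (congrFun (congrFun (_root_.Cfsg.Agent.KOa661e27.e0 (fun a2 a3 a4 => @Cfsg.Agent.H339.MaxNum.splitD a0 a1 a2 a3 a4) ?_ (fun c0 c1 => ?_) a2) a3) a4 :) <;> (rfl')) | exact @Cfsg.Agent.H339.MaxNum.splitD | exact ()
private theorem _root_.Cfsg.Agent.KOa661e27.e4 : (by first | exact @Cfsg.Agent.H339.MaxNum.splitD = @_root_.Cfsg.Agent.KOa661e27.k4 | exact True : Prop) := by first | (delta _root_.Cfsg.Agent.KOa661e27.k4; exact @Subtype.property _ (fun g => @Cfsg.Agent.H339.MaxNum.splitD = @g) _) | rfl | trivial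
private noncomputable def _root_.Cfsg.Agent.KOa661e27.k5 : (by first | exact type_of% @Cfsg.Agent.H339.MaxNum.memB | exact Unit : Sort _) := by first | (refine @Subtype.val _ (fun g => @Cfsg.Agent.H339.MaxNum.memB = @g) (@Subtype.mk _ _ (@(fun x0 x1 => @List.rec.{1, 0} ℕ @(fun x2 => @Bool) @Bool.false @(fun x2 x3 x4 => @Bool.rec.{1} @(fun x5 => @Bool) @x4 @Bool.true (@Nat.beq @x0 @x2)) @x1)) ?_); funext a0 a1; refine (_root_.Cfsg.Agent.KOa661e27.e0 (fun a1 => @Cfsg.Agent.H339.MaxNum.memB a0 a1) ?_ (fun c0 c1 => ?_) a1 :) <;> (rfl')) | exact @Cfsg.Agent.H339.MaxNum.memB | exact ()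
private theorem _root_.Cfsg.Agent.KOa661e27.e5 : (by first | exact @Cfsg.Agent.H339.MaxNum.memB = @_root_.Cfsg.Agent.KOa661e27.k5 | exact True : Prop) := by first | (delta _root_.Cfsg.Agent.KOa661e27.k5; exact @Subtype.property _ (fun g => @Cfsg.Agent.H339.MaxNum.memB = @g) _) | rfl | trivial
private noncomputable def _root_.Cfsg.Agent.KOa661e27.k6 : (by first | exact type_of% @Cfsg.Agent.H339.MaxNum.anyNe | exact Unit : Sort _) := by first | (refine @Subtype.val _ (fun g => @Cfsg.Agent.H339.MaxNum.anyNe = @g) (@Subtype.mk _ _ (@(fun x0 x1 => @List.rec.{1, 0} ℕ @(fun x2 => @Bool) @Bool.false @(fun x2 x3 x4 => @Bool.rec.{1} @(fun x5 => @Bool) @Bool.true @x4 (@Nat.beq (@Nat.mod @x0 @x2) (nat_lit 1))) @x1)) ?_); funext a0 a1; refine (_root_.Cfsg.Agent.KOa661e27.e0 (fun a1 => @Cfsg.Agent.H339.MaxNum.anyNe a0 a1) ?_ (fun c0 c1 => ?_) a1 :) <;> (rfl')) | exact @Cfsg.Agent.H339.MaxNum.anyNe | exact ()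
private theorem _root_.Cfsg.Agent.KOa661e27.e6 : (by first | exact @Cfsg.Agent.H339.MaxNum.anyNe = @_root_.Cfsg.Agent.KOa661e27.k6 | exact True : Prop) := by first | (delta _root_.Cfsg.Agent.KOa661e27.k6; exact @Subtype.property _ (fun g => @Cfsg.Agent.H339.MaxNum.anyNe = @g) _) | rfl | trivial
private noncomputable def _root_.Cfsg.Agent.KOa661e27.k7 : (by first | exact type_of% @Cfsg.Agent.H339.MaxNum.inner | exact Unit : Sort _) := by first | (refine @Subtype.val _ (fun g => @Cfsg.Agent.H339.MaxNum.inner = @g) (@Subtype.mk _ _ (@(fun x0 x1 x2 x3 => @Bool.rec.{1} @(fun x4 => @Bool) (@Bool.rec.{1} @(fun x4 => @Bool) (@Cfsg.Agent.KOa661e27.k4 @x3 @(fun x4 x5 => @Cfsg.Agent.KOa661e27.k3 @(fun x6 => @Bool.rec.{1} @(fun x7 => @Bool) (@Bool.rec.{1} @(fun x7 => @Bool) (@Cfsg.Agent.KOa661e27.k5 @x6 @x2) @Bool.true (@Cfsg.Agent.KOa661e27.k6 @x6 @x4)) @Bool.true (@Nat.ble (@Nat.succ @x6) @x1)) @x5 (nat_lit 1)) @x0 [] []) @Bool.true (@Cfsg.Agent.KOa661e27.k5 @x3 @x2)) @Bool.true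 (@Nat.ble (@Nat.succ @x3) @x1))) ?_); rewrite [← Cfsg.Agent.KOa661e27.e6, ← Cfsg.Agent.KOa661e27.e5, ← Cfsg.Agent.KOa661e27.e3, ← Cfsg.Agent.KOa661e27.e4]; (try delta Cfsg.Agent.H339.MaxNum.inner); (try generalize @Cfsg.Agent.H339.MaxNum.splitD = g0); (try generalize @Cfsg.Agent.H339.MaxNum.allD = g1); (try generalize @Cfsg.Agent.H339.MaxNum.memB = g2); (try generalize @Cfsg.Agent.H339.MaxNum.anyNe = g3); rfl') | exact @Cfsg.Agent.H339.MaxNum.inner | exact ()
private theorem _root_.Cfsg.Agent.KOa661e27.e7 : (by first | exact @Cfsg.Agent.H339.MaxNum.inner = @_root_.Cfsg.Agent.KOa661e27.k7 | exact True : Prop) := by first | (delta _root_.Cfsg.Agent.KOa661e27.k7; exact @Subtype.property _ (fun g => @Cfsg.Agent.H339.MaxNum.inner = @g) _) | rfl | trivial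
private noncomputable def _root_.Cfsg.Agent.KOa661e27.k8 : (by first | exact type_of% @Cfsg.Agent.H339.MaxNum.check | exact Unit : Sort _) := by first | (refine @Subtype.val _ (fun g => @Cfsg.Agent.H339.MaxNum.check = @g) (@Subtype.mk _ _ (@(fun x0 x1 x2 x3 => @Cfsg.Agent.KOa661e27.k3 (@Cfsg.Agent.KOa661e27.k7 (((nat_lit 2, @x2)) :: @x0) @x1 @x3) @x0 (nat_lit 1))) ?_); rewrite [← Cfsg.Agent.KOa661e27.e7, ← Cfsg.Agent.KOa661e27.e3]; (try delta Cfsg.Agent.H339.MaxNum.check); (try generalize @Cfsg.Agent.H339.MaxNum.allD = g0); (try generalize @Cfsg.Agent.H339.MaxNum.inner = g1); rfl') | exact @Cfsg.Agent.H339.MaxNum.check | exact ()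
private theorem _root_.Cfsg.Agent.KOa661e27.e8 : (by first | exact @Cfsg.Agent.H339.MaxNum.check = @_root_.Cfsg.Agent.KOa661e27.k8 | exact True : Prop) := by first | (delta _root_.Cfsg.Agent.KOa661e27.k8; exact @Subtype.property _ (fun g => @Cfsg.Agent.H339.MaxNum.check = @g) _) | rfl | trivial

theorem mcl (hs : IsSimpleGroup K) (hn : Nat.card K = 898128000) : Supp.{u} 3 K :=
  supp_of_check hs (not_solv_of_card hs hn (by decide)) (l := [(3, 6), (5, 3), (7, 1), (11, 1)]) (b := 15) (a := 7) [] hn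
    (by decide +kernel) (by decide +kernel) (by decide +kernel) (by (first | (rewrite [Cfsg.Agent.KOa661e27.e8]; decide +kernel) | decide +kernel)) fun _ => List.not_mem_nil

theorem fi24 (hs : IsSimpleGroup K) (hn : Nat.card K = 1255205709190661721292800) : Supp.{u} 3 K :=
  supp_of_check hs (not_solv_of_card hs hn (by decide))
    (l := [(3, 16), (5, 2), (7, 3), (11, 1), (13, 1), (17, 1), (23, 1), (29, 1)]) (b := 29) (a := 21) [] hn
    (by decide +kernel) (by decide +kernel) (by decide +kernel) (by (first | (rewrite [Cfsg.Agent.KOa661e27.e8]; decide +kernel) | decide +kernel)) fun _ => List.not_mem_nil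

end num

/-- local data from the primes not adjacent to `r` -/
theorem loc_of_na {G : Type u} [Group G] [Finite G] [IsSimpleGroup G] (hna : ¬ ∀ a b : G, a * b = b * a) {n : ℕ}
    {l : List (ℕ × ℕ)} (hv : valid l n = true) (hn : Nat.card G = n) {r : ℕ} (hr : isPrimeB r = true)
    (h2 : (n % (r ^ 2) != 0) = true) (hrn : (n % r == 0) = true) (hN : NA r G) {C : ℕ} {fN : List (ℕ × ℕ)}
    (hfN : (fN.all fun x => isPrimeB x.1) = true)
    (hc : cnP n r (l.filter fun x => !([2].contains x.1)) (fun c m => C % c == 0 && (prodl fN) % m == 0) = true) :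
    Loc G ⟨r, C, fN⟩ := by
  obtain ⟨R0, hR0⟩ := exists_card_eq (G := G) hr (by
    rw [hn]; exact Nat.dvd_of_mod_eq_zero (by rwa [beq_iff_eq] at hrn))
  have hd : Nat.card (centralizer (R0 : Set G)) ∣ prodl (l.filter fun x => !([2].contains x.1)) := by
    refine dvd_filter hv (by rw [← hn]; exact Subgroup.card_subgroup_dvd_card _) [2] fun p hp => ?_
    rw [List.mem_singleton.1 hp]
    refine not_dvd_cent (prime_of hr) Nat.prime_two hR0 fun y hy hd => ?_
    have := Fact.mk (prime_of hr)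
    obtain ⟨x, hx⟩ := exists_prime_orderOf_dvd_card' r hd
    exact hN x y (by rw [Subgroup.orderOf_coe, hx]) hy (mem_centralizer_singleton_iff.1 x.2)
  refine loc_of_cent hna hn hr h2 ?_ hR0 hd hfN hc
  rw [List.all_eq_true]
  intro x hx
  have h3 := List.mem_of_mem_filter hx
  unfold valid at hv
  rw [Bool.and_eq_true, List.all_eq_true] at hv
  have h4 := hv.1 x h3
  rw [Bool.and_eq_true] at h4
  exact h4.1

/-- local data from a multiple of the orders of the centralizers of the elements of order `r` -/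
theorem loc_of_elt {G : Type u} [Group G] [Finite G] [IsSimpleGroup G] (hna : ¬ ∀ a b : G, a * b = b * a) {n : ℕ}
    (hn : Nat.card G = n) {r : ℕ} (hr : isPrimeB r = true) (h2 : (n % (r ^ 2) != 0) = true) (hrn : (n % r == 0) = true)
    {fC : List (ℕ × ℕ)} (hfC : (fC.all fun x => isPrimeB x.1) = true)
    (hC : ∀ x : G, orderOf x = r → Nat.card (centralizer ({x} : Set G)) ∣ prodl fC) {C : ℕ} {fN : List (ℕ × ℕ)}
    (hfN : (fN.all fun x => isPrimeB x.1) = true)
    (hc : cnP n r fC (fun c m => C % c == 0 && (prodl fN) % m == 0) = true) : Loc G ⟨r, C, fN⟩ := by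
  have := Fact.mk (prime_of hr)
  obtain ⟨x, hx⟩ := exists_prime_orderOf_dvd_card' (G := G) r (by
    rw [hn]; exact Nat.dvd_of_mod_eq_zero (by rwa [beq_iff_eq] at hrn))
  refine loc_of_cent hna hn hr h2 hfC (R0 := zpowers x) (by rw [Nat.card_zpowers, hx]) ?_ hfN hc
  rw [H904.SylOne.centralizer_zpowers_eq]
  exact hC x hx

section loc

variable {K : Type} [Group K] [Finite K]

theorem of_loc (B : Base) (hs : IsSimpleGroup K) {n : ℕ} (hn : Nat.card K = n) (he : (n % 2 == 0 && !(n == 2)) = true)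
    {l : List (ℕ × ℕ)} {a b : ℕ} {ords : List ℕ} (ho : Ords.{0} n ords) (hv : valid ((2, a) :: l) n = true)
    (hnd : (((2, a) :: l).map fun x => x.1).Nodup) {ld : LD} (hl : Loc K ld) (dead : List ℕ)
    (hpos : ((2, a) :: l).all (fun x => Nat.blt 0 x.2) = true) (hb : ¬ n ∣ (b - 1).factorial)
    (hc : check l b a dead = true)
    (hdead : (dead.all fun d => d != 1 && d != 0 && bad ((2, a) :: l) n [] 0 [ld] ords (n / d)) = true) :
    Supp.{u} 3 K := by
  have c : Ctx K ((2, a) :: l) n ords [ld] := ⟨inferInstance, hs, hn, hv, hnd, ho, fun x hx => by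
    rw [List.mem_singleton.1 hx]; exact hl⟩
  obtain ⟨_, h⟩ := supp_of_ctx c (not_solv_of_card hs hn he) dead hpos hb hc hdead
  exact h

theorem m12 (B : Base) (hs : IsSimpleGroup K) (hn : Nat.card K = 95040) (hN : NA 11 K) : Supp.{u} 3 K :=
  of_loc (l := [(3, 3), (5, 1), (11, 1)]) (a := 6) (b := 11) B hs hn (by decide) (D.ords_m12 B) D.v_m12 D.nd_m12
    (ld := ⟨11, 11, [(5, 1), (11, 1)]⟩)
    (loc_of_na (not_comm_of_card hs hn (by decide)) D.v_m12 hn (by decide +kernel) (by decide +kernel) (by decide +kernel)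
      hN (by decide +kernel) (by decide +kernel)) [45] (by decide +kernel) (by decide +kernel) (by decide +kernel)
    (by decide +kernel)

private noncomputable def _root_.Cfsg.Agent.KOa661e27.oEq.{ku} (α : Sort ku) (a b : Nat) (f t : α) : α := @Decidable.rec (a = b) (fun _ => α) (fun _ => f) (fun _ => t) (Nat.decEq a b)
private noncomputable def _root_.Cfsg.Agent.KOa661e27.k9.{ku} (α : Sort ku) (a b : Nat) (f t : α) : α := @Bool.rec (fun _ => α) f t (Nat.beq a b)
private theorem _root_.Cfsg.Agent.KOa661e27.e9.{ku} : @_root_.Cfsg.Agent.KOa661e27.oEq.{ku} = @_root_.Cfsg.Agent.KOa661e27.k9.{ku} := funext fun α => funext fun a => funext fun b => funext fun f => funext fun t => by delta _root_.Cfsg.Agent.KOa661e27.oEq _root_.Cfsg.Agent.KOa661e27.k9; cases h : Nat.beq a b <;> cases Nat.decEq a b <;> rename_i g <;> first | rfl | exact absurd g (Nat.ne_of_beq_eq_false h) | exact absurd (Nat.eq_of_beq_eq_true h) g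
private noncomputable def _root_.Cfsg.Agent.KOa661e27.k10.{ku0} : type_of% @List.all.{ku0} := @(fun x0 x1 x2 => @List.rec.{(ku0+1), ku0} @x0 @(fun x3 => (@x0 → @Bool) → @Bool) @(fun x3 => @Bool.true) @(fun x3 x4 x5 x6 => @Bool.rec.{1} @(fun x7 => @Bool) @Bool.false (@x5 @x6) (@x6 @x3)) @x1 @x2)
private theorem _root_.Cfsg.Agent.KOa661e27.e10.{ku0} : @List.all.{ku0} = @_root_.Cfsg.Agent.KOa661e27.k10.{ku0} := by delta _root_.Cfsg.Agent.KOa661e27.k10; funext a0 a1 a2; refine (congrFun (_root_.Cfsg.Agent.KOa661e27.e0 (fun a1 a2 => @List.all.{ku0} a0 a1 a2) ?_ (fun c0 c1 => ?_) a1) a2 :) <;> (rfl')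
private noncomputable def _root_.Cfsg.Agent.KOa661e27.k11.{ku0} : type_of% @List.append.{ku0} := @(fun x0 x1 x2 => @List.rec.{(ku0+1), ku0} @x0 @(fun x3 => (@List.{ku0} @x0) → @List.{ku0} @x0) @(fun x3 => @x3) @(fun x3 x4 x5 x6 => @x3 :: (@x5 @x6)) @x1 @x2)
private theorem _root_.Cfsg.Agent.KOa661e27.e11.{ku0} : @List.append.{ku0} = @_root_.Cfsg.Agent.KOa661e27.k11.{ku0} := by delta _root_.Cfsg.Agent.KOa661e27.k11; funext a0 a1 a2; refine (congrFun (_root_.Cfsg.Agent.KOa661e27.e0 (fun a1 a2 => @List.append.{ku0} a0 a1 a2) ?_ (fun c0 c1 => ?_) a1) a2 :) <;> (rfl')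
private noncomputable def _root_.Cfsg.Agent.KOa661e27.k12.{ku0} : type_of% @List.flatten.{ku0} := @(fun x0 x1 => @List.rec.{(ku0+1), ku0} (@List.{ku0} @x0) @(fun x2 => @List.{ku0} @x0) [] @(fun x2 x3 x4 => @Cfsg.Agent.KOa661e27.k11.{ku0} _ @x2 @x4) @x1)
private theorem _root_.Cfsg.Agent.KOa661e27.e12.{ku0} : @List.flatten.{ku0} = @_root_.Cfsg.Agent.KOa661e27.k12.{ku0} := by delta _root_.Cfsg.Agent.KOa661e27.k12; rewrite [← Cfsg.Agent.KOa661e27.e11.{ku0}]; funext a0 a1; refine (_root_.Cfsg.Agent.KOa661e27.e0 (fun a1 => @List.flatten.{ku0} a0 a1) ?_ (fun c0 c1 => ?_) a1 :) <;> (rfl')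
private noncomputable def _root_.Cfsg.Agent.KOa661e27.k13.{ku0, ku1} : type_of% @List.map.{ku0, ku1} := @(fun x0 x1 x2 x3 => @List.rec.{(ku1+1), ku0} @x0 @(fun x4 => @List.{ku1} @x1) [] @(fun x4 x5 x6 => (@x2 @x4) :: @x6) @x3)
private theorem _root_.Cfsg.Agent.KOa661e27.e13.{ku0, ku1} : @List.map.{ku0, ku1} = @_root_.Cfsg.Agent.KOa661e27.k13.{ku0, ku1} := by delta _root_.Cfsg.Agent.KOa661e27.k13; funext a0 a1 a2 a3; refine (_root_.Cfsg.Agent.KOa661e27.e0 (fun a3 => @List.map.{ku0, ku1} a0 a1 a2 a3) ?_ (fun c0 c1 => ?_) a3 :) <;> (rfl')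
private noncomputable def _root_.Cfsg.Agent.KOa661e27.k14 : type_of% @List.range.loop := @(fun x0 x1 => @Nat.rec.{1} @(fun x2 => (@List.{0} ℕ) → @List.{0} ℕ) @(fun x2 => @x2) @(fun x2 x3 x4 => @x3 (@x2 :: @x4)) @x0 @x1)
private theorem _root_.Cfsg.Agent.KOa661e27.e14 : @List.range.loop = @_root_.Cfsg.Agent.KOa661e27.k14 := by delta _root_.Cfsg.Agent.KOa661e27.k14; funext a0 a1; refine (congrFun (_root_.Cfsg.Agent.KOa661e27.e1 (fun a0 a1 => @List.range.loop a0 a1) ?_ (fun c0 => ?_) a0) a1 :) <;> (rfl')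
private noncomputable def _root_.Cfsg.Agent.KOa661e27.k15 : (by first | exact type_of% @Cfsg.Agent.H940.Eng.divsT | exact Unit : Sort _) := by first | (refine @Subtype.val _ (fun g => @Cfsg.Agent.H940.Eng.divsT = @g) (@Subtype.mk _ _ (@(fun x0 => @List.rec.{1, 0} (ℕ × ℕ) @(fun x1 => @List.{0} ℕ) ((nat_lit 1) :: []) @(fun x1 x2 x3 => @Cfsg.Agent.KOa661e27.k12.{0} _ (@Cfsg.Agent.KOa661e27.k13.{0, 0} _ _ @(fun x4 => @Cfsg.Agent.KOa661e27.k13.{0, 0} _ _ @(fun x5 => @Nat.mul (@Nat.pow (@Prod.fst.{0, 0} _ _ @x1) @x4) @x5) @x3) (@Cfsg.Agent.KOa661e27.k14 (@Nat.add (@Prod.snd.{0, 0} _ _ @x1) (nat_lit 1)) []))) @x0)) ?_); rewrite [← Cfsg.Agent.KOa661e27.e14, ← Cfsg.Agent.KOa661e27.e13.{0, 0}, ← Cfsg.Agent.KOa661e27.e12.{0}]; funext a0; refine (_root_.Cfsg.Agent.KOa661e27.e0 (fun a0 => @Cfsg.Agent.H940.Eng.divsT a0) ?_ (fun c0 c1 => ?_) a0 :) <;> (rfl')) | exact @Cfsg.Agent.H940.Eng.divsT | exact ()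
private theorem _root_.Cfsg.Agent.KOa661e27.e15 : (by first | exact @Cfsg.Agent.H940.Eng.divsT = @_root_.Cfsg.Agent.KOa661e27.k15 | exact True : Prop) := by first | (delta _root_.Cfsg.Agent.KOa661e27.k15; exact @Subtype.property _ (fun g => @Cfsg.Agent.H940.Eng.divsT = @g) _) | rfl | trivial
private noncomputable def _root_.Cfsg.Agent.KOa661e27.k16 : (by first | exact type_of% @Cfsg.Agent.H940.Eng.cnP | exact Unit : Sort _) := by first | (refine @Subtype.val _ (fun g => @Cfsg.Agent.H940.Eng.cnP = @g) (@Subtype.mk _ _ (@(fun x0 x1 x2 x3 => @Cfsg.Agent.KOa661e27.k10.{0} _ (@Cfsg.Agent.KOa661e27.k15 @x2) @(fun x4 => @Bool.rec.{1} @(fun x5 => @Bool) (@Cfsg.Agent.KOa661e27.k10.{0} _ (@Cfsg.Agent.KOa661e27.k14 @x1 []) @(fun x5 => @Bool.rec.{1} @(fun x6 => @Bool) (@x3 @x4 (@Nat.mul @x4 @x5)) @Bool.true (@Bool.rec.{1} @(fun x6 => @Bool) (@Bool.rec.{1} @(fun x6 => @Bool) @Bool.true @Bool.false (@Cfsg.Agent.KOa661e27.k9.{1} @Bool (@Nat.mod (@Nat.div @x0 (@Nat.mul @x4 @x5))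 @x1) (@Nat.mod (nat_lit 1) @x1) @Bool.false @Bool.true)) @Bool.true (@Bool.rec.{1} @(fun x6 => @Bool) (@Bool.rec.{1} @(fun x6 => @Bool) @Bool.true @Bool.false (@Cfsg.Agent.KOa661e27.k9.{1} @Bool (@Nat.mod @x0 (@Nat.mul @x4 @x5)) (nat_lit 0) @Bool.false @Bool.true)) @Bool.true (@Bool.rec.{1} @(fun x6 => @Bool) (@Bool.rec.{1} @(fun x6 => @Bool) @Bool.true @Bool.false (@Cfsg.Agent.KOa661e27.k9.{1} @Bool (@Nat.mod (@Nat.sub @x1 (nat_lit 1)) @x5) (nat_lit 0) @Bool.false @Bool.true)) @Bool.true (@Nat.ble @x5 (nat_lit 1))))))) @Bool.true (@Bool.rec.{1} @(fun x5 => @Bool) @Bool.true @Bool.false (@Cfsg.Agent.KOa661e27.k9.{1} @Bool (@Nat.mod @x4 @x1) (nat_lit 0) @Bool.false @Bool.true))))) ?_); rewrite [← Cfsg.Agent.KOa661e27.e9.{1}, ← Cfsg.Agent.KOa661e27.e14, ← Cfsg.Agent.KOa661e27.e15, ← Cfsg.Agent.KOa661e27.e10.{0}]; (try delta Cfsg.Agent.H940.Eng.cnP); (try generalize @Cfsg.Agent.H940.Eng.divsT = g0); rfl') | exact @Cfsg.Agent.H940.Eng.cnP | exact ()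
private theorem _root_.Cfsg.Agent.KOa661e27.e16 : (by first | exact @Cfsg.Agent.H940.Eng.cnP = @_root_.Cfsg.Agent.KOa661e27.k16 | exact True : Prop) := by first | (delta _root_.Cfsg.Agent.KOa661e27.k16; exact @Subtype.property _ (fun g => @Cfsg.Agent.H940.Eng.cnP = @g) _) | rfl | trivial
private noncomputable def _root_.Cfsg.Agent.KOa661e27.k17.{ku0} : type_of% @List.filter.{ku0} := @(fun x0 x1 x2 => @List.rec.{(ku0+1), ku0} @x0 @(fun x3 => @List.{ku0} @x0) [] @(fun x3 x4 x5 => @Bool.rec.{(ku0+1)} @(fun x6 => @List.{ku0} @x0) @x5 (@x3 :: @x5) (@x1 @x3)) @x2)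
private theorem _root_.Cfsg.Agent.KOa661e27.e17.{ku0} : @List.filter.{ku0} = @_root_.Cfsg.Agent.KOa661e27.k17.{ku0} := by delta _root_.Cfsg.Agent.KOa661e27.k17; funext a0 a1 a2; refine (_root_.Cfsg.Agent.KOa661e27.e0 (fun a2 => @List.filter.{ku0} a0 a1 a2) ?_ (fun c0 c1 => ?_) a2 :) <;> (rfl')
private noncomputable def _root_.Cfsg.Agent.KOa661e27.k18 : type_of% @Bool.not := @(fun x0 => @Bool.rec.{1} @(fun x1 => @Bool) @Bool.true @Bool.false @x0)
private theorem _root_.Cfsg.Agent.KOa661e27.e18 : @Bool.not = @_root_.Cfsg.Agent.KOa661e27.k18 := by delta _root_.Cfsg.Agent.KOa661e27.k18; rfl'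
private noncomputable def _root_.Cfsg.Agent.KOa661e27.k19.{ku0} : type_of% @List.elem.{ku0} := @(fun x0 x1 x2 x3 => @List.rec.{1, ku0} @x0 @(fun x4 => @Bool) @Bool.false @(fun x4 x5 x6 => @Bool.rec.{1} @(fun x7 => @Bool) @x6 @Bool.true (@BEq.beq.{ku0} _ @x1 @x2 @x4)) @x3)
private theorem _root_.Cfsg.Agent.KOa661e27.e19.{ku0} : @List.elem.{ku0} = @_root_.Cfsg.Agent.KOa661e27.k19.{ku0} := by delta _root_.Cfsg.Agent.KOa661e27.k19; funext a0 a1 a2 a3; refine (_root_.Cfsg.Agent.KOa661e27.e0 (fun a3 => @List.elem.{ku0} a0 a1 a2 a3) ?_ (fun c0 c1 => ?_) a3 :) <;> (rfl')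
private noncomputable def _root_.Cfsg.Agent.KOa661e27.k20.{ku0} : type_of% @List.contains.{ku0} := @(fun x0 x1 x2 x3 => @Cfsg.Agent.KOa661e27.k19.{ku0} _ @x1 @x3 @x2)
private theorem _root_.Cfsg.Agent.KOa661e27.e20.{ku0} : @List.contains.{ku0} = @_root_.Cfsg.Agent.KOa661e27.k20.{ku0} := by delta _root_.Cfsg.Agent.KOa661e27.k20; rewrite [← Cfsg.Agent.KOa661e27.e19.{ku0}]; rfl'
private noncomputable def _root_.Cfsg.Agent.KOa661e27.k21 : type_of% @Nat.decEq := @(fun x0 x1 => @Bool.rec.{1} @(fun x2 => (@Eq.{1} _ (@Nat.beq @x0 @x1) @x2) → @Decidable (@Eq.{1} _ @x0 @x1)) @(fun x2 => @Decidable.isFalse _ (@Nat.ne_of_beq_eq_false _ _ @x2)) @(fun x2 => @Decidable.isTrue _ (@Nat.eq_of_beq_eq_true _ _ @x2)) (@Nat.beq @x0 @x1) (@Eq.refl.{1} _ (@Nat.beq @x0 @x1)))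
private theorem _root_.Cfsg.Agent.KOa661e27.e21 : @Nat.decEq = @_root_.Cfsg.Agent.KOa661e27.k21 := by delta _root_.Cfsg.Agent.KOa661e27.k21; rfl'
private noncomputable def _root_.Cfsg.Agent.KOa661e27.k22 : type_of% @instDecidableEqNat := @Cfsg.Agent.KOa661e27.k21
private theorem _root_.Cfsg.Agent.KOa661e27.e22 : @instDecidableEqNat = @_root_.Cfsg.Agent.KOa661e27.k22 := by delta _root_.Cfsg.Agent.KOa661e27.k22; rewrite [← Cfsg.Agent.KOa661e27.e21]; rfl'
private noncomputable def _root_.Cfsg.Agent.KOa661e27.k23 : type_of% @Bool.and := @(fun x0 x1 => @Bool.rec.{1} @(fun x2 => @Bool) @Bool.false @x1 @x0)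
private theorem _root_.Cfsg.Agent.KOa661e27.e23 : @Bool.and = @_root_.Cfsg.Agent.KOa661e27.k23 := by delta _root_.Cfsg.Agent.KOa661e27.k23; rfl'
private noncomputable def _root_.Cfsg.Agent.KOa661e27.k24.{ku0, ku1} : type_of% @List.foldr.{ku0, ku1} := @(fun x0 x1 x2 x3 x4 => @List.rec.{(ku1+1), ku0} @x0 @(fun x5 => @x1) @x3 @(fun x5 x6 x7 => @x2 @x5 @x7) @x4)
private theorem _root_.Cfsg.Agent.KOa661e27.e24.{ku0, ku1} : @List.foldr.{ku0, ku1} = @_root_.Cfsg.Agent.KOa661e27.k24.{ku0, ku1} := by delta _root_.Cfsg.Agent.KOa661e27.k24; funext a0 a1 a2 a3 a4; refine (_root_.Cfsg.Agent.KOa661e27.e0 (fun a4 => @List.foldr.{ku0, ku1} a0 a1 a2 a3 a4) ?_ (fun c0 c1 => ?_) a4 :) <;> (rfl')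
private noncomputable def _root_.Cfsg.Agent.KOa661e27.k25 : (by first | exact type_of% @Cfsg.Agent.OrdDiv.prodl | exact Unit : Sort _) := by first | (refine @Subtype.val _ (fun g => @Cfsg.Agent.OrdDiv.prodl = @g) (@Subtype.mk _ _ (@(fun x0 => @Cfsg.Agent.KOa661e27.k24.{0, 0} _ _ @(fun x1 x2 => @Nat.mul @x1 @x2) (nat_lit 1) (@Cfsg.Agent.KOa661e27.k13.{0, 0} _ _ @(fun x1 => @Nat.pow (@Prod.fst.{0, 0} _ _ @x1) (@Prod.snd.{0, 0} _ _ @x1)) @x0))) ?_); rewrite [← Cfsg.Agent.KOa661e27.e13.{0, 0}, ← Cfsg.Agent.KOa661e27.e24.{0, 0}]; rfl') | exact @Cfsg.Agent.OrdDiv.prodl | exact ()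
private theorem _root_.Cfsg.Agent.KOa661e27.e25 : (by first | exact @Cfsg.Agent.OrdDiv.prodl = @_root_.Cfsg.Agent.KOa661e27.k25 | exact True : Prop) := by first | (delta _root_.Cfsg.Agent.KOa661e27.k25; exact @Subtype.property _ (fun g => @Cfsg.Agent.OrdDiv.prodl = @g) _) | rfl | trivial
private noncomputable def _root_.Cfsg.Agent.KOa661e27.k26.{ku0} : type_of% @bne.{ku0} := @(fun x0 x1 x2 x3 => @Bool.rec.{1} @(fun x4 => @Bool) @Bool.true @Bool.false (@BEq.beq.{ku0} _ @x1 @x2 @x3))
private theorem _root_.Cfsg.Agent.KOa661e27.e26.{ku0} : @bne.{ku0} = @_root_.Cfsg.Agent.KOa661e27.k26.{ku0} := by delta _root_.Cfsg.Agent.KOa661e27.k26; rfl'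
private noncomputable def _root_.Cfsg.Agent.KOa661e27.k27.{ku0} : type_of% @List.any.{ku0} := @(fun x0 x1 x2 => @List.rec.{(ku0+1), ku0} @x0 @(fun x3 => (@x0 → @Bool) → @Bool) @(fun x3 => @Bool.false) @(fun x3 x4 x5 x6 => @Bool.rec.{1} @(fun x7 => @Bool) (@x5 @x6) @Bool.true (@x6 @x3)) @x1 @x2)
private theorem _root_.Cfsg.Agent.KOa661e27.e27.{ku0} : @List.any.{ku0} = @_root_.Cfsg.Agent.KOa661e27.k27.{ku0} := by delta _root_.Cfsg.Agent.KOa661e27.k27; funext a0 a1 a2; refine (congrFun (_root_.Cfsg.Agent.KOa661e27.e0 (fun a1 a2 => @List.any.{ku0} a0 a1 a2) ?_ (fun c0 c1 => ?_) a1) a2 :) <;> (rfl')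
private noncomputable def _root_.Cfsg.Agent.KOa661e27.k28 : (by first | exact type_of% @Cfsg.Agent.H940.Eng.nuc | exact Unit : Sort _) := by first | (refine @Subtype.val _ (fun g => @Cfsg.Agent.H940.Eng.nuc = @g) (@Subtype.mk _ _ (@(fun x0 x1 x2 x3 x4 => @Bool.rec.{1} @(fun x5 => @Bool) (@Cfsg.Agent.KOa661e27.k27.{0} _ @x0 @(fun x5 => @Bool.rec.{1} @(fun x6 => @Bool) @Bool.false (@Cfsg.Agent.KOa661e27.k9.{1} @Bool (@Nat.mod (@Nat.div @x3 @x5) @x1) (@Nat.mod (nat_lit 1) @x1) @Bool.false @Bool.true) (@Bool.rec.{1} @(fun x6 => @Bool) @Bool.false (@Cfsg.Agent.KOa661e27.k9.{1} @Bool (@Nat.mod @x3 @x5) (nat_lit 0) @Bool.false @Bool.true) (@Bool.rec.{1} @(fun x6 => @Bool) @Bool.false (@Cfsg.Agent.KOa661e27.k9.{1} @Bool (@Nat.mod (@Nat.div @x2 @x4) @x5) (nat_lit 0) @Bool.false @Bool.true) (@Cfsg.Agent.KOa661e27.k9.{1} @Bool (@Nat.mod @x5 @x1) (nat_lit 0) @Bool.false @Bool.true))))) @Bool.true (@Cfsg.Agent.KOa661e27.k9.{1} @Bool @x3 @x1 @Bool.false @Bool.true))) ?_); rewrite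 [← Cfsg.Agent.KOa661e27.e9.{1}, ← Cfsg.Agent.KOa661e27.e27.{0}]; rfl') | exact @Cfsg.Agent.H940.Eng.nuc | exact ()
private theorem _root_.Cfsg.Agent.KOa661e27.e28 : (by first | exact @Cfsg.Agent.H940.Eng.nuc = @_root_.Cfsg.Agent.KOa661e27.k28 | exact True : Prop) := by first | (delta _root_.Cfsg.Agent.KOa661e27.k28; exact @Subtype.property _ (fun g => @Cfsg.Agent.H940.Eng.nuc = @g) _) | rfl | trivial
private noncomputable def _root_.Cfsg.Agent.KOa661e27.k29 : (by first | exact type_of% @Cfsg.Agent.H940.Eng.okexp | exact Unit : Sort _) := by first | (refine @Subtype.val _ (fun g => @Cfsg.Agent.H940.Eng.okexp = @g) (@Subtype.mk _ _ (@(fun x0 x1 x2 x3 => @Cfsg.Agent.KOa661e27.k27.{0} _ (@Cfsg.Agent.KOa661e27.k14 (@Nat.add @x3 (nat_lit 1)) []) @(fun x4 => @Bool.rec.{1} @(fun x5 => @Bool) @Bool.false (@Cfsg.Agent.KOa661e27.k9.{1} @Bool (@Nat.mod (@Nat.pow @x2 (@Nat.sub @x3 @x4)) @x0) (@Nat.mod (nat_lit 1) @x0) @Bool.false @Bool.true) (@Cfsg.Agent.KOa661e27.k9.{1} @Bool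 (@Nat.mod @x1 (@Nat.pow @x2 @x4)) (nat_lit 0) @Bool.false @Bool.true)))) ?_); rewrite [← Cfsg.Agent.KOa661e27.e9.{1}, ← Cfsg.Agent.KOa661e27.e14, ← Cfsg.Agent.KOa661e27.e27.{0}]; rfl') | exact @Cfsg.Agent.H940.Eng.okexp | exact ()
private theorem _root_.Cfsg.Agent.KOa661e27.e29 : (by first | exact @Cfsg.Agent.H940.Eng.okexp = @_root_.Cfsg.Agent.KOa661e27.k29 | exact True : Prop) := by first | (delta _root_.Cfsg.Agent.KOa661e27.k29; exact @Subtype.property _ (fun g => @Cfsg.Agent.H940.Eng.okexp = @g) _) | rfl | trivial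
private noncomputable def _root_.Cfsg.Agent.KOa661e27.oB.{ku} (α : Sort ku) (c : Bool) (f t : α) : α := @Decidable.rec (c = true) (fun _ => α) (fun _ => f) (fun _ => t) (instDecidableEqBool c true)
private noncomputable def _root_.Cfsg.Agent.KOa661e27.k30.{ku} (α : Sort ku) (c : Bool) (f t : α) : α := @Bool.rec (fun _ => α) f t c
private theorem _root_.Cfsg.Agent.KOa661e27.e30.{ku} : @_root_.Cfsg.Agent.KOa661e27.oB.{ku} = @_root_.Cfsg.Agent.KOa661e27.k30.{ku} := funext fun α => funext fun c => funext fun f => funext fun t => by cases c <;> rfl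
private noncomputable def _root_.Cfsg.Agent.KOa661e27.k31 : (by first | exact type_of% @Cfsg.Agent.H940.Eng.val | exact Unit : Sort _) := by first | (refine @Subtype.val _ (fun g => @Cfsg.Agent.H940.Eng.val = @g) (@Subtype.mk _ _ (@(fun x0 x1 x2 => @Nat.rec.{1} @(fun x3 => ℕ → ℕ) @(fun x3 => nat_lit 0) @(fun x3 x4 x5 => @Cfsg.Agent.KOa661e27.k30.{1} ℕ (@Cfsg.Agent.KOa661e27.k9.{1} @Bool (@Nat.mod @x5 @x0) (nat_lit 0) @Bool.false @Bool.true) (nat_lit 0) (@Nat.add (@x4 (@Nat.div @x5 @x0)) (nat_lit 1))) @x1 @x2)) ?_); rewrite [← Cfsg.Agent.KOa661e27.e9.{1}, ← Cfsg.Agent.KOa661e27.e30.{1}]; funext a0 a1 a2; refine (congrFun (_root_.Cfsg.Agent.KOa661e27.e1 (fun a1 a2 => @Cfsg.Agent.H940.Eng.val a0 a1 a2) ?_ (fun c0 => ?_) a1) a2 :) <;> (rfl')) | exact @Cfsg.Agent.H940.Eng.val | exact ()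
private theorem _root_.Cfsg.Agent.KOa661e27.e31 : (by first | exact @Cfsg.Agent.H940.Eng.val = @_root_.Cfsg.Agent.KOa661e27.k31 | exact True : Prop) := by first | (delta _root_.Cfsg.Agent.KOa661e27.k31; exact @Subtype.property _ (fun g => @Cfsg.Agent.H940.Eng.val = @g) _) | rfl | trivial
private noncomputable def _root_.Cfsg.Agent.KOa661e27.k32 : (by first | exact type_of% @Cfsg.Agent.H940.Eng.pc | exact Unit : Sort _) := by first | (refine @Subtype.val _ (fun g => @Cfsg.Agent.H940.Eng.pc = @g) (@Subtype.mk _ _ (@(fun x0 x1 x2 x3 => @Cfsg.Agent.KOa661e27.k10.{0} _ @x0 @(fun x4 => @Cfsg.Agent.KOa661e27.k29 @x1 @x2 (@Prod.fst.{0, 0} _ _ @x4) (@Cfsg.Agent.KOa661e27.k31 (@Prod.fst.{0, 0} _ _ @x4) (@Prod.snd.{0, 0} _ _ @x4) @x3)))) ?_); rewrite [← Cfsg.Agent.KOa661e27.e31, ← Cfsg.Agent.KOa661e27.e29, ← Cfsg.Agent.KOa661e27.e10.{0}]; (try delta Cfsg.Agent.H940.Eng.pc); (try generalize @Cfsg.Agent.H940.Eng.okexp = g0); (try generalize @Cfsg.Agent.H940.Eng.val = g1); rfl')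 | exact @Cfsg.Agent.H940.Eng.pc | exact ()
private theorem _root_.Cfsg.Agent.KOa661e27.e32 : (by first | exact @Cfsg.Agent.H940.Eng.pc = @_root_.Cfsg.Agent.KOa661e27.k32 | exact True : Prop) := by first | (delta _root_.Cfsg.Agent.KOa661e27.k32; exact @Subtype.property _ (fun g => @Cfsg.Agent.H940.Eng.pc = @g) _) | rfl | trivial
private noncomputable def _root_.Cfsg.Agent.KOa661e27.k33 : (by first | exact type_of% @Cfsg.Agent.H940.Eng.feasS | exact Unit : Sort _) := by first | (refine @Subtype.val _ (fun g => @Cfsg.Agent.H940.Eng.feasS = @g) (@Subtype.mk _ _ (@(fun x0 x1 x2 x3 x4 x5 x6 => @Bool.rec.{1} @(fun x7 => @Bool) @Bool.false (@Cfsg.Agent.KOa661e27.k27.{0} _ @x1 @(fun x7 => @Bool.rec.{1} @(fun x8 => @Bool) @Bool.false (@Cfsg.Agent.KOa661e27.k28 @x1 @x2 @x4 @x6 @x7) (@Bool.rec.{1} @(fun x8 => @Bool) @Bool.false (@Cfsg.Agent.KOa661e27.k32 @x0 @x2 @x3 (@Nat.div (@Nat.div @x5 @x6) @x7)) (@Bool.rec.{1} @(fun x8 => @Bool) @Bool.false (@Bool.rec.{1} @(fun x8 =>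 @Bool) @Bool.true @Bool.false (@Cfsg.Agent.KOa661e27.k9.{1} @Bool (@Nat.mod (@Nat.div (@Nat.div @x5 @x6) @x7) @x2) (nat_lit 0) @Bool.false @Bool.true)) (@Bool.rec.{1} @(fun x8 => @Bool) @Bool.false (@Cfsg.Agent.KOa661e27.k9.{1} @Bool (@Nat.mod (@Nat.div @x5 @x6) @x7) (nat_lit 0) @Bool.false @Bool.true) (@Cfsg.Agent.KOa661e27.k9.{1} @Bool (@Nat.mod (@Nat.div @x4 @x2) @x7) (nat_lit 0) @Bool.false @Bool.true)))))) (@Cfsg.Agent.KOa661e27.k9.{1} @Bool (@Nat.mod @x5 @x6) (nat_lit 0) @Bool.false @Bool.true))) ?_); rewrite [← Cfsg.Agent.KOa661e27.e9.{1}, ← Cfsg.Agent.KOa661e27.e32, ← Cfsg.Agent.KOa661e27.e28, ← Cfsg.Agent.KOa661e27.e27.{0}]; (try delta Cfsg.Agent.H940.Eng.feasS); (try generalize @Cfsg.Agent.H940.Eng.nuc = g0); (try generalize @Cfsg.Agent.H940.Eng.pc = g1); rfl') | exact @Cfsg.Agent.H940.Eng.feasS | exact ()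
private theorem _root_.Cfsg.Agent.KOa661e27.e33 : (by first | exact @Cfsg.Agent.H940.Eng.feasS = @_root_.Cfsg.Agent.KOa661e27.k33 | exact True : Prop) := by first | (delta _root_.Cfsg.Agent.KOa661e27.k33; exact @Subtype.property _ (fun g => @Cfsg.Agent.H940.Eng.feasS = @g) _) | rfl | trivial
private noncomputable def _root_.Cfsg.Agent.KOa661e27.k34 : (by first | exact type_of% @Cfsg.Agent.H940.Eng.feas | exact Unit : Sort _) := by first | (refine @Subtype.val _ (fun g => @Cfsg.Agent.H940.Eng.feas = @g) (@Subtype.mk _ _ (@(fun x0 x1 x2 x3 => @Bool.rec.{1} @(fun x4 => @Bool) @Bool.false (@Cfsg.Agent.KOa661e27.k27.{0} _ ((@Cfsg.Agent.H940.Eng.LD.r @x1) :: @x2) @(fun x4 => @Bool.rec.{1} @(fun x5 => @Bool) @Bool.false (@Cfsg.Agent.KOa661e27.k33 @x0 (@Cfsg.Agent.KOa661e27.k15 (@Cfsg.Agent.H940.Eng.LD.fN @x1)) (@Cfsg.Agent.H940.Eng.LD.r @x1) (@Cfsg.Agent.H940.Eng.LD.C @x1) (@Cfsg.Agent.KOa661e27.k25 (@Cfsg.Agent.H940.Eng.LD.fN @x1)) @x3 @x4) (@Cfsg.Agent.KOa661e27.k9.{1}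 @Bool (@Nat.mod @x4 (@Cfsg.Agent.H940.Eng.LD.r @x1)) (nat_lit 0) @Bool.false @Bool.true))) (@Cfsg.Agent.KOa661e27.k27.{0} _ (@Cfsg.Agent.KOa661e27.k15 (@Cfsg.Agent.H940.Eng.LD.fN @x1)) @(fun x4 => @Bool.rec.{1} @(fun x5 => @Bool) @Bool.false (@Cfsg.Agent.KOa661e27.k9.{1} @Bool (@Nat.mod (@Nat.div @x3 @x4) (@Cfsg.Agent.H940.Eng.LD.r @x1)) (@Nat.mod (nat_lit 1) (@Cfsg.Agent.H940.Eng.LD.r @x1)) @Bool.false @Bool.true) (@Bool.rec.{1} @(fun x5 => @Bool) @Bool.false (@Cfsg.Agent.KOa661e27.k9.{1} @Bool (@Nat.mod @x3 @x4) (nat_lit 0) @Bool.false @Bool.true) (@Cfsg.Agent.KOa661e27.k9.{1} @Bool (@Nat.mod @x4 (@Cfsg.Agent.H940.Eng.LD.r @x1)) (nat_lit 0) @Bool.false @Bool.true)))))) ?_); rewrite [← Cfsg.Agent.KOa661e27.e9.{1}, ← Cfsg.Agent.KOa661e27.e25, ← Cfsg.Agent.KOa661e27.e15, ← Cfsg.Agent.KOa661e27.e33, ← Cfsg.Agent.KOa661e27.e27.{0}]; (try delta Cfsg.Agent.H940.Eng.feas Cfsg.Agent.H940.Eng.LD.N); (try generalize @Cfsg.Agent.H940.Eng.feasS = g0); (try generalize @Cfsg.Agent.H940.Eng.divsT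 = g1); (try generalize @Cfsg.Agent.OrdDiv.prodl = g2); rfl') | exact @Cfsg.Agent.H940.Eng.feas | exact ()
private theorem _root_.Cfsg.Agent.KOa661e27.e34 : (by first | exact @Cfsg.Agent.H940.Eng.feas = @_root_.Cfsg.Agent.KOa661e27.k34 | exact True : Prop) := by first | (delta _root_.Cfsg.Agent.KOa661e27.k34; exact @Subtype.property _ (fun g => @Cfsg.Agent.H940.Eng.feas = @g) _) | rfl | trivial
private noncomputable def _root_.Cfsg.Agent.KOa661e27.k35 : type_of% @Nat.factorial := @(fun x0 => @Nat.rec.{1} @(fun x1 => ℕ) (nat_lit 1) @(fun x1 x2 => @Nat.mul (@Nat.succ @x1) @x2) @x0)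
private theorem _root_.Cfsg.Agent.KOa661e27.e35 : @Nat.factorial = @_root_.Cfsg.Agent.KOa661e27.k35 := by delta _root_.Cfsg.Agent.KOa661e27.k35; funext a0; refine (_root_.Cfsg.Agent.KOa661e27.e1 (fun a0 => @Nat.factorial a0) ?_ (fun c0 => ?_) a0 :) <;> (rfl')
private noncomputable def _root_.Cfsg.Agent.KOa661e27.k36 : (by first | exact type_of% @Cfsg.Agent.H940.Eng.bad | exact Unit : Sort _) := by first | (refine @Subtype.val _ (fun g => @Cfsg.Agent.H940.Eng.bad = @g) (@Subtype.mk _ _ (@(fun x0 x1 x2 x3 x4 x5 x6 => @Bool.rec.{1} @(fun x7 => @Bool) (@Cfsg.Agent.KOa661e27.k27.{0} _ @x4 @(fun x7 => @Bool.rec.{1} @(fun x8 => @Bool) @Bool.false (@Bool.rec.{1} @(fun x8 => @Bool) @Bool.true @Bool.false (@Cfsg.Agent.KOa661e27.k34 @x0 @x7 @x5 @x6)) (@Cfsg.Agent.KOa661e27.k9.{1} @Bool (@Nat.mod @x6 (@Cfsg.Agent.H940.Eng.LD.r @x7)) (nat_lit 0) @Bool.false @Bool.true))) @Bool.true (@Bool.rec.{1} @(fun x7 => @Bool) (@Bool.rec.{1} @(fun x7 => @Bool) @Bool.false (@Bool.rec.{1}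 @(fun x7 => @Bool) @Bool.true @Bool.false (@Cfsg.Agent.KOa661e27.k9.{1} @Bool (@Nat.mod (@Cfsg.Agent.KOa661e27.k35 (@Nat.div @x1 @x6)) @x1) (nat_lit 0) @Bool.false @Bool.true)) (@Nat.ble (@Nat.div @x1 @x6) @x3)) @Bool.true (@Cfsg.Agent.KOa661e27.k27.{0} _ @x2 @(fun x7 => @Bool.rec.{1} @(fun x8 => @Bool) @Bool.true @Bool.false (@Cfsg.Agent.KOa661e27.k9.{1} @Bool (@Nat.mod (@Nat.div @x1 @x6) @x7) (@Nat.mod (nat_lit 1) @x7) @Bool.false @Bool.true)))))) ?_); rewrite [← Cfsg.Agent.KOa661e27.e35, ← Cfsg.Agent.KOa661e27.e9.{1}, ← Cfsg.Agent.KOa661e27.e34, ← Cfsg.Agent.KOa661e27.e27.{0}]; (try delta Cfsg.Agent.H940.Eng.bad); (try generalize @Cfsg.Agent.H940.Eng.feas = g0); rfl') | exact @Cfsg.Agent.H940.Eng.bad | exact ()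
private theorem _root_.Cfsg.Agent.KOa661e27.e36 : (by first | exact @Cfsg.Agent.H940.Eng.bad = @_root_.Cfsg.Agent.KOa661e27.k36 | exact True : Prop) := by first | (delta _root_.Cfsg.Agent.KOa661e27.k36; exact @Subtype.property _ (fun g => @Cfsg.Agent.H940.Eng.bad = @g) _) | rfl | trivial

theorem on (B : Base) (hs : IsSimpleGroup K) (hn : Nat.card K = 460815505920) (hN : NA 31 K) : Supp.{u} 3 K :=
  of_loc (l := [(3, 4), (5, 1), (7, 3), (11, 1), (19, 1), (31, 1)]) (a := 9) (b := 31) B hs hn (by decide) (D.ords_opn B)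
    D.v_opn D.nd_opn (ld := ⟨31, 900030285, [(2, 1), (3, 4), (5, 1), (7, 3), (11, 1), (19, 1), (31, 1)]⟩)
    (loc_of_na (not_comm_of_card hs hn (by decide)) D.v_opn hn (by decide +kernel) (by decide +kernel) (by decide +kernel)
      hN (by decide +kernel) (by (first | (rewrite [Cfsg.Agent.KOa661e27.e16, Cfsg.Agent.KOa661e27.e17.{0}, Cfsg.Agent.KOa661e27.e18, Cfsg.Agent.KOa661e27.e20.{0}, Cfsg.Agent.KOa661e27.e22, Cfsg.Agent.KOa661e27.e23, Cfsg.Agent.KOa661e27.e25]; decide +kernel) | decide +kernel))) [5643] (by decide +kernel) (by decide +kernel) (by (first | (rewrite [Cfsg.Agent.KOa661e27.e8]; decide +kernel) | decide +kernel))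
    (by (first | (rewrite [Cfsg.Agent.KOa661e27.e10.{0}, Cfsg.Agent.KOa661e27.e23, Cfsg.Agent.KOa661e27.e26.{0}, Cfsg.Agent.KOa661e27.e22, Cfsg.Agent.KOa661e27.e36]; decide +kernel) | decide +kernel))

theorem hn (B : Base) (hs : IsSimpleGroup K) (hn : Nat.card K = 273030912000000) (hN : NA 19 K) : Supp.{u} 3 K :=
  of_loc (l := [(3, 6), (5, 6), (7, 1), (11, 1), (19, 1)]) (a := 14) (b := 25) B hs hn (by decide) (D.ords_hn B)
    D.v_hn D.nd_hn (ld := ⟨19, 5554828125, [(2, 1), (3, 6), (5, 6), (7, 1), (11, 1), (19, 1)]⟩)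
    (loc_of_na (not_comm_of_card hs hn (by decide)) D.v_hn hn (by decide +kernel) (by decide +kernel) (by decide +kernel)
      hN (by decide +kernel) (by (first | (rewrite [Cfsg.Agent.KOa661e27.e16, Cfsg.Agent.KOa661e27.e17.{0}, Cfsg.Agent.KOa661e27.e18, Cfsg.Agent.KOa661e27.e20.{0}, Cfsg.Agent.KOa661e27.e22, Cfsg.Agent.KOa661e27.e23, Cfsg.Agent.KOa661e27.e25]; decide +kernel) | decide +kernel))) [91125, 228096] (by decide +kernel) (by decide +kernel)
    (by (first | (rewrite [Cfsg.Agent.KOa661e27.e8]; decide +kernel) | decide +kernel)) (by (first | (rewrite [Cfsg.Agent.KOa661e27.e10.{0}, Cfsg.Agent.KOa661e27.e23, Cfsg.Agent.KOa661e27.e26.{0}, Cfsg.Agent.KOa661e27.e22, Cfsg.Agent.KOa661e27.e36]; decide +kernel) | decide +kernel))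

theorem he (B : Base) (hs : IsSimpleGroup K) (hn : Nat.card K = 4030387200)
    (h17 : ∀ x : K, orderOf x = 17 → Nat.card (centralizer ({x} : Set K)) = 17) : Supp.{u} 3 K :=
  of_loc (l := [(3, 3), (5, 2), (7, 3), (17, 1)]) (a := 10) (b := 21) B hs hn (by decide) (D.ords_he B)
    D.v_he D.nd_he (ld := ⟨17, 17, [(2, 3), (17, 1)]⟩)
    (loc_of_elt (not_comm_of_card hs hn (by decide)) hn (by decide +kernel) (by decide +kernel) (by decide +kernel)
      (fC := [(17, 1)]) (by decide +kernel) (fun x hx => by rw [h17 x hx]; decide) (by decide +kernel) (by decide +kernel))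
    [256, 1225, 7056] (by decide +kernel) (by decide +kernel) (by (first | (rewrite [Cfsg.Agent.KOa661e27.e8]; decide +kernel) | decide +kernel)) (by decide +kernel)

theorem suz (B : Base) (hs : IsSimpleGroup K) (hn : Nat.card K = 448345497600)
    (h11 : ∀ x : K, orderOf x = 11 → Nat.card (centralizer ({x} : Set K)) ∣ 11 * 2187) : Supp.{u} 3 K :=
  of_loc (l := [(3, 7), (5, 2), (7, 1), (11, 1), (13, 1)]) (a := 13) (b := 18) B hs hn (by decide) (D.ords_suz B)
    D.v_suz D.nd_suz (ld := ⟨11, 24057, [(2, 1), (3, 7), (5, 1), (11, 1)]⟩)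
    (loc_of_elt (not_comm_of_card hs hn (by decide)) hn (by decide +kernel) (by decide +kernel) (by decide +kernel)
      (fC := [(3, 7), (11, 1)]) (by decide +kernel) (fun x hx => (h11 x hx).trans (by decide)) (by decide +kernel)
      (by decide +kernel))
    [4096, 7371, 20736, 372736, 2985984] (by decide +kernel) (by decide +kernel) (by (first | (rewrite [Cfsg.Agent.KOa661e27.e8]; decide +kernel) | decide +kernel)) (by (first | (rewrite [Cfsg.Agent.KOa661e27.e10.{0}, Cfsg.Agent.KOa661e27.e23, Cfsg.Agent.KOa661e27.e26.{0}, Cfsg.Agent.KOa661e27.e22, Cfsg.Agent.KOa661e27.e36]; decide +kernel) | decide +kernel))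

end loc

end Cfsg.Agent.H339.RowSpor
end

-- part: H339/RowSporAll
section
/-!
# Sporadic rows of S5907 (helper339): `Supp 3` for all the sporadic groups but `J2` and `Fi22`
-/

set_option autoImplicit false

namespace Cfsg.Agent.H339.RowSpor

open Subgroup Cfsg Cfsg.Agent.H339.MaxCl Cfsg.Agent.H339.MaxNum Cfsg.Agent.H940.Eng Cfsg.Agent.H393.Iso

universe u v w

/-- reduction to a model in `Type` -/
theorem of_model {n : ℕ} {M : Type} [Group M] {K : Type v} [Group K] [Finite K] (hs : IsSimpleGroup K) (e : K ≃* M)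
    (h : ∀ [Finite M], IsSimpleGroup M → Supp.{u} n M) : Supp.{u} n K := by
  have : Finite M := Finite.of_equiv _ e.toEquiv
  exact (h (e.symm.isSimpleGroup)).congr e.symm

/-- the two groups which are not done by arithmetic -/
structure Rest : Prop where
  j2 : Supp.{u} 3 Cfsg.Spor.J2
  fi22 : Supp.{u} 3 Cfsg.Spor.Fi22

theorem supp_spor (B : Base) (R : Rest.{u}) {K : Type v} [Group K] [Finite K] (hs : IsSimpleGroup K)
    (h : IsSporadicGroup K) : Supp.{u} 3 K := by
  have h0 := h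
  rcases h with h | h | h | h | h | h | h | h | h | h | h | h | h | h | h | h | h | h | h | h | h | h | h | h | h | h
  · obtain ⟨e⟩ := h
    exact of_model hs e fun _ => supp_of_out S2060.result
  · have hc := NotCT.Orders.m12 h
    have hN := na_m12 h
    obtain ⟨e⟩ := h
    exact of_model hs e fun h1 => m12 B h1 ((Nat.card_congr e.toEquiv).symm.trans hc) (hN.of_equiv e)
  · exact m22 hs (NotCT.Orders.m22 h)
  · obtain ⟨e⟩ := h
    exact of_model hs e fun _ => supp_of_out S2063.result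
  · obtain ⟨e⟩ := h
    exact of_model hs e fun _ => supp_of_out S2064.result
  · obtain ⟨e⟩ := h
    exact of_model hs e fun _ => supp_of_out S2065.result
  · obtain ⟨e⟩ := h
    exact R.j2.congr e.symm
  · exact j3 hs (NotCT.Orders.j3 h)
  · obtain ⟨e⟩ := h
    exact of_model hs e fun _ => supp_of_out S2068.result
  · obtain ⟨e⟩ := h
    exact of_model hs e fun _ => supp_of_out S2069.result
  · obtain ⟨e⟩ := h
    exact of_model hs e fun _ => supp_of_out S2070.result
  · obtain ⟨e⟩ := h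
    exact of_model hs e fun _ => supp_of_out S2071.result
  · exact mcl hs (NotCT.Orders.mcl h)
  · exact RowSpor.hs hs (NotCT.Orders.hs h)
  · have hc := NotCT.Orders.suz h
    obtain ⟨e⟩ := h
    exact of_model hs e fun h1 => suz B h1 ((Nat.card_congr e.toEquiv).symm.trans hc) fun x hx => H503.TwoSuz.eleven hx
  · have hc := NotCT.Orders.he h
    obtain ⟨e⟩ := h
    have hc' := (Nat.card_congr e.toEquiv).symm.trans hc
    exact of_model hs e fun h1 => he B h1 hc' fun x hx => H547.SelfCent.HeRow.he ⟨MulEquiv.refl _⟩ hc' hx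
  · obtain ⟨e⟩ := h
    exact of_model hs e fun _ => supp_of_out S2077.result
  · have hc := NotCT.Orders.on h
    have hN := na_on h
    obtain ⟨e⟩ := h
    exact of_model hs e fun h1 => on B h1 ((Nat.card_congr e.toEquiv).symm.trans hc) (hN.of_equiv e)
  · obtain ⟨e⟩ := h
    exact of_model hs e fun _ => supp_of_out S2076.result
  · obtain ⟨e⟩ := h
    exact R.fi22.congr e.symm
  · obtain ⟨e⟩ := h
    exact of_model hs e fun _ => supp_of_out S2080.result
  · exact fi24 hs (NotCT.Orders.fi24 h)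
  · have hc := NotCT.Orders.hn h
    have hN := na_hn h
    obtain ⟨e⟩ := h
    exact of_model hs e fun h1 => hn B h1 ((Nat.card_congr e.toEquiv).symm.trans hc) (hN.of_equiv e)
  · obtain ⟨e⟩ := h
    exact of_model hs e fun _ => supp_of_out S2083.result
  · obtain ⟨e⟩ := h
    exact of_model hs e fun _ => supp_of_out S2084.result
  · obtain ⟨e⟩ := h
    exact of_model hs e fun _ => supp_of_out S2085.result

end Cfsg.Agent.H339.RowSpor
end

private theorem dce_2362c543e799 : _root_.True := by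
  try have : _root_.True := by simp only [_root_.Cfsg.Agent.H339.MaxNum.splitD.eq_def]
  try have : _root_.True := by simp only [_root_.Cfsg.Agent.H339.MaxNum.powAll.eq_def]
  try have : _root_.True := by simp only [_root_.Cfsg.Agent.H339.MaxNum.anyNe.eq_def]
  try have : _root_.True := by simp only [_root_.Cfsg.Agent.H339.MaxNum.memB.eq_def]
  exact _root_.True.intro
end
end
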